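import Groth.Agent.PicCurve.TorsCard
import Groth.Agent.AVTors.TatePt
import Groth.Agent.H23.MulEtale
import Groth.Agent.SmoothSecLib.Basic
import Groth.Agent.SteinConn.Basic

/-!
# Torsion of the Picard group over finite separable extensions
-/

set_option autoImplicit false
set_option linter.style.haveILetI false
set_option linter.unusedSectionVars false
set_option backward.isDefEq.respectTransparency false
set_option backward.isDefEq.respectTransparency.types false
set_option maxHeartbeats 1000000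
set_option synthInstance.maxHeartbeats 400000

universe u

open CategoryTheory CategoryTheory.Limits AlgebraicGeometry TopologicalSpace MonoidalCategory CartesianMonoidalCategory
open scoped CategoryTheory.MonObj

noncomputable section

namespace Groth.Agent.PicCurve

open Groth.Agent Groth.Agent.H23 Groth.Agent.H23.PicMul Groth.Agent.H26 Groth.Agent.Pic13Lib
  Groth.Agent.PicTangent Groth.Agent.PicTangent.JacDiff Groth.Agent.EllLaw
open scoped Groth.Agent.H23.PicMul

attribute [local instance] PicMul.clMonoid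

variable {k : Type u} [Field k]

/-- The images of an étale algebra in an extension field are separable. -/
theorem isSeparable_apply {C Ω : Type u} [CommRing C] [Algebra k C] [Algebra.Etale k C] [Field Ω] [Algebra k Ω]
    (a : C →ₐ[k] Ω) (c : C) : _root_.IsSeparable k (a c) := by
  haveI : Module.Finite k C := Algebra.FormallyUnramified.finite_of_free k C
  haveI : IsArtinianRing C := IsArtinianRing.of_finite k C
  let P : Ideal C := RingHom.ker a
  haveI : P.IsPrime := RingHom.ker_isPrime _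
  haveI : P.IsMaximal := IsArtinianRing.isMaximal_of_isPrime P
  letI : Field (C ⧸ P) := Ideal.Quotient.field P
  haveI : Algebra.FormallyUnramified k (C ⧸ P) := Algebra.FormallyUnramified.comp k C (C ⧸ P)
  haveI : Module.Finite k (C ⧸ P) := Module.Finite.quotient k P
  haveI : Algebra.IsSeparable k (C ⧸ P) := Algebra.FormallyUnramified.isSeparable k _
  let b : (C ⧸ P) →ₐ[k] Ω := Ideal.Quotient.liftₐ P a fun _ h => h
  have h := Algebra.IsSeparable.isSeparable k (Ideal.Quotient.mk P c)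
  have e : b (Ideal.Quotient.mk P c) = a c := rfl
  rw [← e]
  unfold _root_.IsSeparable at h ⊢
  rwa [minpoly.algHom_eq b b.toRingHom.injective]

/-- The sections of a finite étale scheme over an extension are defined over a finite separable subextension. -/
theorem exists_splitting {W : Scheme.{u}} (q : W ⟶ Spec (CommRingCat.of k)) [IsFinite q] [Etale q]
    (Ω : Type u) [Field Ω] [Algebra k Ω] :
    ∃ L : IntermediateField k Ω, FiniteDimensional k L ∧ Algebra.IsSeparable k L ∧
      ∀ t : Spec (CommRingCat.of Ω) ⟶ W, t ≫ q = Spec.map (CommRingCat.ofHom (algebraMap k Ω)) →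
        ∃ t' : Spec (CommRingCat.of L) ⟶ W, Spec.map (CommRingCat.ofHom (algebraMap L Ω)) ≫ t' = t ∧
          t' ≫ q = Spec.map (CommRingCat.ofHom (algebraMap k L)) := by
  classical
  haveI : IsAffine W := isAffine_of_isAffineHom q
  let φ : CommRingCat.of k ⟶ Γ(W, ⊤) := Spec.preimage (W.isoSpec.inv ≫ q)
  have hφ : Spec.map φ = W.isoSpec.inv ≫ q := Spec.map_preimage _
  letI : Algebra k Γ(W, ⊤) := φ.hom.toAlgebra
  haveI : Algebra.Etale k Γ(W, ⊤) := by
    have h' : Etale (Spec.map φ) := by rw [hφ]; infer_instance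
    rw [HasRingHomProperty.Spec_iff (P := @Etale)] at h'
    exact h'
  haveI : Module.Finite k Γ(W, ⊤) := Algebra.FormallyUnramified.finite_of_free k Γ(W, ⊤)
  haveI : Finite (Γ(W, ⊤) →ₐ[k] Ω) := inferInstance
  obtain ⟨S, hS⟩ := (inferInstance : Module.Finite k Γ(W, ⊤)).1
  let G : Set Ω := ⋃ a : Γ(W, ⊤) →ₐ[k] Ω, a '' (S : Set Γ(W, ⊤))
  have hG : G.Finite := Set.finite_iUnion fun a => (S.finite_toSet).image _
  have hsep : ∀ x ∈ G, _root_.IsSeparable k x := fun x hx => by
    obtain ⟨a, c, -, rfl⟩ := Set.mem_iUnion.1 hx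
    exact isSeparable_apply a c
  let L := IntermediateField.adjoin k G
  haveI : FiniteDimensional k L := by
    haveI := hG.to_subtype
    exact IntermediateField.finiteDimensional_adjoin fun x hx => (hsep x hx).isIntegral
  refine ⟨L, inferInstance, (IntermediateField.isSeparable_adjoin_iff_isSeparable k Ω).2 hsep, fun t ht => ?_⟩
  let ψ : Γ(W, ⊤) ⟶ CommRingCat.of Ω := Spec.preimage (t ≫ W.isoSpec.hom)
  have hψ : Spec.map ψ = t ≫ W.isoSpec.hom := Spec.map_preimage _
  have hψφ : φ ≫ ψ = CommRingCat.ofHom (algebraMap k Ω) := Spec.map_injective (by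
    rw [Spec.map_comp, hψ, hφ, Category.assoc, Iso.hom_inv_id_assoc, ht])
  let a : Γ(W, ⊤) →ₐ[k] Ω :=
    { ψ.hom with commutes' := fun r => congr($(hψφ).hom r) }
  have hmem : ∀ c, a c ∈ L := fun c => by
    have hc : c ∈ Submodule.span k (S : Set Γ(W, ⊤)) := hS ▸ trivial
    induction hc using Submodule.span_induction with
    | mem x hx => exact IntermediateField.subset_adjoin k G (Set.mem_iUnion.2 ⟨a, x, hx, rfl⟩)
    | zero => rw [map_zero]; exact zero_mem L
    | add x y _ _ hx hy => rw [map_add]; exact add_mem hx hy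
    | smul r x _ hx => rw [map_smul]; exact IntermediateField.smul_mem L hx
  let a' : Γ(W, ⊤) →ₐ[k] L := a.codRestrict L.toSubalgebra hmem
  refine ⟨Spec.map (CommRingCat.ofHom a'.toRingHom) ≫ W.isoSpec.inv, ?_, ?_⟩
  · rw [← Category.assoc, ← Spec.map_comp, ← cancel_mono W.isoSpec.hom, Category.assoc, Iso.inv_hom_id,
      Category.comp_id, ← hψ]
    congr 1
  · rw [Category.assoc, ← hφ, ← Spec.map_comp]
    congr 1
    exact CommRingCat.hom_ext (RingHom.ext fun r => a'.commutes r)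

/-- Torsion points of an abelian variety with values in the algebraic closure are defined over a finite separable
extension. -/
theorem exists_full_torsion (A : Over (Spec (CommRingCat.of k))) [GrpObj A] [IsCommMonObj A] [IsProper A.hom]
    [GeometricallyIntegral A.hom] {g : ℕ} (hg : topologicalKrullDim A.left = g) (n : ℕ) (hn : (n : k) ≠ 0) :
    ∃ L : IntermediateField k (AlgebraicClosure k), FiniteDimensional k L ∧ Algebra.IsSeparable k L ∧
      Nat.card (AbDual.torsPts A n (SGA7.pt L)) = n ^ (2 * g) := by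
  let Ω := AlgebraicClosure k
  have hn0 : 0 < n := Nat.pos_of_ne_zero fun h => hn (by rw [h, Nat.cast_zero])
  obtain ⟨hf, hfl, -⟩ := AVDegLib.zpow_props (A := A) (n : ℤ) (by exact_mod_cast hn0.ne')
  rw [zpow_natCast] at hf hfl
  haveI : IsFinite (pullback.fst (η[A]).left (𝟙 A ^ n : A ⟶ A).left) :=
    MorphismProperty.pullback_fst (P := @IsFinite) _ _ hf
  haveI : Etale (pullback.fst (η[A]).left (𝟙 A ^ n : A ⟶ A).left) := by
    have hu : IsUnit ((n : ℤ) : Γ(Spec (CommRingCat.of k), ⊤)) := by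
      have h := (isUnit_iff_ne_zero.2 hn).map (Scheme.ΓSpecIso (CommRingCat.of k)).inv.hom
      rw [map_natCast] at h
      simpa using h
    haveI : GeometricallyConnected A.hom := H23.CubeAb.geometricallyConnected_of_integral A.hom
    haveI : LocallyOfFinitePresentation A.hom := inferInstance
    refine MorphismProperty.pullback_fst (P := @Etale) _ _ ?_
    have := H23.MulEtale.etale_zpow (X := A) (n : ℤ) hu
    rwa [zpow_natCast] at this
  obtain ⟨L, hLf, hLs, hL⟩ := exists_splitting (pullback.fst (η[A]).left (𝟙 A ^ n : A ⟶ A).left) Ω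
  refine ⟨L, hLf, hLs, ?_⟩
  let i : SGA7.pt (K := k) Ω ⟶ SGA7.pt (K := k) L := Over.homMk (Spec.map (CommRingCat.ofHom (algebraMap L Ω))) (by
    show _ ≫ Spec.map _ = Spec.map _
    rw [← Spec.map_comp]
    congr 1)
  haveI : Flat i.left := by
    show Flat (Spec.map (CommRingCat.ofHom (algebraMap L Ω)))
    rw [Flat.SpecMap_iff]
    exact RingHom.flat_algebraMap_iff.2 inferInstance
  haveI : Surjective i.left := ⟨fun z => by
    haveI : Subsingleton ↥(SGA7.pt (K := k) L).left := inferInstanceAs (Subsingleton (PrimeSpectrum L))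
    exact ⟨(IsLocalRing.closedPoint Ω : PrimeSpectrum Ω), Subsingleton.elim _ _⟩⟩
  haveI : Epi i.left := Flat.epi_of_flat_of_surjective i.left
  have hm : ∀ a : SGA7.pt (K := k) L ⟶ A, a ∈ AbDual.torsPts A n (SGA7.pt L) →
      i ≫ a ∈ AbDual.torsPts A n (SGA7.pt Ω) := fun a ha => by
    show (i ≫ a) ^ n = 1
    rw [← MonObj.comp_pow, show a ^ n = 1 from ha, MonObj.comp_one]
  refine (Nat.card_congr (Equiv.ofBijective
    (fun a : AbDual.torsPts A n (SGA7.pt L) => (⟨i ≫ a.1, hm a.1 a.2⟩ : AbDual.torsPts A n (SGA7.pt Ω)))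
    ⟨fun a b e => Subtype.ext (Over.OverMorphism.ext ((cancel_epi i.left).1
      (congrArg (fun z : AbDual.torsPts A n (SGA7.pt Ω) => z.1.left) e))), fun b => ?_⟩)).trans ?_
  · obtain ⟨t', ht', ht'q⟩ := hL (H23.TorsRed.ptsEquiv A n (SGA7.pt Ω) ⟨b.1, b.2⟩).1
      (H23.TorsRed.ptsEquiv A n (SGA7.pt Ω) ⟨b.1, b.2⟩).2
    let a := (H23.TorsRed.ptsEquiv A n (SGA7.pt L)).symm ⟨t', ht'q⟩
    refine ⟨⟨a.1, a.2⟩, Subtype.ext (Over.OverMorphism.ext ?_)⟩
    show i.left ≫ t' ≫ pullback.snd _ _ = _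
    rw [← Category.assoc]
    refine (congrArg (fun m => m ≫ pullback.snd _ _) ht').trans ?_
    exact pullback.lift_snd _ _ _
  · obtain ⟨hfin, -, hiso⟩ := AVTors.finite_torsPts_pt Ω A hg n hn0
    have hΩ : (n : Ω) ≠ 0 := fun h => hn ((algebraMap k Ω).injective (by rw [map_natCast, map_zero]; exact h))
    obtain ⟨e⟩ := hiso hΩ
    rw [Nat.card_congr e.toEquiv, Nat.card_congr Multiplicative.toAdd, Nat.card_fun, Nat.card_zmod, Nat.card_fin]

variable {X : Scheme.{u}} (f : X ⟶ Spec (CommRingCat.of k)) [IsProper f]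
  [SmoothOfRelativeDimension 1 f] [GeometricallyConnected f]
  (σ : Spec (CommRingCat.of k) ⟶ X) (hσ : σ ≫ f = 𝟙 _)
  {J : Over (Spec (CommRingCat.of k))} [GrpObj J] [IsCommMonObj J] {ζ : PicF.Rig f σ hσ J}

include hσ in
/-- Torsion classes over an extension field are torsion points of the Jacobian. -/
theorem card_tors_field (hu : IsUniv0 f σ hσ ζ) (hm : IsMulClass f σ hσ ζ) (n : ℕ) (hn : 0 < n)
    {L : Type u} [Field L] [Algebra k L] :
    Nat.card {c : PicF.Cl (PicF.XT f (SGA7.pt (K := k) L)) | PicF.IsInvertibleCl c ∧ c ^ n = 1} =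
      Nat.card (AbDual.torsPts J n (SGA7.pt (K := k) L)) := by
  let B := SGA7.pt (K := k) L
  have hclsn : ∀ a : B ⟶ J, ∀ m : ℕ, cls f σ hσ ζ (a ^ m) = cls f σ hσ ζ a ^ m := fun a m =>
    map_pow (clsHom f σ hσ hm B) a m
  have hinv : ∀ (a : B ⟶ J), a ^ n = 1 → cls f σ hσ ζ a ∈
      {c : PicF.Cl (PicF.XT f B) | PicF.IsInvertibleCl c ∧ c ^ n = 1} := fun a ha =>
    ⟨cls_invertible f σ hσ ζ a, by rw [← hclsn, ha, cls_one f σ hσ hm]⟩
  refine (Nat.card_congr (Equiv.ofBijective
    (fun a : AbDual.torsPts J n B => (⟨_, hinv a.1 a.2⟩ : {c : PicF.Cl (PicF.XT f B) | PicF.IsInvertibleCl c ∧ c ^ n = 1}))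
    ⟨fun a b e => Subtype.ext (hom_ext_rel f σ hσ hu (Rel.of_eq (congrArg Subtype.val e))), fun c => ?_⟩)).symm
  obtain ⟨hc, hcn⟩ := c.2
  let c' : PicF.Rig f σ hσ B := ⟨c.1, hc,
    JacPoint.eq_structure_of_isLocalRing (R := L) (PicClLib.isInvertibleCl_pullCl _ hc)⟩
  have hd0 : ∀ t, degAt f B c'.1 t = 0 := fun t => by
    have hp : ∀ m : ℕ, PicF.IsInvertibleCl (c.1 ^ m) ∧ degAt f B (c.1 ^ m) t = m * degAt f B c.1 t := by
      intro m
      induction m with
      | zero => rw [pow_zero, degAt_one, Nat.cast_zero, zero_mul]; exact ⟨⟨_, rfl, InvX.isInvertible_structureModule⟩, rfl⟩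
      | succ m ih =>
        rw [pow_succ, degAt_mul f ih.1 hc, ih.2]
        exact ⟨PicMul.isInvertibleCl_mul ih.1 hc, by push_cast; ring⟩
    have h := (hp n).2
    rw [hcn, degAt_one] at h
    exact (mul_eq_zero.1 h.symm).resolve_left (by exact_mod_cast hn.ne')
  obtain ⟨g, hg, -⟩ := hu.2 B c' ((hasFibreDegreeZeroCl_iff f c'.2.1).2 hd0)
  have hgc : cls f σ hσ ζ g = c.1 := hg
  refine ⟨⟨g, hom_ext_rel f σ hσ hu (Rel.of_eq ?_)⟩, Subtype.ext hgc⟩
  show cls f σ hσ ζ _ = cls f σ hσ ζ _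
  rw [cls_one f σ hσ hm]
  exact (hclsn g n).trans (by rw [hgc, hcn])

omit f σ hσ in
/-- A bijection of classes along an isomorphism. -/
theorem card_tors_iso {Y Y' : Scheme.{u}} (e : Y ≅ Y') (n : ℕ) :
    Nat.card {c : PicF.Cl Y' | PicF.IsInvertibleCl c ∧ c ^ n = 1} =
      Nat.card {c : PicF.Cl Y | PicF.IsInvertibleCl c ∧ c ^ n = 1} :=
  Nat.card_congr
    { toFun := fun c => ⟨PicF.pullCl e.hom c.1, PicClLib.isInvertibleCl_pullCl _ c.2.1, by
        rw [← PicMul.pullCl_pow, c.2.2, PicMul.pullCl_one]⟩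
      invFun := fun c => ⟨PicF.pullCl e.inv c.1, PicClLib.isInvertibleCl_pullCl _ c.2.1, by
        rw [← PicMul.pullCl_pow, c.2.2, PicMul.pullCl_one]⟩
      left_inv := fun c => Subtype.ext (by
        show PicF.pullCl e.inv (PicF.pullCl e.hom c.1) = c.1
        rw [PicClLib.pullCl_comp, e.inv_hom_id, PicClLib.pullCl_id])
      right_inv := fun c => Subtype.ext (by
        show PicF.pullCl e.hom (PicF.pullCl e.inv c.1) = c.1
        rw [PicClLib.pullCl_comp, e.hom_inv_id, PicClLib.pullCl_id]) }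

theorem tors_set_eq' {Y : Scheme.{u}} (n : ℕ) :
    {c : PicF.Cl Y | ∃ M : Y.Modules, PicF.cl M = c ∧ PicF.IsInvertible M ∧
      Nonempty (CohB1.tensorPow M n ≅ Coh.structureModule Y)} =
    {c : PicF.Cl Y | PicF.IsInvertibleCl c ∧ c ^ n = 1} := by
  ext c
  constructor
  · rintro ⟨M, rfl, hM, e⟩
    exact ⟨⟨M, rfl, hM⟩, (PicMul.cl_tensorPow M n).symm.trans ((PicMul.cl_eq_iff.2 e).trans PicMul.one_def.symm)⟩
  · rintro ⟨⟨M, rfl, hM⟩, e⟩
    exact ⟨M, rfl, hM, PicMul.cl_eq_iff.1 ((PicMul.cl_tensorPow M n).trans (e.trans PicMul.one_def))⟩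

include σ hσ in
/-- A pointed curve acquires full torsion over a finite separable extension. -/
theorem exists_full_pic_torsion {g : ℕ} (hg : (letI : X.Over (Spec (CommRingCat.of k)) := ⟨f⟩; Curv2.genus k X) = g)
    (n : ℕ) (hn : (n : k) ≠ 0) :
    ∃ L : IntermediateField k (AlgebraicClosure k), FiniteDimensional k L ∧ Algebra.IsSeparable k L ∧
      Nat.card {c : PicF.Cl (PicF.XT f (SGA7.pt (K := k) L)) | PicF.IsInvertibleCl c ∧ c ^ n = 1} = n ^ (2 * g) := by
  obtain ⟨J, ξ, h₁, h₂, h₃, h₄, h₅⟩ := exists_jacobian f σ hσ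
  have hu : IsUniv0 f σ hσ ξ := ⟨h₄, h₅⟩
  haveI : GeometricallyIntegral J.hom := geometricallyIntegral_of_smooth J.hom
  letI := jacGrpObj f σ hσ ξ hu
  have hm := isMulClass_jac f σ hσ ξ hu
  haveI := isCommMonObj f σ hσ hm hu
  have hd : topologicalKrullDim J.left = (g : WithBot ℕ∞) := by rw [dim_jacobian f σ hσ hu, hg]
  obtain ⟨L, hLf, hLs, hL⟩ := exists_full_torsion J hd n hn
  refine ⟨L, hLf, hLs, ?_⟩
  rw [card_tors_field f σ hσ hu hm n (Nat.pos_of_ne_zero fun h => hn (by rw [h, Nat.cast_zero]))]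
  exact hL

end Groth.Agent.PicCurve
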