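import Groth.Agent.PicCurve.Dim
import Groth.Agent.SeesawX.PnSpec
import Groth.Agent.S1866
import Groth.Prelude.Def_RelProj
import Groth.Agent.H23.EquidimFibres

/-!
# The Picard schemes of all degrees of a pointed curve
-/

set_option autoImplicit false
set_option linter.style.haveILetI false
set_option linter.unusedSectionVars false
set_option backward.isDefEq.respectTransparency false
set_option backward.isDefEq.respectTransparency.types false
set_option maxHeartbeats 1000000
set_option synthInstance.maxHeartbeats 400000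

universe u

open CategoryTheory CategoryTheory.Limits AlgebraicGeometry TopologicalSpace MonoidalCategory CartesianMonoidalCategory

noncomputable section

namespace Groth.Agent.PicCurve

open Groth.Agent Groth.Agent.H23 Groth.Agent.H23.PicMul Groth.Agent.H26 Groth.Agent.Pic13Lib
  Groth.Agent.PicTangent Groth.Agent.PicTangent.JacDiff Groth.Agent.EllLaw
open scoped Groth.Agent.H23.PicMul

attribute [local instance] PicMul.clMonoid

variable {k : Type u} [Field k] {X : Scheme.{u}} (f : X ⟶ Spec (CommRingCat.of k)) [IsProper f]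
  [SmoothOfRelativeDimension 1 f] [GeometricallyConnected f]

/-- The pull back of a family of degree `d` has degree `d`. -/
theorem picDeg_ok_pull {d : ℤ} {T T' : Over (Spec (CommRingCat.of k))} (g : T' ⟶ T)
    {L : (PicF.XT f T).Modules} (hL : (ModFun.PicDeg f d).ok T L) :
    (ModFun.PicDeg f d).ok T' ((Scheme.Modules.pullback (PicF.XTmap f g)).obj L) := by
  obtain ⟨hi, hd⟩ := (picDeg_ok_iff f).1 hL
  exact (picDeg_ok_iff f).2 ⟨PicClLib.isInvertible_pullback _ hi, fun t =>
    (degAt_pull f g ⟨L, rfl, hi⟩ t).trans (hd _)⟩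

variable (σ : Spec (CommRingCat.of k) ⟶ X) (hσ : σ ≫ f = 𝟙 _)

include σ hσ in
/-- **The Picard scheme of every degree has a universal family.** -/
theorem exists_univFamily_picDeg (d : ℤ) :
    ∃ (J : Over (Spec (CommRingCat.of k))) (_ : GrpObj J) (P : (PicF.XT f J).Modules),
      IsProper J.hom ∧ Smooth J.hom ∧ GeometricallyIntegral J.hom ∧
      ModFun.IsUnivFamily ⊤ (ModFun.PicDeg f d) J P := by
  obtain ⟨J, ξ, h₁, h₂, h₃, h₄, h₅⟩ := exists_jacobian f σ hσ
  have hu : IsUniv0 f σ hσ ξ := ⟨h₄, h₅⟩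
  haveI : GeometricallyIntegral J.hom := geometricallyIntegral_of_smooth J.hom
  obtain ⟨E, hE, hdE⟩ := exists_shift f σ hσ d
  have hEi : ∀ T, PicF.IsInvertibleCl (fromX f T E) := fun T => PicClLib.isInvertibleCl_pullCl _ hE
  have hξ0 : ∀ t, degAt f J ξ.1 t = 0 := (hasFibreDegreeZeroCl_iff f ξ.2.1).1 hu.1
  obtain ⟨P, hPc, hP⟩ := PicMul.isInvertibleCl_mul ξ.2.1 (hEi J)
  have key : ∀ {T : Over (Spec (CommRingCat.of k))} (g : T ⟶ J),
      PicF.cl ((Scheme.Modules.pullback (PicF.XTmap f g)).obj P) = PicF.pullCl (PicF.XTmap f g) ξ.1 * fromX f T E :=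
    fun g => (congrArg (PicF.pullCl (PicF.XTmap f g)) hPc).trans (by rw [PicMul.pullCl_mul, pull_fromX])
  refine ⟨J, jacGrpObj f σ hσ ξ hu, P, h₁, h₂, inferInstance, (picDeg_ok_iff f).2 ⟨hP, fun t => ?_⟩,
    fun T L _ hL => ?_⟩
  · rw [hPc, degAt_mul f ξ.2.1 (hEi J), hξ0, hdE, zero_add]
  · obtain ⟨hLi, hLd⟩ := (picDeg_ok_iff f).1 hL
    let Ei := invCl (hEi T)
    have hc : PicF.IsInvertibleCl (PicF.cl L * Ei) :=
      PicMul.isInvertibleCl_mul ⟨L, rfl, hLi⟩ (invCl_invertible _)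
    have hcE : PicF.cl L * Ei * fromX f T E = PicF.cl L := by rw [mul_assoc, invCl_mul, mul_one]
    have hd0 : ∀ t, degAt f T (rigidify f σ hσ hc).1 t = 0 := fun t => by
      have h := degAt_mul f hc (hEi T) t
      rw [hcE, hLd, hdE] at h
      rw [degAt_rel f hc (rel_rigidify f σ hσ hc)]
      linarith
    obtain ⟨g, hg, -⟩ := hu.2 T _ ((hasFibreDegreeZeroCl_iff f (rigidify f σ hσ hc).2.1).2 hd0)
    have hgr : Rel f T (PicF.pullCl (PicF.XTmap f g) ξ.1) (PicF.cl L * Ei) :=
      (Rel.of_eq hg).trans (rel_rigidify f σ hσ hc)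
    have h1 := hgr.mul (Rel.refl (f := f) (fromX f T E))
    rw [hcE, ← key] at h1
    refine ⟨g, (picDeg_r_iff f).2 h1.symm, fun g' hg' => hom_ext_rel f σ hσ hu ?_⟩
    have h2 := (((picDeg_r_iff f).1 hg').symm.mul (Rel.refl (f := f) Ei))
    have hEE : fromX f T E * Ei = 1 := (mul_comm _ _).trans (invCl_mul _)
    change Rel f T (PicF.cl ((Scheme.Modules.pullback (PicF.XTmap f g')).obj P) * Ei) (PicF.cl L * Ei) at h2
    rw [key, mul_assoc, hEE, mul_one] at h2
    exact h2.trans hgr.symm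

variable {d : ℤ} {J : Over (Spec (CommRingCat.of k))} {P : (PicF.XT f J).Modules}
  (hP : ModFun.IsUnivFamily ⊤ (ModFun.PicDeg f d) J P) (Q : ObjectProperty (Over (Spec (CommRingCat.of k))))

/-- The classifying map of a universal family. -/
def classifyHom : (ModFun.PicDeg f d).Hom Q J where
  app T L _ hL := (hP.2 T L trivial hL).exists.choose
  natural {T T'} g L _ _ hL hL' := by
    refine (hP.2 T' _ trivial hL').unique (hP.2 T' _ trivial hL').exists.choose_spec ((picDeg_r_iff f).2 ?_)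
    refine (((picDeg_r_iff f).1 (hP.2 T L trivial hL).exists.choose_spec).pull g).trans (Rel.of_eq ?_)
    exact (PicClLib.pullCl_comp _ _ _).trans (congrArg (fun m => PicF.pullCl m (PicF.cl P)) (PicClLib.XTmap_comp f _ _).symm)
  resp {T} L L' _ hL hL' h := by
    refine (hP.2 T L' trivial hL').unique ((picDeg_r_iff f).2 ?_) (hP.2 T L' trivial hL').exists.choose_spec
    exact ((picDeg_r_iff f).1 h).trans ((picDeg_r_iff f).1 (hP.2 T L trivial hL).exists.choose_spec)

theorem classifyHom_eq {T : Over (Spec (CommRingCat.of k))} {L : (PicF.XT f T).Modules} (hT : Q T)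
    (hL : (ModFun.PicDeg f d).ok T L) (g : T ⟶ J)
    (h : Rel f T (PicF.cl L) (PicF.pullCl (PicF.XTmap f g) (PicF.cl P))) :
    (classifyHom f hP Q).app T L hT hL = g :=
  (hP.2 T L trivial hL).unique (hP.2 T L trivial hL).exists.choose_spec ((picDeg_r_iff f).2 h)

/-- **A universal family gives a coarse moduli scheme, tested on any class containing the affine schemes.** -/
theorem isCoarseModuli_classifyHom (hQ : ∀ T : Over (Spec (CommRingCat.of k)), IsAffine T.left → Q T) :
    ModFun.IsCoarseModuli Q (ModFun.PicDeg f d) J (classifyHom f hP Q) := by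
  refine ⟨fun Ω _ _ t => hQ _ (inferInstanceAs (IsAffine (Spec (CommRingCat.of Ω)))), fun N ψ => ?_,
    fun Ω _ _ t hT => ⟨fun g => ?_, fun x y hx hy e => ?_⟩⟩
  · let O : ∀ {Z : Scheme.{u}} (_ : Z ⟶ J.left), Over (Spec (CommRingCat.of k)) := fun {Z} a => Over.mk (a ≫ J.hom)
    let m : ∀ {Z : Scheme.{u}} (a : Z ⟶ J.left), O a ⟶ J := fun a => Over.homMk a rfl
    have hok : ∀ {Z : Scheme.{u}} (a : Z ⟶ J.left), (ModFun.PicDeg f d).ok (O a) ((ModFun.PicDeg f d).pull (m a) P) := fun a => picDeg_ok_pull f _ hP.1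
    let G : ∀ {Z : Scheme.{u}} [IsAffine Z] (a : Z ⟶ J.left), O a ⟶ N := fun {Z} _ a =>
      ψ.app (O a) ((ModFun.PicDeg f d).pull (m a) P) (hQ _ ‹IsAffine Z›) (hok a)
    have hG : ∀ {Z Z' : Scheme.{u}} [IsAffine Z] [IsAffine Z'] (a : Z ⟶ J.left) (w : Z' ⟶ Z) (a' : Z' ⟶ J.left),
        w ≫ a = a' → (G a').left = w ≫ (G a).left := by
      intro Z Z' _ _ a w a' e
      subst e
      let b : O (w ≫ a) ⟶ O a := Over.homMk w (Category.assoc _ _ _).symm
      have hb : b ≫ m a = m (w ≫ a) := Over.OverMorphism.ext rfl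
      have h1 := ψ.natural b ((ModFun.PicDeg f d).pull (m a) P) (hQ _ ‹IsAffine Z›) (hQ _ ‹IsAffine Z'›) (hok a)
        (picDeg_ok_pull f b (hok a))
      rw [← (show (ψ.app (O (w ≫ a)) ((ModFun.PicDeg f d).pull b ((ModFun.PicDeg f d).pull (m a) P)) _ _).left = w ≫ (G a).left from
        congrArg (fun q : _ ⟶ N => q.left) h1)]
      refine congrArg (fun q : _ ⟶ N => q.left) (ψ.resp _ _ _ _ _ ((picDeg_r_iff f).2 (Rel.of_eq ?_)))
      refine (PicClLib.pullCl_comp (PicF.XTmap f b) (PicF.XTmap f (m a)) (PicF.cl P)).trans ?_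
      rw [← PicClLib.XTmap_comp, hb]
      rfl
    let 𝒰 := J.left.affineCover
    haveI h𝒰 : ∀ a, IsAffine (𝒰.X a) := fun a => inferInstanceAs (IsAffine (J.left.affineCover.X a))
    have hagree : ∀ a b, pullback.fst (𝒰.f a) (𝒰.f b) ≫ (G (𝒰.f a)).left =
        pullback.snd (𝒰.f a) (𝒰.f b) ≫ (G (𝒰.f b)).left := fun a b => by
      refine Scheme.Cover.hom_ext (pullback (𝒰.f a) (𝒰.f b)).affineCover _ _ fun c => ?_
      let w := (pullback (𝒰.f a) (𝒰.f b)).affineCover.f c
      have e1 := hG (𝒰.f a) (w ≫ pullback.fst _ _) ((w ≫ pullback.fst (𝒰.f a) (𝒰.f b)) ≫ 𝒰.f a) rfl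
      have e2 := hG (𝒰.f b) (w ≫ pullback.snd _ _) ((w ≫ pullback.fst (𝒰.f a) (𝒰.f b)) ≫ 𝒰.f a)
        (by rw [Category.assoc, Category.assoc, pullback.condition])
      rw [← Category.assoc, ← Category.assoc, ← e1, ← e2]
    let φl : J.left ⟶ N.left := 𝒰.glueMorphisms (fun a => (G (𝒰.f a)).left) hagree
    have hφl : ∀ a, 𝒰.f a ≫ φl = (G (𝒰.f a)).left := fun a => Scheme.Cover.ι_glueMorphisms _ _ _ a
    let φ : J ⟶ N := Over.homMk φl (Scheme.Cover.hom_ext 𝒰 _ _ fun a => by
      rw [← Category.assoc, hφl a]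
      exact Over.w (G (𝒰.f a)))
    refine ⟨φ, fun T L hT hL => ?_, fun φ' hφ' => Over.OverMorphism.ext (Scheme.Cover.hom_ext 𝒰 _ _ fun a => ?_)⟩
    · let g := (classifyHom f hP Q).app T L hT hL
      have hgr := (picDeg_r_iff f).1 (hP.2 T L trivial hL).exists.choose_spec
      refine Over.OverMorphism.ext (Scheme.Cover.hom_ext (((𝒰.pullback₁ g.left))) _ _ fun a => ?_)
      refine Scheme.Cover.hom_ext ((𝒰.pullback₁ g.left).X a).affineCover _ _ fun c => ?_
      let z := (((𝒰.pullback₁ g.left).X a).affineCover.f c ≫ (𝒰.pullback₁ g.left).f a)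
      let za := (((𝒰.pullback₁ g.left).X a).affineCover.f c ≫ pullback.snd g.left (𝒰.f a))
      have hz : z ≫ g.left = za ≫ 𝒰.f a := by
        show (_ ≫ pullback.fst g.left (𝒰.f a)) ≫ g.left = (_ ≫ pullback.snd g.left (𝒰.f a)) ≫ 𝒰.f a
        rw [Category.assoc, Category.assoc, pullback.condition]
      let W : Over (Spec (CommRingCat.of k)) := O (z ≫ g.left)
      let zT : W ⟶ T := Over.homMk z (by
        exact (congrArg (z ≫ ·) (Over.w g).symm).trans (Category.assoc _ _ _).symm)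
      have hW : Q W := hQ W (inferInstanceAs (IsAffine (((𝒰.pullback₁ g.left).X a).affineCover.X c)))
      have h1 := ψ.natural zT L hT hW hL (picDeg_ok_pull f zT hL)
      rw [← Category.assoc, ← Category.assoc]
      show z ≫ (ψ.app T L hT hL).left = z ≫ g.left ≫ φl
      rw [← (show (ψ.app W ((ModFun.PicDeg f d).pull zT L) _ _).left = z ≫ (ψ.app T L hT hL).left from
        congrArg (fun q : _ ⟶ N => q.left) h1), reassoc_of% hz, hφl, ← hG (𝒰.f a) za (z ≫ g.left) hz.symm]
      refine congrArg (fun q : _ ⟶ N => q.left) (ψ.resp _ _ _ _ _ ((picDeg_r_iff f).2 ?_))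
      refine (Rel.of_eq ?_).trans (hgr.pull zT).symm
      refine Eq.trans ?_ (PicClLib.pullCl_comp (PicF.XTmap f zT) (PicF.XTmap f g) (PicF.cl P)).symm
      rw [← PicClLib.XTmap_comp, ← show m (z ≫ g.left) = zT ≫ g from Over.OverMorphism.ext rfl]
      rfl
    · have h1 := hφ' (O (𝒰.f a)) ((ModFun.PicDeg f d).pull (m (𝒰.f a)) P) (hQ (O (𝒰.f a)) (h𝒰 a)) (hok _)
      rw [classifyHom_eq f hP Q (hQ (O (𝒰.f a)) (h𝒰 a)) (hok _) (m (𝒰.f a)) (Rel.of_eq rfl)] at h1
      show 𝒰.f a ≫ φ'.left = 𝒰.f a ≫ φl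
      rw [hφl]
      exact (congrArg (fun q : _ ⟶ N => q.left) h1).symm
  · exact ⟨(ModFun.PicDeg f d).pull g P, picDeg_ok_pull f g hP.1, classifyHom_eq f hP Q hT _ g (Rel.of_eq rfl)⟩
  · have hx' := (picDeg_r_iff f).1 (hP.2 _ x trivial hx).exists.choose_spec
    have hy' := (picDeg_r_iff f).1 (hP.2 _ y trivial hy).exists.choose_spec
    have e' : (hP.2 _ x trivial hx).exists.choose = (hP.2 _ y trivial hy).exists.choose := e
    rw [e'] at hx'
    exact (picDeg_r_iff f).2 (hy'.trans hx'.symm)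

/-- Abelian varieties are projective over the base field. -/
theorem isHProjective_grp (A : Over (Spec (CommRingCat.of k))) [GrpObj A] [IsProper A.hom]
    [GeometricallyIntegral A.hom] : RelProj.IsHProjective A.hom := by
  obtain ⟨n, j, hj, hjA⟩ := S1866.result k A
  obtain ⟨a, ha, -⟩ := SeesawX.PnSpec.exists_iso n k
  haveI := hj
  exact ⟨n, j ≫ a.inv, inferInstance, by rw [← hjA, ← ha, Category.assoc, Iso.inv_hom_id_assoc]⟩

/-- A smooth proper integral curve over an algebraically closed field has a point and is of relative dimension one. -/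
theorem curve_of_isAlgClosed [IsAlgClosed k] {X : Scheme.{u}} (f : X ⟶ Spec (CommRingCat.of k)) [IsProper f] [Smooth f]
    [IsIntegral X] (hdim : topologicalKrullDim X = 1) :
    ∃ σ : Spec (CommRingCat.of k) ⟶ X, σ ≫ f = 𝟙 _ ∧ GeometricallyConnected f ∧ SmoothOfRelativeDimension 1 f := by
  haveI : JacobsonSpace X := LocallyOfFiniteType.jacobsonSpace f
  obtain ⟨w, -, hw⟩ := nonempty_inter_closedPoints (Z := (Set.univ : Set X)) Set.univ_nonempty
    isClosed_univ.isLocallyClosed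
  let σ := pointOfClosedPoint f w (mem_closedPoints_iff.1 hw)
  have hσ : σ ≫ f = 𝟙 _ := pointOfClosedPoint_comp f w _
  exact ⟨σ, hσ, EllLaw.geometricallyConnected_of_point f σ hσ,
    CurveFin.smoothOfRelativeDimension_of_dim f (by exact_mod_cast hdim)⟩

end Groth.Agent.PicCurve
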