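import Groth.Agent.PicCurve.Twists

/-!
# Twists over a finite Galois extension cover the Picard functor
-/

set_option autoImplicit false
set_option linter.style.haveILetI false
set_option linter.unusedSectionVars false
set_option backward.isDefEq.respectTransparency false
set_option backward.isDefEq.respectTransparency.types false
set_option maxHeartbeats 1000000
set_option synthInstance.maxHeartbeats 400000

universe u

open CategoryTheory CategoryTheory.Limits AlgebraicGeometry TopologicalSpace Opposite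

noncomputable section

namespace Groth.Agent.PicCurve

open Groth.Agent Groth.Agent.H23 Groth.Agent.H23.PicMul Groth.Agent.H26 Groth.Agent.Pic13Lib
  Groth.Agent.PicTangent Groth.Agent.PicTangent.JacDiff
open scoped Groth.Agent.H23.PicMul

attribute [local instance] PicMul.clMonoid

instance smoothOfRelativeDimension_snd {X S S' : Scheme.{u}} (f : X ⟶ S) (g : S' ⟶ S) (n : ℕ)
    [SmoothOfRelativeDimension n f] : SmoothOfRelativeDimension n (pullback.snd f g) :=
  haveI : MorphismProperty.IsStableUnderBaseChange (@SmoothOfRelativeDimension.{u} n) := smoothOfRelativeDimension_isStableUnderBaseChange n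
  MorphismProperty.pullback_snd _ _ inferInstance

theorem cov_sepClosed {k : Type u} [Field k] [IsSepClosed k] {X : Scheme.{u}} (f : X ⟶ Spec (CommRingCat.of k))
    [IsProper f] [SmoothOfRelativeDimension 1 f] [GeometricallyConnected f]
    (T : Over (Spec (CommRingCat.of k))) (c : PicF.Cl (PicF.XT f T)) (hc : PicF.IsInvertibleCl c) (t : T.left) :
    ∃ E : PicF.Cl X, PicF.IsInvertibleCl E ∧ GoodAt f T (c * fromX f T E) t := by
  have hX := isSmoothProperCurve f
  obtain ⟨Ω, _, _, p, rfl⟩ := JacProper.exists_geomPoint t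
  let b : Spec (CommRingCat.of Ω) ⟶ Spec (CommRingCat.of k) := p ≫ T.hom
  let a : Over.mk b ⟶ T := Over.homMk p rfl
  letI : Algebra k Ω := (Spec.preimage b).hom.toAlgebra
  have hb : Spec.map (CommRingCat.ofHom (algebraMap k Ω)) = b := Spec.map_preimage b
  letI : X.Over (Spec (CommRingCat.of k)) := ⟨f⟩
  letI := overX f b
  obtain ⟨M, hMc, hM⟩ := PicClLib.isInvertibleCl_pullCl (PicF.XTmap f a) hc
  obtain ⟨L₀, hL₀, h0, h1⟩ := S6487.result k X hX Ω (PicF.XT f (Over.mk b))
    (Limits.pullback.fst f b) (by rw [hb]; exact IsPullback.of_hasPullback f b) M hM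
  refine ⟨PicF.cl L₀, ⟨L₀, rfl, hL₀⟩, (goodAt_iff_geom f
    (PicMul.isInvertibleCl_mul hc (PicClLib.isInvertibleCl_pullCl _ ⟨L₀, rfl, hL₀⟩)) a).2 ?_⟩
  refine ⟨_, ?_, h0, Module.finrank_zero_of_subsingleton⟩
  rw [PicMul.pullCl_mul, PicMul.cl_tensor, hMc,
    show PicF.pullCl (PicF.XTmap f a) (PicF.pullCl (Limits.pullback.fst f T.hom) (PicF.cl L₀)) =
      PicF.pullCl (Limits.pullback.fst f b) (PicF.cl L₀) from pull_fromX f a (PicF.cl L₀)]
  rfl

variable {k : Type u} [Field k] {X : Scheme.{u}} (f : X ⟶ Spec (CommRingCat.of k)) [IsProper f]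
  [SmoothOfRelativeDimension 1 f] [GeometricallyConnected f]
  (σ : Spec (CommRingCat.of k) ⟶ X) (hσ : σ ≫ f = 𝟙 _)

include hσ in
/-- **Finitely many twists suffice over a finite Galois extension.** -/
theorem exists_galois_cov : ∃ (L : Type u) (_ : Field L) (_ : Algebra k L) (_ : FiniteDimensional k L) (_ : IsGalois k L),
    ∀ (T : Over (Spec (CommRingCat.of L)))
      (c : PicF.Cl (PicF.XT (pullback.snd f (Spec.map (CommRingCat.ofHom (algebraMap k L)))) T)),
      PicF.IsInvertibleCl c → ∀ t : T.left, ∃ E, PicF.IsInvertibleCl E ∧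
        GoodAt (pullback.snd f (Spec.map (CommRingCat.ofHom (algebraMap k L)))) T
          (c * fromX (pullback.snd f (Spec.map (CommRingCat.ofHom (algebraMap k L)))) T E) t := by
  classical
  let K := SeparableClosure k
  haveI : CompactSpace X := QuasiCompact.compactSpace_of_compactSpace f
  haveI : QuasiSeparatedSpace X := quasiSeparatedSpace_of_quasiSeparated f
  let hK : Spec (CommRingCat.of K) ⟶ Spec (CommRingCat.of k) := Spec.map (CommRingCat.ofHom (algebraMap k K))
  let fK := pullback.snd f hK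
  obtain ⟨J, η, hJp, -, -, -, hηu⟩ :=
    exists_univ fK (bcSec f hK σ hσ) (bcSec_snd f hK σ hσ) (cov_sepClosed fK)
  haveI := hJp
  haveI : CompactSpace J.left := QuasiCompact.compactSpace_of_compactSpace J.hom
  let U : {E : PicF.Cl (pullback f hK) // PicF.IsInvertibleCl E} → J.left.Opens := fun E =>
    goodLocus fK J (η.1 * fromX fK J E.1)
  obtain ⟨s, hs⟩ := isCompact_univ.elim_finite_subcover (fun E => (U E : Set J.left)) (fun E => (U E).isOpen)
    fun j _ => by
      obtain ⟨E, hE, h⟩ := cov_sepClosed fK J η.1 η.2.1 j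
      exact Set.mem_iUnion.2 ⟨⟨E, hE⟩, h⟩
  choose N hNc hNi using fun E : {E : PicF.Cl (pullback f hK) // PicF.IsInvertibleCl E} => E.2
  choose i M hM he using fun E : {E : PicF.Cl (pullback f hK) // PicF.IsInvertibleCl E} =>
    LimPic.exists_invertible (GalPic.isLimit f K) (N E) (hNi E)
  obtain ⟨S₀, hS₀⟩ := IsCofiltered.inf_objs_exists (s.image i)
  have hE' : ∀ E ∈ s, ∃ E' : PicF.Cl (GalPic.bc f S₀.unop.toIntermediateField), PicF.IsInvertibleCl E' ∧
      PicF.pullCl ((GalPic.cone f K).π.app S₀) E' = E.1 := fun E hE => by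
    obtain ⟨φ⟩ := hS₀ (Finset.mem_image_of_mem i hE)
    obtain ⟨e⟩ := he E
    refine ⟨PicF.pullCl ((GalPic.sys f K).map φ) (PicF.cl (M E)), PicClLib.isInvertibleCl_pullCl _ ⟨_, rfl, hM E⟩, ?_⟩
    rw [← hNc E]
    refine (PicClLib.pullCl_comp _ _ _).trans ?_
    rw [(GalPic.cone f K).w φ]
    exact PicMul.cl_eq_iff.2 ⟨e⟩
  let L := S₀.unop.toIntermediateField
  refine ⟨L, inferInstance, inferInstance, inferInstance, inferInstance, fun T c hc t => ?_⟩
  let hL : Spec (CommRingCat.of L) ⟶ Spec (CommRingCat.of k) := Spec.map (CommRingCat.ofHom (algebraMap k L))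
  let fL := pullback.snd f hL
  let w : Spec (CommRingCat.of K) ⟶ Spec (CommRingCat.of L) := Spec.map (CommRingCat.ofHom (L.val : L →+* K))
  have hw : w ≫ hL = hK := by
    rw [← Spec.map_comp, ← CommRingCat.ofHom_comp]
    congr 2
  have hcm : curveMap f hL hK w hw = (GalPic.cone f K).π.app S₀ :=
    pullback.hom_ext ((pullback.lift_fst _ _ _).trans (GalPic.mI_fst f _).symm)
      ((pullback.lift_snd _ _ _).trans (GalPic.mI_snd f _).symm)
  obtain ⟨Ω, _, _, p, rfl⟩ := JacProper.exists_geomPoint t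
  letI : Algebra L Ω := (Spec.preimage (p ≫ T.hom)).hom.toAlgebra
  let χ : K →ₐ[L] Ω := IsAlgClosed.lift
  let b : Spec (CommRingCat.of Ω) ⟶ Spec (CommRingCat.of K) := Spec.map (CommRingCat.ofHom (χ : K →+* Ω))
  have hb : p ≫ T.hom = b ≫ w := by
    rw [← Spec.map_preimage (p ≫ T.hom), ← Spec.map_comp, ← CommRingCat.ofHom_comp]
    congr 1
    ext x
    exact (χ.commutes x).symm
  let T₂ : Over (Spec (CommRingCat.of K)) := Over.mk b
  let a : down w T₂ ⟶ T := Over.homMk p hb
  haveI : Subsingleton T₂.left := inferInstanceAs (Subsingleton (PrimeSpectrum Ω))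
  haveI : Nonempty T₂.left := inferInstanceAs (Nonempty (PrimeSpectrum Ω))
  let pt₀ : T₂.left := (IsLocalRing.closedPoint Ω : PrimeSpectrum Ω)
  let c₁ := PicF.pullCl (PicF.XTmap fL a) c
  have hc₁ : PicF.IsInvertibleCl c₁ := PicClLib.isInvertibleCl_pullCl _ hc
  obtain ⟨E₁, hE₁, hdeg⟩ := exists_shift fL (bcSec f hL σ hσ) (bcSec_snd f hL σ hσ) (-degAt fL (down w T₂) c₁ pt₀)
  have hF : ∀ {E}, PicF.IsInvertibleCl E → PicF.IsInvertibleCl (fromX fL (down w T₂) E) := fun hE =>
    PicClLib.isInvertibleCl_pullCl _ hE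
  let c₂ := trans₂ f hL hK w hw (c₁ * fromX fL (down w T₂) E₁)
  have hc₂ : PicF.IsInvertibleCl c₂ := trans₂_invertible f hL hK w hw (PicMul.isInvertibleCl_mul hc₁ (hF hE₁))
  have hd₂ : ∀ x, degAt fK T₂ c₂ x = 0 := fun x => by
    obtain rfl : x = pt₀ := Subsingleton.elim _ _
    rw [degAt_trans₂ f hL hK w hw (PicMul.isInvertibleCl_mul hc₁ (hF hE₁)), degAt_mul fL hc₁ (hF hE₁)]
    have := hdeg (down w T₂) pt₀
    omega
  have htriv : PicF.IsTrivialCl (PicF.pullCl (PicF.secT fK (bcSec f hK σ hσ) (bcSec_snd f hK σ hσ) T₂) c₂) := by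
    obtain ⟨N₀, hN₀, hN₀i⟩ := PicClLib.isInvertibleCl_pullCl (PicF.secT fK (bcSec f hK σ hσ) (bcSec_snd f hK σ hσ) T₂) hc₂
    rw [← hN₀]
    exact (H23.KLBasic.trivial_of_subsingleton hN₀i).trans PicMul.one_def
  obtain ⟨g, hg, -⟩ := hηu T₂ ⟨c₂, hc₂, htriv⟩ ((hasFibreDegreeZeroCl_iff fK hc₂).2 hd₂)
  obtain ⟨E, hE, hgE⟩ := Set.mem_iUnion₂.1 (hs (Set.mem_univ (g.left pt₀)))
  obtain ⟨E', hE'i, hE'⟩ := hE' E hE
  refine ⟨E₁ * E', PicMul.isInvertibleCl_mul hE₁ hE'i, ?_⟩
  have hgood : GoodAt fK T₂ (c₂ * fromX fK T₂ E.1) pt₀ := by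
    have h := (goodAt_pull fK g (PicMul.isInvertibleCl_mul η.2.1 (PicClLib.isInvertibleCl_pullCl _ E.2)) pt₀).2 hgE
    rwa [PicMul.pullCl_mul, hg, show PicF.pullCl (PicF.XTmap fK g) (PicF.pullCl (pullback.fst fK J.hom) E.1) =
      fromX fK T₂ E.1 from pull_fromX fK g E.1] at h
  rw [← hE', ← hcm, ← trans₂_fromX, ← trans₂_mul, goodAt_trans₂ f hL hK w hw
    (PicMul.isInvertibleCl_mul (PicMul.isInvertibleCl_mul hc₁ (hF hE₁)) (hF hE'i)), mul_assoc] at hgood
  have h2 := (goodAt_pull fL a (PicMul.isInvertibleCl_mul hc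
    (PicClLib.isInvertibleCl_pullCl (pullback.fst fL T.hom) (PicMul.isInvertibleCl_mul hE₁ hE'i))) pt₀).1
  refine h2 ?_
  show GoodAt fL (down w T₂) (PicF.pullCl _ (c * fromX fL T (E₁ * E'))) pt₀
  rw [PicMul.pullCl_mul, pull_fromX, fromX, PicMul.pullCl_mul]
  exact hgood

end Groth.Agent.PicCurve
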