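import Groth.Agent.PicCurve.JacGroup
import Groth.Agent.PicCurve.GaloisCov
import Groth.Agent.GalDescX.SchemeQuot
import Groth.Agent.PicTangent.JacEmb
import Groth.Agent.EtFound.Descent
import Groth.Agent.S6463
import Mathlib.AlgebraicGeometry.Morphisms.LocalFlatDescent
import Mathlib.AlgebraicGeometry.Morphisms.FlatDescent

/-!
# Galois descent of the Jacobian
-/

set_option autoImplicit false
set_option linter.style.haveILetI false
set_option linter.unusedSectionVars false
set_option backward.isDefEq.respectTransparency false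
set_option backward.isDefEq.respectTransparency.types false
set_option maxHeartbeats 1000000
set_option synthInstance.maxHeartbeats 400000

universe u

open CategoryTheory CategoryTheory.Limits AlgebraicGeometry TopologicalSpace Opposite

noncomputable section

namespace Groth.Agent.PicCurve

open Groth.Agent Groth.Agent.H23 Groth.Agent.H23.PicMul Groth.Agent.H26 Groth.Agent.Pic13Lib
  Groth.Agent.PicTangent Groth.Agent.PicTangent.JacDiff
open scoped Groth.Agent.H23.PicMul

attribute [local instance] PicMul.clMonoid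

section Over

variable {X S S' : Scheme.{u}} (f : X ⟶ S) [IsProper f] [SmoothOfRelativeDimension 1 f] [GeometricallyConnected f]
  (σ : S ⟶ X) (hσ : σ ≫ f = 𝟙 S) (h : S' ⟶ S)

/-- A universal class among the classes over schemes over the cover. -/
structure IsUnivOver {Z : Over S} (s : Z.left ⟶ S') (ξ : PicF.Rig f σ hσ Z) : Prop where
  hom : s ≫ h = Z.hom
  deg : ∀ z, degAt f Z ξ.1 z = 0
  univ : ∀ (T : Over S) (a : T.left ⟶ S'), a ≫ h = T.hom → ∀ c : PicF.Rig f σ hσ T, (∀ t, degAt f T c.1 t = 0) →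
    ∃! g : T ⟶ Z, g.left ≫ s = a ∧ RigPoints.pullRig f σ hσ g ξ = c

theorem isUnivOver_down {J : Over S'}
    {η : PicF.Rig (pullback.snd f h) (bcSec f h σ hσ) (bcSec_snd f h σ hσ) J}
    (hdeg : ∀ t, degAt (pullback.snd f h) J η.1 t = 0)
    (hu : ∀ (T : Over S') (c : PicF.Rig (pullback.snd f h) (bcSec f h σ hσ) (bcSec_snd f h σ hσ) T),
      (∀ t, degAt (pullback.snd f h) T c.1 t = 0) → ∃! g : T ⟶ J, PicF.pullCl (PicF.XTmap (pullback.snd f h) g) η.1 = c.1) :
    IsUnivOver f σ hσ h (Z := down h J) J.hom (rigDown f h σ hσ η) where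
  hom := rfl
  deg z := (degAt_toDown f h η.2.1 z).trans (hdeg z)
  univ T a ha c hc := by
    let T' : Over S' := Over.mk a
    let φ : down h T' ⟶ T := Over.homMk (𝟙 T.left) ((Category.id_comp _).trans ha.symm)
    let ψ : T ⟶ down h T' := Over.homMk (𝟙 T.left) ((Category.id_comp _).trans ha)
    have hψφ : ψ ≫ φ = 𝟙 T := Over.OverMorphism.ext (Category.id_comp _)
    have hφψ : φ ≫ ψ = 𝟙 _ := Over.OverMorphism.ext (Category.id_comp _)
    let c₀ := RigPoints.pullRig f σ hσ φ c
    have hc₀ : ∀ t, degAt (pullback.snd f h) T' (rigUp f h σ hσ c₀).1 t = 0 := fun t => by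
      rw [← degAt_toDown f h (rigUp f h σ hσ c₀).2.1]
      show degAt f (down h T') (toDown f h (ofDown f h c₀.1)) t = 0
      rw [toDown_ofDown]
      exact (degAt_pull f φ c.2.1 t).trans (hc _)
    obtain ⟨g', hg', hg'u⟩ := hu T' (rigUp f h σ hσ c₀) hc₀
    have key : ∀ g : T' ⟶ J, RigPoints.pullRig f σ hσ (downMap h g) (rigDown f h σ hσ η) = c₀ ↔
        PicF.pullCl (PicF.XTmap (pullback.snd f h) g) η.1 = (rigUp f h σ hσ c₀).1 := fun g => by
      have e := toDown_pull f h g η.1
      constructor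
      · intro hh
        show _ = ofDown f h c₀.1
        rw [← congrArg Subtype.val hh]
        exact (ofDown_toDown f h _).symm.trans (congrArg (ofDown f h) e)
      · intro hh
        refine Subtype.ext (e.symm.trans ?_)
        rw [hh]
        exact toDown_ofDown f h c₀.1
    refine ⟨ψ ≫ downMap h g', ⟨?_, ?_⟩, fun g ⟨hg1, hg2⟩ => ?_⟩
    · show (𝟙 T.left ≫ g'.left) ≫ J.hom = a
      rw [Category.id_comp]
      exact Over.w g'
    · rw [← pullRig_comp, (key g').2 hg', pullRig_comp, hψφ, pullRig_id]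
    · let g'' : T' ⟶ J := Over.homMk g.left hg1
      have hg'' : downMap h g'' = φ ≫ g := Over.OverMorphism.ext (Category.id_comp _).symm
      rw [← hg'u g'' ((key g'').1 (by rw [hg'', ← pullRig_comp, hg2])), hg'', ← Category.assoc, hψφ, Category.id_comp]

end Over

/-- The covering of the base field by an extension. -/
abbrev cvr (k L : Type u) [Field k] [Field L] [Algebra k L] : Spec (CommRingCat.of L) ⟶ Spec (CommRingCat.of k) :=
  Spec.map (CommRingCat.ofHom (algebraMap k L))

section Galois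

variable {k L : Type u} [Field k] [Field L] [Algebra k L] [FiniteDimensional k L] [IsGalois k L]
  {X : Scheme.{u}} (f : X ⟶ Spec (CommRingCat.of k)) [IsProper f] [SmoothOfRelativeDimension 1 f]
  [GeometricallyConnected f] (σ : Spec (CommRingCat.of k) ⟶ X) (hσ : σ ≫ f = 𝟙 _)
  {Z : Over (Spec (CommRingCat.of k))} {s : Z.left ⟶ Spec (CommRingCat.of L)} {ξ : PicF.Rig f σ hσ Z}
  (hU : IsUnivOver f σ hσ (cvr k L) s ξ)


include hU in
theorem act_over (τ : L ≃ₐ[k] L) : (s ≫ GalTw.specMap L τ⁻¹) ≫ (cvr k L) = Z.hom := by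
  rw [Category.assoc]
  exact (congrArg (s ≫ ·) (GalTw.specMap_comp_pt τ⁻¹)).trans hU.hom

/-- The semilinear action. -/
def act (τ : L ≃ₐ[k] L) : Z ⟶ Z :=
  (hU.univ Z (s ≫ GalTw.specMap L τ⁻¹) (act_over f σ hσ hU τ) ξ hU.deg).exists.choose

theorem act_s (τ : L ≃ₐ[k] L) : (act f σ hσ hU τ).left ≫ s = s ≫ GalTw.specMap L τ⁻¹ :=
  (hU.univ Z _ (act_over f σ hσ hU τ) ξ hU.deg).exists.choose_spec.1

theorem act_pull (τ : L ≃ₐ[k] L) : RigPoints.pullRig f σ hσ (act f σ hσ hU τ) ξ = ξ :=
  (hU.univ Z _ (act_over f σ hσ hU τ) ξ hU.deg).exists.choose_spec.2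

theorem eq_act (τ : L ≃ₐ[k] L) (g : Z ⟶ Z) (h1 : g.left ≫ s = s ≫ GalTw.specMap L τ⁻¹)
    (h2 : RigPoints.pullRig f σ hσ g ξ = ξ) : g = act f σ hσ hU τ :=
  (hU.univ Z _ (act_over f σ hσ hU τ) ξ hU.deg).unique ⟨h1, h2⟩ ⟨act_s f σ hσ hU τ, act_pull f σ hσ hU τ⟩

theorem act_one : act f σ hσ hU 1 = 𝟙 Z :=
  (eq_act f σ hσ hU 1 (𝟙 Z) (by rw [Over.id_left, Category.id_comp, inv_one, GalTw.specMap_one, Category.comp_id])
    (pullRig_id ξ)).symm

theorem act_mul (τ τ' : L ≃ₐ[k] L) : act f σ hσ hU (τ * τ') = act f σ hσ hU τ' ≫ act f σ hσ hU τ :=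
  (eq_act f σ hσ hU _ _ (by
    rw [Over.comp_left, Category.assoc, act_s, ← Category.assoc, act_s, Category.assoc, ← GalTw.specMap_mul, mul_inv_rev])
    (by rw [← pullRig_comp, act_pull, act_pull])).symm

/-- The action by automorphisms. -/
def actHom : (L ≃ₐ[k] L) →* Aut Z.left where
  toFun τ :=
    { hom := (act f σ hσ hU τ).left
      inv := (act f σ hσ hU τ⁻¹).left
      hom_inv_id := by rw [← Over.comp_left, ← act_mul, inv_mul_cancel, act_one, Over.id_left]
      inv_hom_id := by rw [← Over.comp_left, ← act_mul, mul_inv_cancel, act_one, Over.id_left] }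
  map_one' := Iso.ext (by
    show (act f σ hσ hU 1).left = 𝟙 _
    rw [act_one, Over.id_left])
  map_mul' τ τ' := Iso.ext (by
    show (act f σ hσ hU (τ * τ')).left = (act f σ hσ hU τ').left ≫ (act f σ hσ hU τ).left
    rw [act_mul, Over.comp_left])

variable {Y : Over (Spec (CommRingCat.of k))} (p : Z ⟶ Y) (hpb : IsPullback p.left s Y.hom (cvr k L))
  (hinv : ∀ τ, (act f σ hσ hU τ).left ≫ p.left = p.left)
  (ha : ∀ (T : Over (Spec (CommRingCat.of k))) (U : T.left.Opens), IsIso ((PicF.XTproj f T).app U))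

theorem cover_props : Flat (cvr k L) ∧ LocallyOfFinitePresentation (cvr k L) ∧ Surjective (cvr k L) ∧ QuasiCompact (cvr k L) :=
  ⟨inferInstance,
    (HasRingHomProperty.Spec_iff (P := @LocallyOfFinitePresentation)).2
      (RingHom.finitePresentation_algebraMap.2 (Algebra.FinitePresentation.of_finiteType.1 inferInstance)),
    ⟨fun y => ⟨Classical.arbitrary _, Subsingleton.elim (α := Spec (CommRingCat.of k)) _ _⟩⟩,
    inferInstance⟩

include ha in
theorem rig_ext_cover {T : Over (Spec (CommRingCat.of k))} {U : Scheme.{u}} (u : U ⟶ T.left) [Flat u]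
    [LocallyOfFinitePresentation u] [Surjective u] {c c' : PicF.Rig f σ hσ T}
    (h : RigPoints.pullRig f σ hσ (AbDual.ovrHom T u) c = RigPoints.pullRig f σ hσ (AbDual.ovrHom T u) c') : c = c' := by
  obtain ⟨d, -, hd⟩ := RigSheaf.existsUnique_rig f σ hσ ha T u (RigPoints.pullRig f σ hσ (AbDual.ovrHom T u) c) (by
    show (RigPoints.pullRig f σ hσ (RigDatum.r₁ T u) _).1 = (RigPoints.pullRig f σ hσ (RigDatum.r₂ T u) _).1
    rw [pullRig_comp, pullRig_comp,
      show RigDatum.r₁ T u ≫ AbDual.ovrHom T u = RigDatum.r₂ T u ≫ AbDual.ovrHom T u from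
        Over.OverMorphism.ext pullback.condition])
  exact (hd c rfl).trans (hd c' (congrArg Subtype.val h.symm)).symm

include hU hpb hinv ha in
/-- The universal class descends. -/
theorem exists_rig_descend : ∃ ζ : PicF.Rig f σ hσ Y, RigPoints.pullRig f σ hσ p ζ = ξ := by
  obtain ⟨hfl, hlp, hsj, -⟩ := cover_props (k := k) (L := L)
  haveI : Flat p.left := MorphismProperty.of_isPullback hpb.flip hfl
  haveI : LocallyOfFinitePresentation p.left := MorphismProperty.of_isPullback hpb.flip hlp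
  haveI : Surjective p.left := MorphismProperty.of_isPullback hpb.flip hsj
  let i₀ : AbDual.ovr Y p.left ⟶ Z := Over.homMk (𝟙 _) ((Category.id_comp _).trans (Over.w p).symm)
  let j₀ : Z ⟶ AbDual.ovr Y p.left := Over.homMk (𝟙 _) ((Category.id_comp _).trans (Over.w p))
  let c' := RigPoints.pullRig f σ hσ i₀ ξ
  let e : (L ≃ₐ[k] L) → (AbDual.ovr Y p.left ⟶ RigDatum.R₂ Y p.left) := fun τ =>
    Over.homMk (pullback.lift (𝟙 _) (act f σ hσ hU τ).left ((Category.id_comp _).trans (hinv τ).symm)) (by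
      show pullback.lift _ _ _ ≫ pullback.fst p.left p.left ≫ p.left ≫ Y.hom = p.left ≫ Y.hom
      exact (pullback.lift_fst_assoc _ _ _ _).trans (Category.id_comp _))
  have hsp : ∀ {W : Scheme.{u}} (x y : W ⟶ Z.left), x ≫ p.left = y ≫ p.left → (x ≫ s) ≫ (cvr k L) = (y ≫ s) ≫ (cvr k L) :=
    fun x y hxy => by rw [Category.assoc, Category.assoc, ← hpb.w, ← Category.assoc, hxy, Category.assoc]
  let m : pullback p.left p.left ⟶ pullback (GalPic.uL k L) (GalPic.uL k L) :=
    pullback.lift (pullback.fst _ _ ≫ s) (pullback.snd _ _ ≫ s) (hsp _ _ pullback.condition)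
  have hm1 : m ≫ pullback.fst _ _ = pullback.fst _ _ ≫ s := pullback.lift_fst _ _ _
  have hm2 : m ≫ pullback.snd _ _ = pullback.snd _ _ ≫ s := pullback.lift_snd _ _ _
  have hem : ∀ τ, (e τ).left ≫ m = s ≫ GalPic.gr k L τ⁻¹ := fun τ => by
    refine pullback.hom_ext ?_ ?_
    · rw [Category.assoc, hm1, Category.assoc, GalPic.gr_fst, Category.comp_id]
      show pullback.lift _ _ _ ≫ _ = _
      exact (pullback.lift_fst_assoc _ _ _ _).trans (Category.id_comp _)
    · rw [Category.assoc, hm2, Category.assoc, GalPic.gr_snd]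
      show pullback.lift _ _ _ ≫ _ = _
      rw [pullback.lift_snd_assoc]
      exact act_s f σ hσ hU τ
  have hsq : ∀ τ, IsPullback (e τ).left s m (GalPic.gr k L τ⁻¹) := fun τ => by
    refine ⟨⟨hem τ⟩, ⟨PullbackCone.IsLimit.mk (hem τ) (fun c => c.fst ≫ pullback.fst p.left p.left)
      (fun c => ?_) (fun c => ?_) (fun c l hl _ => ?_)⟩⟩
    · refine pullback.hom_ext ?_ ?_
      · show (_ ≫ pullback.lift _ _ _) ≫ _ = _
        rw [Category.assoc, pullback.lift_fst, Category.comp_id]
      · show (_ ≫ pullback.lift _ _ _) ≫ _ = _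
        rw [Category.assoc, pullback.lift_snd]
        refine hpb.hom_ext ?_ ?_
        · rw [Category.assoc, hinv τ]
          simp only [Category.assoc, pullback.condition]
        · have h1 := congrArg (· ≫ pullback.fst _ _) c.condition
          have h2 := congrArg (· ≫ pullback.snd _ _) c.condition
          simp only [Category.assoc, hm1, hm2, GalPic.gr_fst, GalPic.gr_snd, Category.comp_id] at h1 h2
          rw [Category.assoc, act_s, Category.assoc, reassoc_of% h1, Category.assoc, h2]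
    · have h1 := congrArg (· ≫ pullback.fst _ _) c.condition
      simp only [Category.assoc, hm1, GalPic.gr_fst, Category.comp_id] at h1
      rw [Category.assoc, h1]
    · rw [← hl, Category.assoc]
      show l = l ≫ pullback.lift _ _ _ ≫ _
      rw [pullback.lift_fst, Category.comp_id]
  haveI hopen : ∀ τ, IsOpenImmersion (e τ).left := fun τ =>
    MorphismProperty.of_isPullback (hsq τ).flip (GalPic.isOpenImmersion_gr k L τ⁻¹)
  have hglue : PicF.pullCl (PicF.XTmap f (RigDatum.r₁ Y p.left)) c'.1 =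
      PicF.pullCl (PicF.XTmap f (RigDatum.r₂ Y p.left)) c'.1 := by
    refine cl_eq_of_pieces f e (fun {W τ τ'} a b hab hne => ⟨fun w => hne ?_⟩) (fun x => ?_)
      (PicClLib.isInvertibleCl_pullCl _ c'.2.1) (PicClLib.isInvertibleCl_pullCl _ c'.2.1) fun τ => ?_
    · have h := congrArg (· ≫ m) hab
      simp only [Category.assoc] at h
      rw [hem, hem, ← Category.assoc, ← Category.assoc] at h
      exact inv_injective (GalPic.eq_of_gr k L w _ _ _ _ h)
    · obtain ⟨τ, q, hq⟩ := GalPic.exists_gr k L (m x)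
      obtain ⟨z, hz, -⟩ := Scheme.Pullback.exists_preimage_pullback (f := m) (g := GalPic.gr k L τ) x q hq.symm
      have h : IsPullback (e τ⁻¹).left s m (GalPic.gr k L τ) := by
        have h := hsq τ⁻¹
        rwa [inv_inv] at h
      refine ⟨τ⁻¹, h.isoPullback.inv z, ?_⟩
      rw [← Scheme.Hom.comp_apply, h.isoPullback_inv_fst]
      exact hz
    · show (RigPoints.pullRig f σ hσ (e τ) (RigPoints.pullRig f σ hσ (RigDatum.r₁ Y p.left) c')).1 =
        (RigPoints.pullRig f σ hσ (e τ) (RigPoints.pullRig f σ hσ (RigDatum.r₂ Y p.left) c')).1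
      rw [pullRig_comp, pullRig_comp, pullRig_comp, pullRig_comp]
      have h1 : (e τ ≫ RigDatum.r₁ Y p.left) ≫ i₀ = i₀ :=
        Over.OverMorphism.ext (by
          show (pullback.lift _ _ _ ≫ pullback.fst _ _) ≫ 𝟙 _ = 𝟙 _
          rw [pullback.lift_fst, Category.comp_id])
      have h2 : (e τ ≫ RigDatum.r₂ Y p.left) ≫ i₀ = i₀ ≫ act f σ hσ hU τ :=
        Over.OverMorphism.ext (by
          show (pullback.lift _ _ _ ≫ pullback.snd _ _) ≫ 𝟙 _ = 𝟙 _ ≫ _
          rw [pullback.lift_snd, Category.comp_id, Category.id_comp])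
      rw [h1, h2, ← pullRig_comp i₀ (act f σ hσ hU τ) ξ, act_pull]
  obtain ⟨ζ, hζ, -⟩ := RigSheaf.existsUnique_rig f σ hσ ha Y p.left c' hglue
  refine ⟨ζ, ?_⟩
  have hp : j₀ ≫ AbDual.ovrHom Y p.left = p := Over.OverMorphism.ext (Category.id_comp _)
  rw [← hp, ← pullRig_comp, show RigPoints.pullRig f σ hσ (AbDual.ovrHom Y p.left) ζ = c' from Subtype.ext hζ,
    pullRig_comp, show j₀ ≫ i₀ = 𝟙 Z from Over.OverMorphism.ext (Category.id_comp _), pullRig_id]

include hU hpb hinv ha in
/-- The descended class is universal. -/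
theorem existsUnique_descend (ζ : PicF.Rig f σ hσ Y) (hζ : RigPoints.pullRig f σ hσ p ζ = ξ)
    (T : Over (Spec (CommRingCat.of k))) (c : PicF.Rig f σ hσ T) (hc : ∀ t, degAt f T c.1 t = 0) :
    ∃! g : T ⟶ Y, PicF.pullCl (PicF.XTmap f g) ζ.1 = c.1 := by
  obtain ⟨hfl, hlp, hsj, hqc⟩ := cover_props (k := k) (L := L)
  let uu : pullback T.hom (cvr k L) ⟶ T.left := pullback.fst T.hom (cvr k L)
  haveI : Flat uu := MorphismProperty.pullback_fst _ _ hfl
  haveI : LocallyOfFinitePresentation uu := MorphismProperty.pullback_fst _ _ hlp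
  haveI : Surjective uu := MorphismProperty.pullback_fst _ _ hsj
  haveI : QuasiCompact uu := MorphismProperty.pullback_fst _ _ hqc
  let TL := AbDual.ovr T uu
  let u : TL ⟶ T := AbDual.ovrHom T uu
  let a : TL.left ⟶ Spec (CommRingCat.of L) := pullback.snd T.hom (cvr k L)
  have ha' : a ≫ (cvr k L) = TL.hom := pullback.condition.symm
  have hcd : ∀ t, degAt f TL (RigPoints.pullRig f σ hσ u c).1 t = 0 := fun t =>
    (degAt_pull f u c.2.1 t).trans (hc _)
  obtain ⟨g, ⟨hg1, hg2⟩, hgu⟩ := hU.univ TL a ha' (RigPoints.pullRig f σ hσ u c) hcd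
  have heq : ∀ (i j : PUnit.{u + 1}) (W : Over (Spec (CommRingCat.of k))) (v₁ v₂ : W ⟶ TL),
      v₁ ≫ u = v₂ ≫ u → v₁ ≫ g ≫ p = v₂ ≫ g ≫ p := fun _ _ W v₁ v₂ hv => by
    let m : W.left ⟶ pullback (GalPic.uL k L) (GalPic.uL k L) :=
      pullback.lift (v₁.left ≫ a) (v₂.left ≫ a) (by
        show (v₁.left ≫ a) ≫ (cvr k L) = (v₂.left ≫ a) ≫ (cvr k L)
        rw [Category.assoc, Category.assoc, ha', Over.w v₁, Over.w v₂])
    let U : (L ≃ₐ[k] L) → W.left.Opens := fun τ =>
      haveI := GalPic.isOpenImmersion_gr k L τ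
      m ⁻¹ᵁ (GalPic.gr k L τ).opensRange
    refine Over.OverMorphism.ext (Scheme.Cover.hom_ext (W.left.openCoverOfIsOpenCover U
      (IsOpenCover.mk (top_le_iff.1 fun x _ => Opens.mem_iSup.2 (by
        obtain ⟨τ, q, hq⟩ := GalPic.exists_gr k L (m x)
        exact ⟨τ, q, hq⟩)))) _ _ fun τ => ?_)
    haveI := GalPic.isOpenImmersion_gr k L τ
    let ι : (U τ).toScheme ⟶ W.left := (U τ).ι
    let WU := AbDual.ovr W ι
    let a₁ : (U τ).toScheme ⟶ Spec (CommRingCat.of L) :=
      IsOpenImmersion.lift (GalPic.gr k L τ) (ι ≫ m) (by rintro _ ⟨z, rfl⟩; exact z.2)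
    have ha₁ : a₁ ≫ GalPic.gr k L τ = ι ≫ m := IsOpenImmersion.lift_fac _ _ _
    have e1 : a₁ = ι ≫ v₁.left ≫ a := by
      have h := congrArg (· ≫ pullback.fst _ _) ha₁
      simp only [Category.assoc, GalPic.gr_fst, Category.comp_id, m, pullback.lift_fst] at h
      exact h
    have e2 : (ι ≫ v₁.left ≫ a) ≫ GalTw.specMap L τ = ι ≫ v₂.left ≫ a := by
      have h := congrArg (· ≫ pullback.snd _ _) ha₁
      simp only [Category.assoc, GalPic.gr_snd, m, pullback.lift_snd] at h
      rw [← e1]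
      exact h
    let w₁ : WU ⟶ TL := AbDual.ovrHom W ι ≫ v₁
    let w₂ : WU ⟶ TL := AbDual.ovrHom W ι ≫ v₂
    have hw : w₁ ≫ u = w₂ ≫ u := by rw [Category.assoc, Category.assoc, hv]
    have hab : (w₁ ≫ g) ≫ act f σ hσ hU τ⁻¹ = w₂ ≫ g := by
      refine (hU.univ WU (w₂.left ≫ a) (by rw [Category.assoc, ha', Over.w w₂])
        (RigPoints.pullRig f σ hσ w₂ (RigPoints.pullRig f σ hσ u c))
        (fun t => (degAt_pull f w₂ (RigPoints.pullRig f σ hσ u c).2.1 t).trans (hcd _))).unique ⟨?_, ?_⟩ ⟨?_, ?_⟩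
      · simp only [Over.comp_left, Category.assoc, act_s, inv_inv]
        rw [reassoc_of% hg1]
        simp only [Category.assoc] at e2
        exact e2
      · rw [← pullRig_comp, act_pull, ← pullRig_comp, hg2, pullRig_comp, pullRig_comp, hw]
      · rw [Over.comp_left, Category.assoc, hg1]
      · rw [← pullRig_comp, hg2]
    have h3 := congrArg (fun q : WU ⟶ Z => q.left ≫ p.left) hab
    simp only [Over.comp_left, Category.assoc, hinv] at h3
    exact h3
  obtain ⟨h, hh⟩ := JacEmb.exists_glue (fun _ : PUnit.{u + 1} => u) (fun _ => inferInstanceAs (Flat uu))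
    (fun _ => inferInstanceAs (LocallyOfFinitePresentation uu))
    (fun t => ⟨⟨⟩, uu.surjective t⟩) (fun _ => g ≫ p) heq
  have hh' : u ≫ h = g ≫ p := hh ⟨⟩
  refine ⟨h, congrArg Subtype.val (rig_ext_cover f σ hσ ha uu (c := RigPoints.pullRig f σ hσ h ζ) (c' := c) ?_), fun h' h'ζ => ?_⟩
  · show RigPoints.pullRig f σ hσ u (RigPoints.pullRig f σ hσ h ζ) = RigPoints.pullRig f σ hσ u c
    rw [pullRig_comp, hh', ← pullRig_comp, hζ, hg2]
  · let g' : TL ⟶ Z := Over.homMk (hpb.lift (u ≫ h').left a ((Over.w (u ≫ h')).trans ha'.symm)) (by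
      rw [← hU.hom, ← Category.assoc, hpb.lift_snd, ha'])
    have hg'p : g' ≫ p = u ≫ h' := Over.OverMorphism.ext (hpb.lift_fst _ _ _)
    have hg' : g' = g := hgu g' ⟨hpb.lift_snd _ _ _, by
      rw [← hζ, pullRig_comp, hg'p, ← pullRig_comp, show RigPoints.pullRig f σ hσ h' ζ = c from Subtype.ext h'ζ]⟩
    haveI : Epi uu := Flat.epi_of_flat_of_surjective uu
    refine Over.OverMorphism.ext ((cancel_epi uu).1 ?_)
    have h4 := congrArg (fun q : TL ⟶ Y => q.left) (hg'p.symm.trans ((congrArg (· ≫ p) hg').trans hh'.symm))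
    exact h4

include hU in
/-- The form over the base field. -/
theorem exists_form (hZ : ∀ E : Set Z.left, E.Finite → ∃ U : Z.left.Opens, IsAffineOpen U ∧ E ⊆ U)
    (ha : ∀ (T : Over (Spec (CommRingCat.of k))) (U : T.left.Opens), IsIso ((PicF.XTproj f T).app U))
    (hsp : IsProper s) (hss : Smooth s) (hsi : GeometricallyIrreducible s) :
    ∃ (Y : Over (Spec (CommRingCat.of k))) (ζ : PicF.Rig f σ hσ Y),
      IsProper Y.hom ∧ Smooth Y.hom ∧ GeometricallyIrreducible Y.hom ∧
      FGA.HasFibreDegreeZeroCl f Y ζ.1 ∧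
      ∀ (T : Over (Spec (CommRingCat.of k))) (c : PicF.Rig f σ hσ T), FGA.HasFibreDegreeZeroCl f T c.1 →
        ∃! g : T ⟶ Y, PicF.pullCl (PicF.XTmap f g) ζ.1 = c.1 := by
  obtain ⟨Y₀, p₀, q, hp₀, hpb⟩ := GalDescX.exists_descent (actHom f σ hσ hU) s (fun τ => act_s f σ hσ hU τ) fun z => by
    obtain ⟨U, hUa, hsub⟩ := hZ (Set.range fun τ => (actHom f σ hσ hU τ).hom z) (Set.finite_range _)
    exact ⟨U, hUa, fun τ => hsub ⟨τ, rfl⟩⟩
  let Y : Over (Spec (CommRingCat.of k)) := Over.mk q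
  let p : Z ⟶ Y := Over.homMk p₀ (hpb.w.trans hU.hom)
  have hinv : ∀ τ, (act f σ hσ hU τ).left ≫ p.left = p.left := fun τ => hp₀.inv τ
  obtain ⟨ζ, hζ⟩ := exists_rig_descend f σ hσ hU p hpb hinv ha
  obtain ⟨hfl, hlp, hsj, hqc⟩ := cover_props (k := k) (L := L)
  have hQ : (@Surjective ⊓ @Flat ⊓ @QuasiCompact : MorphismProperty Scheme.{u}) (cvr k L) := ⟨⟨hsj, hfl⟩, hqc⟩
  haveI : Surjective p₀ := MorphismProperty.of_isPullback hpb.flip hsj
  haveI := EtFound.fpqc_isProper.{u}
  refine ⟨Y, ζ, ?_, ?_, ?_, ?_, ?_⟩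
  · exact MorphismProperty.of_isPullback_of_descendsAlong (P := @IsProper) hpb.flip hQ hsp
  · exact MorphismProperty.of_isPullback_of_descendsAlong (P := @Smooth) hpb.flip hQ hss
  · refine ⟨fun K _ y W fst snd hW => ?_⟩
    letI : Algebra k K := (Spec.preimage y).hom.toAlgebra
    let K' := AlgebraicClosure K
    let χ : L →ₐ[k] K' := IsAlgClosed.lift
    let e : Spec (CommRingCat.of K') ⟶ Spec (CommRingCat.of K) := Spec.map (CommRingCat.ofHom (algebraMap K K'))
    let b : Spec (CommRingCat.of K') ⟶ Spec (CommRingCat.of L) := Spec.map (CommRingCat.ofHom (χ : L →+* K'))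
    have hbe : b ≫ (cvr k L) = e ≫ y := by
      rw [← Spec.map_preimage y, ← Spec.map_comp, ← Spec.map_comp, ← CommRingCat.ofHom_comp]
      congr 1
      ext x
      exact χ.commutes x
    let l : pullback s b ⟶ W := hW.lift (pullback.fst s b ≫ p₀) (pullback.snd s b ≫ e) (by
      show (pullback.fst s b ≫ p₀) ≫ q = _
      rw [Category.assoc, hpb.w, ← Category.assoc, pullback.condition, Category.assoc, Category.assoc]
      exact congrArg (pullback.snd s b ≫ ·) hbe)
    have hl : IsPullback l (pullback.snd s b) snd e := by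
      refine IsPullback.of_right ?_ (hW.lift_snd _ _ _) hW
      have h2 := (IsPullback.of_hasPullback s b).paste_horiz hpb
      rw [show (SGA7.pt (K := k) L).hom = (cvr k L) from rfl, hbe] at h2
      rw [hW.lift_fst]
      exact h2
    haveI : Surjective e := ⟨fun x => ⟨Classical.arbitrary _, Subsingleton.elim (α := Spec (CommRingCat.of K)) _ _⟩⟩
    haveI : Surjective l := MorphismProperty.of_isPullback hl.flip ‹Surjective e›
    haveI : IrreducibleSpace ↥(pullback s b) := hsi.geometrically_irreducibleSpace _ _ _ (IsPullback.of_hasPullback s b)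
    have hirr := (IrreducibleSpace.isIrreducible_univ (↥(pullback s b))).image l l.continuous.continuousOn
    rw [Set.image_univ, l.surjective.range_eq] at hirr
    exact (irreducibleSpace_def W).2 hirr
  · refine (hasFibreDegreeZeroCl_iff f ζ.2.1).2 fun y => ?_
    obtain ⟨z, rfl⟩ := p₀.surjective y
    refine (degAt_pull f p ζ.2.1 z).symm.trans ?_
    rw [show PicF.pullCl (PicF.XTmap f p) ζ.1 = ξ.1 from congrArg Subtype.val hζ]
    exact hU.deg z
  · exact fun T c hc =>
      existsUnique_descend f σ hσ hU p hpb hinv ha ζ hζ T c ((hasFibreDegreeZeroCl_iff f c.2.1).1 hc)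

end Galois

section Main

variable {k : Type u} [Field k] {X : Scheme.{u}} (f : X ⟶ Spec (CommRingCat.of k)) [IsProper f]
  [SmoothOfRelativeDimension 1 f] [GeometricallyConnected f]
  (σ : Spec (CommRingCat.of k) ⟶ X) (hσ : σ ≫ f = 𝟙 _)

/-- **The Jacobian of a curve with a rational point over an arbitrary field.** -/
theorem exists_jacobian : ∃ (J : Over (Spec (CommRingCat.of k))) (ξ : PicF.Rig f σ hσ J),
      IsProper J.hom ∧ Smooth J.hom ∧ GeometricallyIrreducible J.hom ∧
      FGA.HasFibreDegreeZeroCl f J ξ.1 ∧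
      ∀ (T : Over (Spec (CommRingCat.of k))) (c : PicF.Rig f σ hσ T), FGA.HasFibreDegreeZeroCl f T c.1 →
        ∃! g : T ⟶ J, PicF.pullCl (PicF.XTmap f g) ξ.1 = c.1 := by
  have hX := isSmoothProperCurve f
  have ha : ∀ (T : Over (Spec (CommRingCat.of k))) (U : T.left.Opens), IsIso ((PicF.XTproj f T).app U) := fun T U => by
    haveI := S6463.result k X f hX σ hσ T.left T.hom
    exact inferInstanceAs (IsIso ((Limits.pullback.snd f T.hom).app U))
  obtain ⟨L, _, _, _, _, hcov⟩ := exists_galois_cov f σ hσ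
  let hL := Spec.map (CommRingCat.ofHom (algebraMap k L))
  let fL := pullback.snd f hL
  obtain ⟨J, η, hJp, hJs, hJi, hη⟩ := exists_univ fL (bcSec f hL σ hσ) (bcSec_snd f hL σ hσ) hcov
  haveI := hJp; haveI := hJs; haveI := hJi
  exact exists_form f σ hσ (isUnivOver_down f σ hσ hL (degAt_univ fL _ _ η hη)
      fun T c hc => hη.2 T c ((hasFibreDegreeZeroCl_iff fL c.2.1).2 hc))
    (fun E hE => exists_affineOpen_jac fL _ _ η hη hE) ha hJp hJs hJi

end Main

end Groth.Agent.PicCurve
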