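import Groth.Agent.PicCurve.Coarse
import Groth.Agent.PicCurve.JacDescent
import Groth.Agent.H23.SymHilb
import Groth.Agent.H23.RatExt
import Groth.Agent.HilbDLib.OpenSub
import Groth.Agent.BlowUpLib.Local
import Groth.Agent.H26.InterDiv

/-!
# Points of the Jacobian and the Abel map
-/

set_option autoImplicit false
set_option linter.style.haveILetI false
set_option linter.unusedSectionVars false
set_option backward.isDefEq.respectTransparency false
set_option backward.isDefEq.respectTransparency.types false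
set_option maxHeartbeats 1000000
set_option synthInstance.maxHeartbeats 400000

universe u

open CategoryTheory CategoryTheory.Limits AlgebraicGeometry TopologicalSpace MonoidalCategory CartesianMonoidalCategory
open scoped CategoryTheory.MonObj

noncomputable section

namespace Groth.Agent.PicCurve

open Groth.Agent Groth.Agent.H23 Groth.Agent.H23.PicMul Groth.Agent.H26 Groth.Agent.Pic13Lib
  Groth.Agent.PicTangent Groth.Agent.PicTangent.JacDiff Groth.Agent.EllLaw
open scoped Groth.Agent.H23.PicMul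

attribute [local instance] PicMul.clMonoid

variable {k : Type u} [Field k] {X : Scheme.{u}} (f : X ⟶ Spec (CommRingCat.of k)) [IsProper f]
  [SmoothOfRelativeDimension 1 f] [GeometricallyConnected f]
  (σ : Spec (CommRingCat.of k) ⟶ X) (hσ : σ ≫ f = 𝟙 _)

/-- The section as a point with values in a scheme. -/
def cst (T : Over (Spec (CommRingCat.of k))) : T ⟶ Over.mk f :=
  Over.homMk (T.hom ≫ σ) (by show (T.hom ≫ σ) ≫ f = T.hom; rw [Category.assoc, hσ, Category.comp_id])

theorem comp_cst {T T' : Over (Spec (CommRingCat.of k))} (g : T' ⟶ T) : g ≫ cst f σ hσ T = cst f σ hσ T' :=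
  Over.OverMorphism.ext (by
    show g.left ≫ T.hom ≫ σ = T'.hom ≫ σ
    rw [Over.w_assoc])

/-- The curve as the constant family. -/
def toXT : X ⟶ PicF.XT f (Over.mk (𝟙 (Spec (CommRingCat.of k)))) :=
  pullback.lift (𝟙 X) f (by rw [Category.id_comp]; exact (Category.comp_id f).symm)

theorem fst_toXT {T : Over (Spec (CommRingCat.of k))} :
    pullback.fst f T.hom ≫ toXT f = PicF.XTmap f (Over.homMk T.hom (Category.comp_id _) : T ⟶ Over.mk (𝟙 _)) := by
  refine pullback.hom_ext ?_ ?_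
  · rw [toXT, Category.assoc, pullback.lift_fst, Category.comp_id]
    exact (RigDatum.XTmap_fst f _).symm
  · rw [toXT, Category.assoc, pullback.lift_snd, pullback.condition]
    exact (RigDatum.XTmap_snd f (Over.homMk T.hom (Category.comp_id _) : T ⟶ Over.mk (𝟙 _))).symm

theorem fromX_toXT (T : Over (Spec (CommRingCat.of k)))
    (e : PicF.Cl (PicF.XT f (Over.mk (𝟙 (Spec (CommRingCat.of k)))))) :
    fromX f T (PicF.pullCl (toXT f) e) =
      PicF.pullCl (PicF.XTmap f (Over.homMk T.hom (Category.comp_id _) : T ⟶ Over.mk (𝟙 _))) e := by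
  rw [fromX, PicClLib.pullCl_comp, fst_toXT]

include hσ in
theorem cl_section : PicF.cl (ClSub.idealMod σ.ker) =
    PicF.pullCl (toXT f) (pt f (Over.mk (𝟙 (Spec (CommRingCat.of k)))) (cst f σ hσ _)) := by
  let B : Over (Spec (CommRingCat.of k)) := Over.mk (𝟙 _)
  let a := cst f σ hσ B
  haveI : IsIso (toXT f) := by
    refine ⟨pullback.fst f B.hom, pullback.lift_fst _ _ _, ?_⟩
    rw [fst_toXT, show (Over.homMk B.hom (Category.comp_id _) : B ⟶ B) = 𝟙 B from Over.OverMorphism.ext rfl]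
    exact XTmap_id B
  have hs : pullback.lift a.left (𝟙 B.left) (by rw [Category.id_comp]; exact Over.w a) = σ ≫ toXT f := by
    refine pullback.hom_ext ?_ ?_
    · rw [pullback.lift_fst, toXT, Category.assoc, pullback.lift_fst, Category.comp_id]
      exact Category.id_comp σ
    · rw [pullback.lift_snd, toXT, Category.assoc, pullback.lift_snd, hσ]
      rfl
  haveI : IsClosedImmersion σ := by
    haveI : IsClosedImmersion (σ ≫ f) := by rw [hσ]; infer_instance
    exact IsClosedImmersion.of_comp σ f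
  have hk : (HilbD.secGraph f B a.left (Over.w a)).comap (toXT f) = σ.ker := by
    rw [show HilbD.secGraph f B a.left (Over.w a) = (σ ≫ toXT f).ker from congrArg Scheme.Hom.ker hs]
    exact HilbDLib.OpenSub.comap_ker_comp_mono σ (toXT f)
  have hE := isEffCartier_sec f B a
  obtain ⟨e⟩ := InterDiv.nonempty_pullback_idealMod (toXT f) _ hE (BlowUpLib.isEffCartier_comap_flat (toXT f) hE)
  rw [hk] at e
  exact (PicMul.cl_eq_iff.2 ⟨e⟩).symm

include hσ in
theorem cl_section_invertible : PicF.IsInvertibleCl (PicF.cl (ClSub.idealMod σ.ker)) := by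
  rw [cl_section f σ hσ]
  exact PicClLib.isInvertibleCl_pullCl _ (pt_invertible f _ _)

include hσ in
theorem fromX_section (T : Over (Spec (CommRingCat.of k))) :
    fromX f T (PicF.cl (ClSub.idealMod σ.ker)) = pt f T (cst f σ hσ T) := by
  let B : Over (Spec (CommRingCat.of k)) := Over.mk (𝟙 _)
  let a := cst f σ hσ B
  rw [cl_section f σ hσ]
  refine (fromX_toXT f T (pt f B a)).trans ?_
  rw [pull_pt, comp_cst]

theorem pt_diag : pt f (Over.mk f) (𝟙 _) = PicF.cl (ClSub.idealMod (pullback.diagonal f).ker) := rfl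

theorem pull_aj {L : (PicF.XT f (Over.mk f)).Modules} (hL : Jac.IsAJFamilyAt f σ L) :
    PicF.cl L = δ f (Over.mk f) (cst f σ hσ _) (𝟙 _) := by
  obtain ⟨-, ⟨e⟩⟩ := hL
  have h : PicF.cl L * pt f (Over.mk f) (𝟙 _) = pt f (Over.mk f) (cst f σ hσ _) := by
    rw [pt_diag, ← PicMul.cl_tensor, ← fromX_section f σ hσ]
    exact PicMul.cl_eq_iff.2 ⟨e⟩
  rw [δ, ← h, mul_assoc, pt_mul_ptInv, mul_one]

theorem degAt_δ {T : Over (Spec (CommRingCat.of k))} (a b : T ⟶ Over.mk f) (t : T.left) :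
    degAt f T (δ f T a b) t = 0 := by
  rw [δ, degAt_mul f (pt_invertible f T a) (ptInv_invertible f T b), degAt_ptInv]
  have h := (degAt_pow f a 1 t).2.2.2
  rw [pow_one] at h
  rw [h]
  rfl

variable {J : Over (Spec (CommRingCat.of k))} (ζ : PicF.Rig f σ hσ J)

/-- The class of a point of the Jacobian. -/
def cls {T : Over (Spec (CommRingCat.of k))} (g : T ⟶ J) : PicF.Cl (PicF.XT f T) := PicF.pullCl (PicF.XTmap f g) ζ.1

theorem cls_invertible {T : Over (Spec (CommRingCat.of k))} (g : T ⟶ J) : PicF.IsInvertibleCl (cls f σ hσ ζ g) :=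
  PicClLib.isInvertibleCl_pullCl _ ζ.2.1

theorem pull_cls {T T' : Over (Spec (CommRingCat.of k))} (h : T' ⟶ T) (g : T ⟶ J) :
    PicF.pullCl (PicF.XTmap f h) (cls f σ hσ ζ g) = cls f σ hσ ζ (h ≫ g) := by
  rw [cls, cls, PicClLib.pullCl_comp, ← PicClLib.XTmap_comp]

/-- The classes of the points follow the group law. -/
def IsMulClass [GrpObj J] : Prop :=
  ∀ (T : Over (Spec (CommRingCat.of k))) (a b : T ⟶ J), cls f σ hσ ζ (a * b) = cls f σ hσ ζ a * cls f σ hσ ζ b

/-- A morphism from the curve is the Abel map of the base point. -/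
def IsAbel (j : Over.mk f ⟶ J) : Prop :=
  Rel f (Over.mk f) (cls f σ hσ ζ j) (δ f (Over.mk f) (cst f σ hσ _) (𝟙 _))

theorem isAbel_rel {j : Over.mk f ⟶ J} (hj : IsAbel f σ hσ ζ j) {T : Over (Spec (CommRingCat.of k))}
    (a : T ⟶ Over.mk f) : Rel f T (cls f σ hσ ζ (a ≫ j)) (δ f T (cst f σ hσ T) a) := by
  refine (Rel.of_eq (pull_cls f σ hσ ζ a j).symm).trans ((hj.pull a).trans (Rel.of_eq ?_))
  rw [pull_δ, comp_cst, Category.comp_id]

variable {ζ}

theorem isAbel_of_classifies {ψ : (ModFun.PicDeg f 0).Hom ⊤ J} (hc : Classifies f σ hσ ψ ζ)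
    {j : Over.mk f ⟶ J} (hj : Jac.IsAbelJacobiAt f σ ψ j) : IsAbel f σ hσ ζ j := by
  obtain ⟨hT, L, hL, hLA, rfl⟩ := hj
  exact (hc.2 _ L hT hL).trans (Rel.of_eq (pull_aj f σ hσ hLA))

include hσ in
theorem exists_abel (hu : IsUniv0 f σ hσ ζ) : ∃ j : Over.mk f ⟶ J, IsAbel f σ hσ ζ j := by
  have hc := δ_invertible f (Over.mk f) (cst f σ hσ _) (𝟙 _)
  obtain ⟨j, hj, -⟩ := hu.2 (Over.mk f) (rigidify f σ hσ hc) ((hasFibreDegreeZeroCl_iff f
    (rigidify f σ hσ hc).2.1).2 fun t => (degAt_rel f hc (rel_rigidify f σ hσ hc) t).trans (degAt_δ f _ _ t))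
  exact ⟨j, (Rel.of_eq hj).trans (rel_rigidify f σ hσ hc)⟩

theorem isMulClass_of_classifies [GrpObj J] {ψ : (ModFun.PicDeg f 0).Hom ⊤ J} (hc : Classifies f σ hσ ψ ζ)
    (hJ : Jac.IsJacobian f ⊤ J ψ) : IsMulClass f σ hσ ζ := fun _ a b => pull_mul f σ hσ hc hJ a b

variable [GrpObj J] (hm : IsMulClass f σ hσ ζ)

include hm in
theorem cls_one (T : Over (Spec (CommRingCat.of k))) : cls f σ hσ ζ (1 : T ⟶ J) = 1 := by
  have h := hm T 1 1
  rw [mul_one] at h
  obtain ⟨M, hMc, hM⟩ := cls_invertible f σ hσ ζ (1 : T ⟶ J)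
  obtain ⟨M', hM', hMM⟩ := EllLaw.cl_inverse hM
  rw [hMc] at hMM
  calc cls f σ hσ ζ (1 : T ⟶ J) = cls f σ hσ ζ (1 : T ⟶ J) * (cls f σ hσ ζ (1 : T ⟶ J) * PicF.cl M') := by
        rw [hMM, mul_one]
    _ = 1 := by rw [← mul_assoc, ← h, hMM]

/-- The class map as a homomorphism. -/
def clsHom (T : Over (Spec (CommRingCat.of k))) : (T ⟶ J) →* PicF.Cl (PicF.XT f T) where
  toFun := cls f σ hσ ζ
  map_one' := cls_one f σ hσ hm T
  map_mul' := hm T

include hm in
/-- The Jacobian is commutative. -/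
theorem isCommMonObj (hu : IsUniv0 f σ hσ ζ) : IsCommMonObj J := by
  refine ⟨?_⟩
  have h : snd J J * fst J J = fst J J * snd J J :=
    hom_ext_rel f σ hσ hu (Rel.of_eq (by
      show cls f σ hσ ζ _ = cls f σ hσ ζ _
      rw [hm, hm, mul_comm]))
  rw [Hom.mul_def, Hom.mul_def, lift_fst_snd, Category.id_comp] at h
  rw [← h]
  congr 1

end Groth.Agent.PicCurve
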