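import Groth.Agent.PicCurve.SymPow
import Groth.Agent.PicCurve.GaloisCov
import Mathlib.AlgebraicGeometry.Group.Abelian

/-!
# The Jacobian is the Albanese variety of the curve
-/

set_option autoImplicit false
set_option linter.style.haveILetI false
set_option linter.unusedSectionVars false
set_option backward.isDefEq.respectTransparency false
set_option backward.isDefEq.respectTransparency.types false
set_option maxHeartbeats 1000000
set_option synthInstance.maxHeartbeats 400000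

universe u

open CategoryTheory CategoryTheory.Limits AlgebraicGeometry TopologicalSpace MonoidalCategory CartesianMonoidalCategory
open scoped CategoryTheory.MonObj

noncomputable section

namespace Groth.Agent.PicCurve

open Groth.Agent Groth.Agent.H23 Groth.Agent.H23.PicMul Groth.Agent.H26 Groth.Agent.Pic13Lib
  Groth.Agent.PicTangent Groth.Agent.PicTangent.JacDiff Groth.Agent.EllLaw Groth.Agent.H23.SymHilb SymProd
open scoped Groth.Agent.H23.PicMul

attribute [local instance] PicMul.clMonoid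

variable {k : Type u} [Field k]

/-- Composition on the left is a homomorphism on points. -/
def preHom {T T' G : Over (Spec (CommRingCat.of k))} [GrpObj G] (a : T' ⟶ T) : (T ⟶ G) →* (T' ⟶ G) :=
  MonoidHom.mk' (fun x => a ≫ x) fun _ _ => MonObj.comp_mul _ _ _

/-- Composition with a homomorphism is a homomorphism on points. -/
def postHom {T G G' : Over (Spec (CommRingCat.of k))} [GrpObj G] [GrpObj G'] (χ : G ⟶ G') [IsMonHom χ] :
    (T ⟶ G) →* (T ⟶ G') :=
  MonoidHom.mk' (fun x => x ≫ χ) fun _ _ => MonObj.mul_comp _ _ _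

variable {X : Scheme.{u}} (f : X ⟶ Spec (CommRingCat.of k)) [IsProper f]
  [SmoothOfRelativeDimension 1 f] [GeometricallyConnected f]
  (σ : Spec (CommRingCat.of k) ⟶ X) (hσ : σ ≫ f = 𝟙 _)

/-- The class of the base point with multiplicity. -/
def baseTwist (n : ℕ) : PicF.Cl X :=
  PicF.pullCl (toXT f) (ptInv f (Over.mk (𝟙 (Spec (CommRingCat.of k)))) (cst f σ hσ _) ^ n)

theorem ptInvPow_invertible {T : Over (Spec (CommRingCat.of k))} (a : T ⟶ Over.mk f) :
    ∀ n : ℕ, PicF.IsInvertibleCl (ptInv f T a ^ n)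
  | 0 => by rw [pow_zero]; exact ⟨_, rfl, InvX.isInvertible_structureModule⟩
  | n + 1 => by rw [pow_succ]; exact PicMul.isInvertibleCl_mul (ptInvPow_invertible a n) (ptInv_invertible f T a)

theorem fromX_baseTwist (n : ℕ) (T : Over (Spec (CommRingCat.of k))) :
    fromX f T (baseTwist f σ hσ n) = ptInv f T (cst f σ hσ T) ^ n := by
  rw [baseTwist, fromX_toXT, PicMul.pullCl_pow, pull_ptInv, comp_cst]

theorem baseTwist_invertible (n : ℕ) : PicF.IsInvertibleCl (baseTwist f σ hσ n) :=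
  PicClLib.isInvertibleCl_pullCl _ (ptInvPow_invertible f _ n)

variable {J : Over (Spec (CommRingCat.of k))} {ζ : PicF.Rig f σ hσ J} [GrpObj J] [IsCommMonObj J]
  (hu : IsUniv0 f σ hσ ζ) (hm : IsMulClass f σ hσ ζ) {j : Over.mk f ⟶ J} (hj : IsAbel f σ hσ ζ j)

/-- The sum of the Abel maps of the coordinates. -/
def sumAbel (j : Over.mk f ⟶ J) (n : ℕ) : powOver f n ⟶ J := ∏ i, (prj f n i ≫ j)

include hm hj in
theorem rel_sumAbel (n : ℕ) :
    Rel f (powOver f n) (cls f σ hσ ζ (sumAbel f j n) * fromX f (powOver f n) (baseTwist f σ hσ n))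
      (∏ i, ptInv f (powOver f n) (prj f n i)) := by
  classical
  have h : ∀ s : Finset (Fin n), Rel f (powOver f n) (cls f σ hσ ζ (∏ i ∈ s, (prj f n i ≫ j)))
      (pt f (powOver f n) (cst f σ hσ _) ^ s.card * ∏ i ∈ s, ptInv f (powOver f n) (prj f n i)) := by
    intro s
    induction s using Finset.induction with
    | empty =>
      rw [Finset.prod_empty, Finset.prod_empty, Finset.card_empty, pow_zero, mul_one, cls_one f σ hσ hm]
      exact Rel.refl _
    | insert a s ha ih =>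
      rw [Finset.prod_insert ha, Finset.prod_insert ha, Finset.card_insert_of_notMem ha, hm]
      refine ((isAbel_rel f σ hσ ζ hj (prj f n a)).mul ih).trans (Rel.of_eq ?_)
      rw [δ, pow_succ]
      ac_rfl
  have h1 := (h Finset.univ).mul (Rel.refl (fromX f (powOver f n) (baseTwist f σ hσ n)))
  refine h1.trans (Rel.of_eq ?_)
  rw [fromX_baseTwist, Finset.card_univ, Fintype.card_fin, mul_right_comm, ← mul_pow, pt_mul_ptInv, one_pow, one_mul]

variable {n : ℕ} (hn : ∀ s, CohIII.fiberRank f (Coh.structureModule X) 1 s = n)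

theorem pull_univ_sum {Y : Over (Spec (CommRingCat.of k))} (Z : HilbD.Obj f n Y) (q : powOver f n ⟶ Y)
    (hq : HilbD.pull f q Z.1 = sumDiv f n) :
    PicF.pullCl (PicF.XTmap f q) (univCl f Z) = ∏ i, ptInv f (powOver f n) (prj f n i) := by
  classical
  have h := pull_univCl f Z q ⟨_, sumDiv_deg f n⟩ hq
  have hc : idl f (⟨_, sumDiv_deg f n⟩ : HilbD.Obj f n (powOver f n)) = ∏ i, pt f (powOver f n) (prj f n i) := by
    have h2 := (IdealCl.eff_and_cl_prod Finset.univ
      (fun i => HilbD.secGraph f (powOver f n) (prj f n i).left (Over.w (prj f n i)))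
      (fun i => isEffCartier_sec f _ (prj f n i)) (fun _ => 1)).2
    simp only [pow_one] at h2
    exact h2
  rw [hc] at h
  refine left_inv_eq_right_inv (a := ∏ i, pt f (powOver f n) (prj f n i)) ?_ ?_
  · rw [mul_comm]; exact h
  · rw [← Finset.prod_mul_distrib]
    exact Finset.prod_eq_one fun i _ => pt_mul_ptInv f _ _

include hσ hu hn in
theorem exists_good_point : ∃ x : J.left, GoodAt f J (ζ.1 * fromX f J (baseTwist f σ hσ n)) x := by
  let K := SeparableClosure k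
  let hK : Spec (CommRingCat.of K) ⟶ Spec (CommRingCat.of k) := Spec.map (CommRingCat.ofHom (algebraMap k K))
  let fK := pullback.snd f hK
  let B : Over (Spec (CommRingCat.of K)) := Over.mk (𝟙 _)
  let T₀ := down hK B
  let x₀ : B.left := (IsLocalRing.closedPoint K : PrimeSpectrum K)
  have h1 : PicF.IsInvertibleCl (1 : PicF.Cl (PicF.XT fK B)) := ⟨_, rfl, InvX.isInvertible_structureModule⟩
  obtain ⟨E, hE, hgood⟩ := cov_sepClosed fK B 1 h1 x₀
  rw [one_mul] at hgood
  have hEi : PicF.IsInvertibleCl (fromX fK B E) := PicClLib.isInvertibleCl_pullCl _ hE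
  let c₀ := toDown f hK (fromX fK B E)
  have hc₀ : PicF.IsInvertibleCl c₀ := toDown_invertible f hK hEi
  have hg₀ : GoodAt f T₀ c₀ x₀ := (goodAt_toDown f hK hEi x₀).2 hgood
  have hd₀ : degAt f T₀ c₀ x₀ = n := by
    obtain ⟨Ω, _, _, p, hp⟩ := JacProper.exists_geomPoint (x₀ : T₀.left)
    let a : Over.mk (p ≫ T₀.hom) ⟶ T₀ := Over.homMk p rfl
    have e : a.left (IsLocalRing.closedPoint Ω : PrimeSpectrum Ω) = x₀ := hp
    obtain ⟨M, hMc, hM⟩ := PicClLib.isInvertibleCl_pullCl (PicF.XTmap f a) hc₀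
    rw [← e, ← degAt_pull f a hc₀, ← hMc, degAt_geom f hM]
    refine deg_of_good f hn hM ?_
    rw [hMc]
    exact (goodAt_iff_geom f hc₀ a).1 (e.symm ▸ hg₀)
  have hp := degAt_pow f (cst f σ hσ T₀) n x₀
  let c₁ := c₀ * pt f T₀ (cst f σ hσ T₀) ^ n
  have hc₁ : PicF.IsInvertibleCl c₁ := PicMul.isInvertibleCl_mul hc₀ hp.2.2.1
  have hd₁ : ∀ t, degAt f T₀ (rigidify f σ hσ hc₁).1 t = 0 := fun t => by
    haveI : Subsingleton T₀.left := inferInstanceAs (Subsingleton (PrimeSpectrum K))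
    obtain rfl : t = x₀ := Subsingleton.elim _ _
    rw [degAt_rel f hc₁ (rel_rigidify f σ hσ hc₁), degAt_mul f hc₀ hp.2.2.1, hd₀, hp.2.2.2]
    ring
  obtain ⟨x, hx, -⟩ := hu.2 T₀ (rigidify f σ hσ hc₁) ((hasFibreDegreeZeroCl_iff f (rigidify f σ hσ hc₁).2.1).2 hd₁)
  refine ⟨x.left x₀, (goodAt_pull f x (PicMul.isInvertibleCl_mul ζ.2.1
    (PicClLib.isInvertibleCl_pullCl _ (baseTwist_invertible f σ hσ n))) x₀).1 ?_⟩
  have h2 : Rel f T₀ (PicF.pullCl (PicF.XTmap f x) (ζ.1 * fromX f J (baseTwist f σ hσ n))) c₀ := by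
    rw [PicMul.pullCl_mul, hx, pull_fromX]
    refine ((rel_rigidify f σ hσ hc₁).mul (Rel.refl _)).trans (Rel.of_eq ?_)
    rw [fromX_baseTwist, mul_assoc, ← mul_pow, pt_mul_ptInv, one_pow, mul_one]
  exact hg₀.congr_rel f h2

include hσ hu hm hj hn in
/-- A dense open of the power maps onto an open of the Jacobian, along which invariant maps factor. -/
theorem exists_chart : ∃ (V : (fibPow f n).Opens), (V : Set (fibPow f n)).Nonempty ∧
    ∃ U : J.left.Opens, (U : Set J.left).Nonempty ∧ (∀ u ∈ U, ∃ v ∈ V, (sumAbel f j n).left v = u) ∧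
      ∀ (A : Over (Spec (CommRingCat.of k))) (F : powOver f n ⟶ A), (∀ p, permO f n p ≫ F = F) →
        ∃ χ : AbDual.ovr J U.ι ⟶ A, ∃ s' : AbDual.ovr (powOver f n) V.ι ⟶ AbDual.ovr J U.ι,
          s' ≫ AbDual.ovrHom J U.ι = AbDual.ovrHom (powOver f n) V.ι ≫ sumAbel f j n ∧
            s' ≫ χ = AbDual.ovrHom (powOver f n) V.ι ≫ F := by
  obtain ⟨Y, Z, q, hZ, hqZ, hqs, -, -, hdesc⟩ := exists_sym f n
  haveI := hqs
  let E := baseTwist f σ hσ n
  have hEi : ∀ T, PicF.IsInvertibleCl (fromX f T E) := fun T =>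
    PicClLib.isInvertibleCl_pullCl _ (baseTwist_invertible f σ hσ n)
  let U : J.left.Opens := goodLocus f J (ζ.1 * fromX f J E)
  have hU : ∀ {T : Over (Spec (CommRingCat.of k))} (a : T ⟶ J) (t : T.left),
      GoodAt f T (cls f σ hσ ζ a * fromX f T E) t ↔ a.left t ∈ U := fun {T} a t => by
    rw [show cls f σ hσ ζ a * fromX f T E = PicF.pullCl (PicF.XTmap f a) (ζ.1 * fromX f J E) by
      rw [PicMul.pullCl_mul, pull_fromX]; rfl]
    exact goodAt_pull f a (PicMul.isInvertibleCl_mul ζ.2.1 (hEi _)) t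
  let UO := AbDual.ovr J U.ι
  let uι : UO ⟶ J := AbDual.ovrHom J U.ι
  obtain ⟨gU, hgU⟩ := exists_to_H₀ f hn Z hZ (PicMul.isInvertibleCl_mul (cls_invertible f σ hσ ζ uι) (hEi UO))
    fun t => (hU uι t).2 t.2
  have hrel : ∀ {T : Over (Spec (CommRingCat.of k))} (g : T ⟶ UO),
      Rel f T (cls f σ hσ ζ (g ≫ uι) * fromX f T E)
        (PicF.pullCl (PicF.XTmap f (g ≫ gU ≫ ι₀ f Z)) (univCl f Z)) := fun {T} g => by
    refine (Rel.of_eq ?_).trans ((hgU.pull g).trans (Rel.of_eq ?_))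
    · rw [PicMul.pullCl_mul, pull_cls, pull_fromX]
    · rw [PicClLib.pullCl_comp, ← PicClLib.XTmap_comp]
  have hmono : ∀ {T : Over (Spec (CommRingCat.of k))} (g g' : T ⟶ UO), g ≫ gU = g' ≫ gU → g = g' := fun {T} g g' e => by
    have h1 := hrel g
    rw [reassoc_of% e] at h1
    have h2 := (h1.trans (hrel g').symm).mul (Rel.refl (invCl (hEi T)))
    have hcan : fromX f T E * invCl (hEi T) = 1 := (mul_comm _ _).trans (invCl_mul _)
    rw [mul_assoc, mul_assoc, hcan, mul_one, mul_one] at h2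
    exact Over.OverMorphism.ext ((cancel_mono U.ι).1
      (congrArg (fun m : T ⟶ J => m.left) (hom_ext_rel f σ hσ hu h2)))
  let V : (fibPow f n).Opens := q.left ⁻¹ᵁ goodLocus f Y (univCl f Z)
  let VO := AbDual.ovr (powOver f n) V.ι
  let vι : VO ⟶ powOver f n := AbDual.ovrHom (powOver f n) V.ι
  have hsum : Rel f VO (cls f σ hσ ζ (vι ≫ sumAbel f j n) * fromX f VO E)
      (PicF.pullCl (PicF.XTmap f (vι ≫ q)) (univCl f Z)) := by
    refine (Rel.of_eq ?_).trans (((rel_sumAbel f σ hσ hm hj n).pull vι).trans (Rel.of_eq ?_))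
    · rw [PicMul.pullCl_mul, pull_cls, pull_fromX]
    · rw [← pull_univ_sum f Z q hqZ, PicClLib.pullCl_comp, ← PicClLib.XTmap_comp]
  have hVU : ∀ v : VO.left, (vι ≫ sumAbel f j n).left v ∈ U := fun v =>
    (hU _ v).1 (((goodAt_pull f (vι ≫ q) (univCl_invertible f Z) v).2 v.2).congr_rel f hsum)
  let s' : VO ⟶ UO := Over.homMk (IsOpenImmersion.lift U.ι (vι ≫ sumAbel f j n).left (by
      rintro _ ⟨v, rfl⟩
      exact ⟨⟨_, hVU v⟩, rfl⟩)) (by
    show IsOpenImmersion.lift U.ι (vι ≫ sumAbel f j n).left _ ≫ U.ι ≫ J.hom = _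
    rw [IsOpenImmersion.lift_fac_assoc]
    exact Over.w (vι ≫ sumAbel f j n))
  have hs' : s' ≫ uι = vι ≫ sumAbel f j n := Over.OverMorphism.ext (IsOpenImmersion.lift_fac _ _ _)
  have hsq : s' ≫ gU ≫ ι₀ f Z = vι ≫ q := by
    have hr : Set.range (vι ≫ q).left ⊆ Set.range (goodLocus f Y (univCl f Z)).ι := by
      rintro _ ⟨v, rfl⟩
      rw [Scheme.Opens.range_ι]
      exact v.2
    let q' : VO ⟶ H₀ f Z := Over.homMk (IsOpenImmersion.lift _ (vι ≫ q).left hr) (by
      show IsOpenImmersion.lift _ _ hr ≫ (goodLocus f Y (univCl f Z)).ι ≫ Y.hom = _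
      rw [IsOpenImmersion.lift_fac_assoc]
      exact Over.w (vι ≫ q))
    have hq' : q' ≫ ι₀ f Z = vι ≫ q := Over.OverMorphism.ext (IsOpenImmersion.lift_fac _ _ _)
    have h1 := hrel s'
    rw [hs'] at h1
    have e : s' ≫ gU = q' := ext_of_pull f Z (by rw [hq', Category.assoc]; exact h1.symm.trans hsum) hZ
    rw [← Category.assoc, e, hq']
  have hsurj : ∀ u ∈ U, ∃ v ∈ V, (sumAbel f j n).left v = u := fun u hu' => by
    let u₁ : UO.left := ⟨u, hu'⟩
    obtain ⟨x, hx⟩ := q.left.surjective ((gU ≫ ι₀ f Z).left u₁)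
    have hxV : x ∈ V := by
      show q.left x ∈ goodLocus f Y (univCl f Z)
      rw [hx]
      exact (gU.left u₁).2
    let x₁ : VO.left := ⟨x, hxV⟩
    have hpt : (s' ≫ gU).left x₁ = gU.left u₁ := by
      apply (goodLocus f Y (univCl f Z)).ι.isOpenEmbedding.injective
      show ((s' ≫ gU) ≫ ι₀ f Z).left x₁ = (gU ≫ ι₀ f Z).left u₁
      rw [Category.assoc, hsq]
      exact hx
    obtain ⟨w, hw₁, hw₂⟩ := Scheme.Pullback.exists_preimage_pullback (f := gU.left) (g := (s' ≫ gU).left) u₁ x₁ hpt.symm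
    let W : Over (Spec (CommRingCat.of k)) := Over.mk (pullback.fst gU.left (s' ≫ gU).left ≫ UO.hom)
    let p₁ : W ⟶ UO := Over.homMk (pullback.fst _ _) rfl
    let p₂ : W ⟶ VO := Over.homMk (pullback.snd gU.left (s' ≫ gU).left) (by
      show pullback.snd gU.left (s' ≫ gU).left ≫ VO.hom = pullback.fst _ _ ≫ UO.hom
      rw [← Over.w gU, pullback.condition_assoc, Over.w (s' ≫ gU)])
    have hp : p₁ = p₂ ≫ s' := hmono _ _ (Over.OverMorphism.ext (by
      rw [Over.comp_left, Over.comp_left, Over.comp_left, Category.assoc]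
      exact pullback.condition))
    refine ⟨x, hxV, ?_⟩
    calc (sumAbel f j n).left x = (s' ≫ uι).left x₁ := by rw [hs']; rfl
      _ = uι.left (s'.left x₁) := rfl
      _ = uι.left (p₁.left w) := by rw [hp, ← hw₂]; rfl
      _ = u := by rw [show p₁.left w = u₁ from hw₁]; rfl
  obtain ⟨x₀, hx₀⟩ := exists_good_point f σ hσ hu hn
  obtain ⟨v₀, hv₀, -⟩ := hsurj x₀ hx₀
  refine ⟨V, ⟨v₀, hv₀⟩, U, ⟨x₀, hx₀⟩, hsurj, fun A F hF => ?_⟩
  obtain ⟨F', hF'⟩ := hdesc A F hF
  exact ⟨gU ≫ ι₀ f Z ≫ F', s', hs', by rw [reassoc_of% hsq, hF']⟩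

variable [IsProper J.hom] [Smooth J.hom] [GeometricallyIntegral J.hom]

include hσ hu hm hj hn in
/-- **The Albanese property.** -/
theorem existsUnique_factor (hn0 : 0 < n) (A : Over (Spec (CommRingCat.of k))) [GrpObj A] [IsProper A.hom]
    [GeometricallyIntegral A.hom] (φ : Over.mk f ⟶ A) (hφ : σ ≫ φ.left = η[A].left) :
    ∃! χ : J ⟶ A, IsMonHom χ ∧ j ≫ χ = φ := by
  classical
  haveI : IsCommMonObj A := isCommMonObj_of_isProper_of_geometricallyIntegral A
  haveI : Smooth f := SmoothOfRelativeDimension.smooth 1 f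
  haveI := JacDeg.geometricallyIntegral f
  haveI : IsIntegral (powOver f n).left := isIntegral_pow f n
  haveI : IsIntegral (fibPow f n) := isIntegral_pow f n
  haveI : IsIntegral J.left := H23.MaxAbelian.isIntegral_of_geometricallyIntegral
  haveI : A.left.IsSeparated := ⟨by rw [← Limits.terminal.comp_from A.hom]; infer_instance⟩
  obtain ⟨V, hVne, U, hUne, hsurj, hfac⟩ := exists_chart f σ hσ hu hm hj hn
  let F : powOver f n ⟶ A := ∏ i, (prj f n i ≫ φ)
  have hFinv : ∀ p, permO f n p ≫ F = F := fun p => by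
    refine (map_prod (preHom (G := A) (permO f n p)) _ _).trans (Fintype.prod_equiv p.symm _ _ fun i => ?_)
    show permO f n p ≫ prj f n i ≫ φ = _
    rw [← Category.assoc, permO_prj]
  obtain ⟨χU, s', hs', hsχ⟩ := hfac A F hFinv
  obtain ⟨χ₀, hχ₀⟩ := H23.RatExt.exists_extension (X := J) (G := A) U hUne χU.left (Over.w χU)
  have hχ₀' : AbDual.ovrHom J U.ι ≫ χ₀ = χU := Over.OverMorphism.ext hχ₀
  let vι := AbDual.ovrHom (powOver f n) V.ι
  have h0 : vι ≫ sumAbel f j n ≫ χ₀ = vι ≫ F := by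
    rw [← reassoc_of% hs', hχ₀', hsχ]
  haveI : Nonempty V := ⟨⟨_, hVne.choose_spec⟩⟩
  haveI : IsDominant V.ι := ⟨by
    rw [DenseRange, Scheme.Opens.range_ι]
    exact V.isOpen.dense hVne⟩
  haveI : IsDominant vι.left := ‹IsDominant V.ι›
  let a₀ : 𝟙_ (Over (Spec (CommRingCat.of k))) ⟶ A := η[J] ≫ χ₀
  let χ : J ⟶ A := χ₀ * (toUnit J ≫ a₀)⁻¹
  have hχ1 : η[J] ≫ χ = η[A] := by
    rw [MonObj.comp_mul, GrpObj.comp_inv, H23.AlbFormal.pt_toUnit, mul_inv_cancel, MonObj.one_eq_one]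
  haveI hχ : IsMonHom χ := H23.AlbFormal.isMonHom_of_one χ hχ1
  have hall : ∀ (g : powOver f n ⟶ A), vι ≫ g = vι ≫ F → g = F := fun g e =>
    Over.OverMorphism.ext (ext_of_isDominant vι.left (congrArg (fun m : _ ⟶ A => m.left) e))
  have hs : sumAbel f j n ≫ χ₀ = F := hall _ h0
  let h : Over.mk f ⟶ A := (j ≫ χ) * φ⁻¹
  let c : Over.mk f ⟶ A := cst f σ hσ _ ≫ h
  have hcσ : cst f σ hσ (Over.mk f) ≫ φ = 1 := by
    rw [← H23.AlbFormal.toUnit_one]
    refine Over.OverMorphism.ext ?_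
    show (f ≫ σ) ≫ φ.left = f ≫ η[A].left
    rw [Category.assoc, hφ]
  have hj1 : cst f σ hσ (Over.mk f) ≫ j = 1 := hom_ext_rel f σ hσ hu (by
    show Rel f _ (cls f σ hσ ζ _) (cls f σ hσ ζ _)
    rw [cls_one f σ hσ hm]
    refine (isAbel_rel f σ hσ ζ hj (cst f σ hσ (Over.mk f))).trans (Rel.of_eq ?_)
    rw [δ, pt_mul_ptInv])
  have hc1 : c = 1 := by
    show cst f σ hσ _ ≫ _ = 1
    rw [MonObj.comp_mul, GrpObj.comp_inv, hcσ, inv_one, mul_one, ← Category.assoc, hj1]
    exact map_one (postHom χ)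
  have hprod : ∏ i, (prj f n i ≫ h) = (toUnit (powOver f n) ≫ a₀)⁻¹ := by
    have e1 : ∀ i, prj f n i ≫ h = (prj f n i ≫ j ≫ χ) * (prj f n i ≫ φ)⁻¹ := fun i => by
      show prj f n i ≫ _ = _
      rw [MonObj.comp_mul, GrpObj.comp_inv]
    have e2 : ∏ i, (prj f n i ≫ j ≫ χ) = sumAbel f j n ≫ χ :=
      (Finset.prod_congr rfl fun i _ => (Category.assoc _ _ _).symm).trans
        (map_prod (postHom χ) (fun i => prj f n i ≫ j) Finset.univ).symm
    rw [Finset.prod_congr rfl fun i _ => e1 i, Finset.prod_mul_distrib, Finset.prod_inv_distrib, e2]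
    show (sumAbel f j n ≫ (χ₀ * (toUnit J ≫ a₀)⁻¹)) * F⁻¹ = _
    rw [MonObj.comp_mul, GrpObj.comp_inv, hs, ← Category.assoc, toUnit_unique (sumAbel f j n ≫ toUnit J) (toUnit _),
      mul_comm F, mul_assoc, mul_inv_cancel, mul_one]
  let i₀ : Fin n := ⟨0, hn0⟩
  let emb : Over.mk f ⟶ powOver f n :=
    Over.homMk (WidePullback.lift f (fun i => if i = i₀ then 𝟙 X else f ≫ σ) fun i => by
      split_ifs
      · exact Category.id_comp f
      · rw [Category.assoc, hσ, Category.comp_id]) (WidePullback.lift_base _ _ _ _)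
  have hemb : ∀ i, emb ≫ prj f n i = if i = i₀ then 𝟙 _ else cst f σ hσ _ := fun i => by
    refine Over.OverMorphism.ext ((WidePullback.lift_π _ _ _ _ _).trans ?_)
    split_ifs <;> rfl
  have h1 : h = (toUnit (Over.mk f) ≫ a₀)⁻¹ := by
    have e := congrArg (fun g => emb ≫ g) hprod
    have e' : emb ≫ ∏ i, (prj f n i ≫ h) = h := by
      refine (map_prod (preHom (G := A) emb) _ _).trans ((Fintype.prod_eq_single i₀ fun i hi => ?_).trans ?_)
      · show emb ≫ prj f n i ≫ h = 1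
        rw [← Category.assoc, hemb, if_neg hi]
        exact hc1
      · show emb ≫ prj f n i₀ ≫ h = h
        rw [← Category.assoc, hemb, if_pos rfl, Category.id_comp]
    rw [e', GrpObj.comp_inv, ← Category.assoc, toUnit_unique (emb ≫ toUnit _) (toUnit _)] at e
    exact e
  have h2 : h = 1 := by
    have e := congrArg (fun g => cst f σ hσ (Over.mk f) ≫ g) h1
    rw [show cst f σ hσ (Over.mk f) ≫ h = 1 from hc1, GrpObj.comp_inv, ← Category.assoc,
      toUnit_unique (cst f σ hσ _ ≫ toUnit _) (toUnit _)] at e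
    rw [h1, ← e]
  refine ⟨χ, ⟨hχ, mul_inv_eq_one.1 h2⟩, fun χ' hχ' => ?_⟩
  obtain ⟨hχ'm, hχ'j⟩ := hχ'
  haveI := hχ'm
  have hF : ∀ (χ'' : J ⟶ A) [IsMonHom χ''], j ≫ χ'' = φ → sumAbel f j n ≫ χ'' = F := fun χ'' _ e =>
    (map_prod (postHom χ'') (fun i => prj f n i ≫ j) Finset.univ).trans (Finset.prod_congr rfl fun i _ => by
      show (prj f n i ≫ j) ≫ χ'' = _
      rw [Category.assoc, e])
  haveI : IsDominant (sumAbel f j n).left := ⟨by
    refine Dense.mono ?_ (U.isOpen.dense hUne)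
    intro u hu'
    obtain ⟨v, -, hv⟩ := hsurj u hu'
    exact ⟨v, hv⟩⟩
  refine Over.OverMorphism.ext (ext_of_isDominant (sumAbel f j n).left ?_)
  exact congrArg (fun m : _ ⟶ A => m.left) ((hF χ' hχ'j).trans (hF χ (mul_inv_eq_one.1 h2)).symm)

end Groth.Agent.PicCurve
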