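import Groth.Agent.Lib.RigPoints
import Groth.Agent.InvX.Frame
import Groth.Agent.S10964
import Groth.Agent.H23.RepCharts

/-!
# Rigidified classes as a Zariski sheaf on schemes
-/

set_option autoImplicit false
set_option linter.style.haveILetI false
set_option linter.unusedSectionVars false
set_option backward.isDefEq.respectTransparency false
set_option backward.isDefEq.respectTransparency.types false
set_option maxHeartbeats 1000000

universe u

open CategoryTheory CategoryTheory.Limits AlgebraicGeometry TopologicalSpace Opposite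

noncomputable section

namespace Groth.Agent.PicCurve

open Groth.Agent
open scoped Groth.Agent.H23.PicMul

attribute [local instance] H23.PicMul.clMonoid

/-- Frames and the transition functions between them. -/
structure TransData (Y : Scheme.{u}) : Type u where
  U : Y → Y.Opens
  η : ∀ i j, Γ(Y, U i ⊓ U j)

/-- Invertible classes form a small type. -/
instance small_invertible (Y : Scheme.{u}) : Small.{u} {c : PicF.Cl Y // PicF.IsInvertibleCl c} := by
  classical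
  have h : ∀ c : {c : PicF.Cl Y // PicF.IsInvertibleCl c}, ∃ (D : TransData Y) (M : Y.Modules) (e : ∀ i, Γ(M, D.U i)),
      PicF.cl M = c.1 ∧ iSup D.U = ⊤ ∧ (∀ i, InvX.IsFrame (e i)) ∧
      ∀ i j, M.presheaf.map (homOfLE (inf_le_left : D.U i ⊓ D.U j ≤ D.U i)).op (e i) =
        D.η i j • M.presheaf.map (homOfLE (inf_le_right : D.U i ⊓ D.U j ≤ D.U j)).op (e j) := by
    rintro ⟨_, M, rfl, hM⟩
    choose U hU e he using InvX.exists_frame hM
    choose η hη using fun i j => (he j).exists_coord (inf_le_right : U i ⊓ U j ≤ U j) (AModX.res M inf_le_left (e i))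
    exact ⟨⟨U, η⟩, M, e, rfl, eq_top_iff.2 fun y _ => Opens.mem_iSup.2 ⟨y, hU y⟩, he, hη⟩
  choose D M e hc hcov hfr hη using h
  refine small_of_injective (f := D) fun c c' heq => Subtype.ext ?_
  rw [← hc c, ← hc c']
  have key : ∀ (D' : TransData Y) (M' : Y.Modules) (e' : ∀ i, Γ(M', D'.U i)), D c = D' →
      (∀ i, InvX.IsFrame (e' i)) →
      (∀ i j, M'.presheaf.map (homOfLE (inf_le_left : D'.U i ⊓ D'.U j ≤ D'.U i)).op (e' i) =
        D'.η i j • M'.presheaf.map (homOfLE (inf_le_right : D'.U i ⊓ D'.U j ≤ D'.U j)).op (e' j)) →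
      PicF.cl (M c) = PicF.cl M' := by
    rintro _ M' e' rfl he' hη'
    exact H23.PicMul.cl_eq_iff.2 ((S10964.result Y (D c).U (hcov c) (M c) M' (e c) e' (hfr c) he'
      (D c).η (D c).η (hη c) hη').2 ⟨fun i => 1, fun i j => by simp [mul_comm]⟩)
  exact key _ _ _ heq (hfr c') (hη c')

variable {X S : Scheme.{u}} (f : X ⟶ S) (σ : S ⟶ X) (hσ : σ ≫ f = 𝟙 S)

instance small_rig (T : Over S) : Small.{u} (PicF.Rig f σ hσ T) :=
  small_of_injective (f := fun c : PicF.Rig f σ hσ T => (⟨c.1, c.2.1⟩ : {c // PicF.IsInvertibleCl c}))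
    fun a b h => Subtype.ext (congrArg Subtype.val h :)

/-- An element over a scheme. -/
structure El (Y : Scheme.{u}) : Type u where
  hom : Y ⟶ S
  cls : Shrink.{u} (PicF.Rig f σ hσ (Over.mk hom))

variable {f σ hσ}

/-- The class seen through a map. -/
def El.val {Y : Scheme.{u}} (e : El f σ hσ Y) {T : Over S} (g : T ⟶ Over.mk e.hom) : PicF.Rig f σ hσ T :=
  RigPoints.pullRig f σ hσ g ((equivShrink _).symm e.cls)

/-- The element of a rigidified class. -/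
def El.of {T : Over S} (c : PicF.Rig f σ hσ T) : El f σ hσ T.left :=
  ⟨T.hom, equivShrink _ (RigPoints.pullRig f σ hσ (Over.homMk (𝟙 T.left) : Over.mk T.hom ⟶ T) c)⟩

theorem pullRig_comp {T T' T'' : Over S} (h : T'' ⟶ T') (g : T' ⟶ T) (c : PicF.Rig f σ hσ T) :
    RigPoints.pullRig f σ hσ h (RigPoints.pullRig f σ hσ g c) = RigPoints.pullRig f σ hσ (h ≫ g) c :=
  Subtype.ext (by
    show PicF.pullCl _ (PicF.pullCl _ _) = PicF.pullCl _ _
    rw [PicClLib.pullCl_comp, ← PicClLib.XTmap_comp])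

theorem XTmap_id (T : Over S) : PicF.XTmap f (𝟙 T) = 𝟙 _ := by
  apply pullback.hom_ext <;> simp [PicF.XTmap, pullback.map]

theorem pullRig_id {T : Over S} (c : PicF.Rig f σ hσ T) : RigPoints.pullRig f σ hσ (𝟙 T) c = c :=
  Subtype.ext (by
    show PicF.pullCl _ _ = _
    rw [XTmap_id, PicClLib.pullCl_id])

theorem El.of_val {T : Over S} (c : PicF.Rig f σ hσ T) {T' : Over S} (g : T' ⟶ Over.mk (El.of c).hom)
    (g' : T' ⟶ T) (h : g'.left = g.left) : (El.of c).val g = RigPoints.pullRig f σ hσ g' c := by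
  unfold El.val El.of
  rw [Equiv.symm_apply_apply, pullRig_comp]
  congr 1
  exact Over.OverMorphism.ext (by rw [Over.comp_left]; exact (Category.comp_id _).trans h.symm)

theorem El.pull_val {Y : Scheme.{u}} (e : El f σ hσ Y) {T T' : Over S} (h : T' ⟶ T) (g : T ⟶ Over.mk e.hom) :
    RigPoints.pullRig f σ hσ h (e.val g) = e.val (h ≫ g) :=
  pullRig_comp h g _

theorem El.ext' {Y : Scheme.{u}} {e e' : El f σ hσ Y} (h : e.hom = e'.hom)
    (hv : e.val (𝟙 (Over.mk e.hom)) = e'.val (Over.homMk (𝟙 Y) (by simp [h]) : Over.mk e.hom ⟶ Over.mk e'.hom)) :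
    e = e' := by
  obtain ⟨b, c⟩ := e
  obtain ⟨b', c'⟩ := e'
  obtain rfl : b = b' := h
  rw [show (Over.homMk (𝟙 Y) (by simp) : Over.mk b ⟶ Over.mk b) = 𝟙 _ from Over.OverMorphism.ext rfl] at hv
  unfold El.val at hv
  rw [pullRig_id, pullRig_id] at hv
  rw [show c = c' from (equivShrink _).symm.injective hv]

theorem El.val_congr {Y : Scheme.{u}} {e e' : El f σ hσ Y} (h : e = e') {T : Over S}
    (g : T ⟶ Over.mk e.hom) (g' : T ⟶ Over.mk e'.hom) (hl : g.left = g'.left) : e.val g = e'.val g' := by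
  subst h
  rw [show g = g' from Over.OverMorphism.ext hl]

variable (f σ hσ)

/-- Restriction. -/
def El.map {Y Y' : Scheme.{u}} (a : Y' ⟶ Y) (e : El f σ hσ Y) : El f σ hσ Y' :=
  ⟨a ≫ e.hom, equivShrink _ (e.val (Over.homMk a : Over.mk (a ≫ e.hom) ⟶ Over.mk e.hom))⟩

variable {f σ hσ}

theorem El.map_val {Y Y' : Scheme.{u}} (a : Y' ⟶ Y) (e : El f σ hσ Y) {T : Over S}
    (g : T ⟶ Over.mk (e.map f σ hσ a).hom) (g' : T ⟶ Over.mk e.hom) (h : g'.left = g.left ≫ a) :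
    (e.map f σ hσ a).val g = e.val g' := by
  unfold El.val El.map
  rw [Equiv.symm_apply_apply, El.val, pullRig_comp]
  congr 1
  exact Over.OverMorphism.ext (by rw [Over.comp_left]; exact h.symm)

variable (f σ hσ)

/-- The functor of rigidified classes. -/
def rigFunctor : Scheme.{u}ᵒᵖ ⥤ Type u where
  obj Y := El f σ hσ Y.unop
  map a := ↾fun e : El f σ hσ _ => e.map f σ hσ a.unop
  map_id Y := by
    refine ConcreteCategory.hom_ext _ _ fun (e : El f σ hσ Y.unop) => ?_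
    refine El.ext' (Category.id_comp _) ?_
    exact El.map_val _ e _ _ (by simp)
  map_comp {Y Y' Y''} a b := by
    refine ConcreteCategory.hom_ext _ _ fun (e : El f σ hσ Y.unop) => ?_
    refine El.ext' (Category.assoc b.unop a.unop e.hom) ?_
    show (e.map f σ hσ (b.unop ≫ a.unop)).val _ = ((e.map f σ hσ a.unop).map f σ hσ b.unop).val _
    let h₀ : Over.mk ((b.unop ≫ a.unop) ≫ e.hom) ⟶ Over.mk e.hom := Over.homMk (b.unop ≫ a.unop)
    let h₁ : Over.mk ((b.unop ≫ a.unop) ≫ e.hom) ⟶ Over.mk (e.map f σ hσ a.unop).hom :=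
      Over.homMk b.unop (Category.assoc b.unop a.unop e.hom).symm
    exact (El.map_val _ e _ h₀ (by simp [h₀])).trans
      ((El.map_val _ (e.map f σ hσ a.unop) _ h₁ (by simp [h₁])).trans
        (El.map_val _ e h₁ h₀ (by simp [h₀, h₁]))).symm

theorem rigFunctor_map {Y Y' : Scheme.{u}} (a : Y' ⟶ Y) (e : El f σ hσ Y) :
    (rigFunctor f σ hσ).map a.op e = e.map f σ hσ a := rfl

variable (ha : ∀ (T : Over S) (U : T.left.Opens), IsIso ((PicF.XTproj f T).app U))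

section Sheaf

variable {T : Over S} {I : Type u} {U : I → Over S} (t : ∀ i, U i ⟶ T) [∀ i, IsOpenImmersion (t i).left]
  (hd : ∀ {Z : Scheme.{u}} {i j : I} (a : Z ⟶ (U i).left) (b : Z ⟶ (U j).left),
    a ≫ (t i).left = b ≫ (t j).left → i ≠ j → IsEmpty Z)
  (hcov : ∀ x : T.left, ∃ i y, (t i).left y = x)

include hd hcov in
/-- Classes on a disjoint union are determined by their pieces. -/
theorem cl_eq_of_pieces {c c' : PicF.Cl (PicF.XT f T)} (hc : PicF.IsInvertibleCl c) (hc' : PicF.IsInvertibleCl c')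
    (h : ∀ i, PicF.pullCl (PicF.XTmap f (t i)) c = PicF.pullCl (PicF.XTmap f (t i)) c') : c = c' := by
  haveI : ∀ i, IsOpenImmersion (PicF.XTmap f (t i)) := fun i =>
    MorphismProperty.of_isPullback (RigPoints.isPullback_XTmap f (t i)).flip inferInstance
  refine RigPoints.cl_eq_of_disjoint (fun i => PicF.XTmap f (t i)) (fun {Z i j} a b e hij => ?_) (fun z => ?_) hc hc' h
  · refine hd (a ≫ PicF.XTproj f _) (b ≫ PicF.XTproj f _) ?_ hij
    have := congrArg (· ≫ PicF.XTproj f T) e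
    simp only [Category.assoc, RigPoints.XTmap_proj] at this
    rw [Category.assoc, Category.assoc]
    exact this
  · obtain ⟨i, x, hx⟩ := hcov (PicF.XTproj f T z)
    let O := PicF.XTproj f T ⁻¹ᵁ (t i).left.opensRange
    let l := (RigPoints.isPullback_XTmap f (t i)).lift O.ι
      (IsOpenImmersion.lift (t i).left (O.ι ≫ PicF.XTproj f T) (by rintro _ ⟨q, rfl⟩; exact q.2))
      (IsOpenImmersion.lift_fac _ _ _).symm
    refine ⟨i, l ⟨z, x, hx⟩, ?_⟩
    rw [← Scheme.Hom.comp_apply, IsPullback.lift_fst]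
    rfl

end Sheaf

include ha in
/-- **The sheaf property.** -/
theorem isSheaf_rigFunctor : Presieve.IsSheaf Scheme.zariskiTopology (rigFunctor f σ hσ) := by
  refine H23.RepCharts.isSheaf_of_covers _ fun {Y} 𝒰 => ?_
  rw [Presieve.isSheafFor_arrows_iff]
  intro x hx
  let e : ∀ i, El f σ hσ (𝒰.X i) := x
  have hom_ : ∀ (i j : 𝒰.I₀) {Z : Scheme.{u}} (gi : Z ⟶ 𝒰.X i) (gj : Z ⟶ 𝒰.X j), gi ≫ 𝒰.f i = gj ≫ 𝒰.f j →
      (e i).map f σ hσ gi = (e j).map f σ hσ gj := fun i j Z gi gj h => hx i j Z gi gj h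
  let g : Y ⟶ S := 𝒰.glueMorphisms (fun i => (e i).hom) fun i j =>
    congrArg El.hom (hom_ i j _ _ pullback.condition)
  have hg : ∀ i, 𝒰.f i ≫ g = (e i).hom := fun i => Scheme.Cover.ι_glueMorphisms 𝒰 _ _ i
  let T : Over S := Over.mk g
  let P : Over S := RigPoints.tot T 𝒰.X 𝒰.f
  let m : ∀ i, AbDual.ovr T (𝒰.f i) ⟶ Over.mk (e i).hom := fun i =>
    Over.homMk (𝟙 _) (by show 𝟙 _ ≫ (e i).hom = 𝒰.f i ≫ g; rw [hg, Category.id_comp])
  choose L hLc hL using fun i => ((e i).val (m i)).2.1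
  obtain ⟨M, hM, hMj⟩ := DisjointGlue.exists_glue (fun i => PicF.XTmap f (RigPoints.inc T 𝒰.X 𝒰.f i))
    (RigPoints.inc_disjoint f T 𝒰.X 𝒰.f) (RigPoints.inc_cover f T 𝒰.X 𝒰.f) L hL
  have hMb : ∀ i, PicF.pullCl (PicF.XTmap f (RigPoints.inc T 𝒰.X 𝒰.f i)) (PicF.cl M) = ((e i).val (m i)).1 := fun i =>
    (H23.PicMul.cl_eq_iff.2 (hMj i)).trans (hLc i)
  let C : PicF.Rig f σ hσ P := ⟨PicF.cl M, ⟨M, rfl, hM⟩,
    RigPoints.cl_eq_one_of_disjoint (Sigma.ι 𝒰.X) (RigPoints.sigma_disjoint 𝒰.X)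
      (fun y => (sigmaOpenCover 𝒰.X).exists_eq y)
      (PicClLib.isInvertibleCl_pullCl _ ⟨M, rfl, hM⟩) fun i => by
        rw [PicClLib.pullCl_comp]
        refine (congrArg (fun m' => PicF.pullCl m' (PicF.cl M))
          (RigPoints.sec_XTmap f σ hσ (RigPoints.inc T 𝒰.X 𝒰.f i)).symm).trans ?_
        rw [← PicClLib.pullCl_comp, hMb]
        exact ((e i).val (m i)).2.2⟩
  have hCi : ∀ i, RigPoints.pullRig f σ hσ (RigPoints.inc T 𝒰.X 𝒰.f i) C = (e i).val (m i) := fun i =>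
    Subtype.ext (hMb i)
  let u := Sigma.desc 𝒰.f
  haveI : Flat u := RigPoints.flat_desc T 𝒰.X 𝒰.f fun i => inferInstance
  haveI : LocallyOfFinitePresentation u := RigPoints.lfp_desc T 𝒰.X 𝒰.f fun i => inferInstance
  haveI : Surjective u := RigPoints.surjective_desc T 𝒰.X 𝒰.f fun y => 𝒰.exists_eq y
  let R := AbDual.ovr T (pullback.fst u u ≫ u)
  have hglue : PicF.pullCl (PicF.XTmap f (RigDatum.r₁ T u)) C.1 = PicF.pullCl (PicF.XTmap f (RigDatum.r₂ T u)) C.1 := by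
    let r₁ := RigDatum.r₁ T u
    let r₂ := RigDatum.r₂ T u
    let Q := r₁.left
    let O : 𝒰.I₀ × 𝒰.I₀ → _ := fun p =>
      r₁.left ⁻¹ᵁ (Sigma.ι 𝒰.X p.1).opensRange ⊓ r₂.left ⁻¹ᵁ (Sigma.ι 𝒰.X p.2).opensRange
    let t : ∀ p, AbDual.ovr _ (O p).ι ⟶ _ := fun p => AbDual.ovrHom _ (O p).ι
    haveI : ∀ p, IsOpenImmersion (t p).left := fun p => inferInstanceAs (IsOpenImmersion (O p).ι)
    refine cl_eq_of_pieces f t (fun {Z i j} a b hab hij => ⟨fun z => hij ?_⟩) (fun z => ?_)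
      (PicClLib.isInvertibleCl_pullCl _ C.2.1) (PicClLib.isInvertibleCl_pullCl _ C.2.1) fun p => ?_
    · have h1 : (O i).ι (a z) = (O j).ι (b z) :=
        congrArg (fun q : Z ⟶ _ => q z) (hab : a ≫ (O i).ι = b ≫ (O j).ι)
      have hi := (a z).2
      have hj := (b z).2
      change (O i).ι (a z) ∈ O i at hi
      change (O j).ι (b z) ∈ O j at hj
      rw [h1] at hi
      have key : ∀ {Q' : Scheme.{u}} (r : Q' ⟶ ∐ 𝒰.X) (z : Q') (k l : 𝒰.I₀), z ∈ r ⁻¹ᵁ (Sigma.ι 𝒰.X k).opensRange →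
          z ∈ r ⁻¹ᵁ (Sigma.ι 𝒰.X l).opensRange → k = l := fun r z k l ⟨a, ha⟩ ⟨b, hb⟩ =>
        congrArg Sigma.fst ((sigmaMk 𝒰.X).injective (a₁ := ⟨k, a⟩) (a₂ := ⟨l, b⟩)
          ((sigmaMk_mk 𝒰.X k a).trans ((ha.trans hb.symm).trans (sigmaMk_mk 𝒰.X l b).symm)))
      exact Prod.ext (key r₁.left _ _ _ hi.1 hj.1) (key r₂.left _ _ _ hi.2 hj.2)
    · obtain ⟨i, a, ha'⟩ := (sigmaOpenCover 𝒰.X).exists_eq (r₁.left z)
      obtain ⟨j, b, hb'⟩ := (sigmaOpenCover 𝒰.X).exists_eq (r₂.left z)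
      exact ⟨(i, j), ⟨z, ⟨a, ha'⟩, ⟨b, hb'⟩⟩, rfl⟩
    · rw [PicClLib.pullCl_comp, PicClLib.pullCl_comp, ← PicClLib.XTmap_comp, ← PicClLib.XTmap_comp]
      let a := IsOpenImmersion.lift (Sigma.ι 𝒰.X p.1) ((t p).left ≫ r₁.left) (by
        rintro _ ⟨q, rfl⟩; exact q.2.1)
      let b := IsOpenImmersion.lift (Sigma.ι 𝒰.X p.2) ((t p).left ≫ r₂.left) (by
        rintro _ ⟨q, rfl⟩; exact q.2.2)
      have hai : a ≫ Sigma.ι 𝒰.X p.1 = (t p).left ≫ r₁.left := IsOpenImmersion.lift_fac _ _ _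
      have hbi : b ≫ Sigma.ι 𝒰.X p.2 = (t p).left ≫ r₂.left := IsOpenImmersion.lift_fac _ _ _
      have hab : a ≫ 𝒰.f p.1 = b ≫ 𝒰.f p.2 := by
        have e1 : a ≫ 𝒰.f p.1 = ((t p).left ≫ r₁.left) ≫ u := by rw [← hai, Category.assoc, Sigma.ι_desc]
        have e2 : b ≫ 𝒰.f p.2 = ((t p).left ≫ r₂.left) ≫ u := by rw [← hbi, Category.assoc, Sigma.ι_desc]
        rw [e1, e2, Category.assoc, Category.assoc]
        exact congrArg ((t p).left ≫ ·) pullback.condition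
      let ta : AbDual.ovr _ (O p).ι ⟶ AbDual.ovr T (𝒰.f p.1) := Over.homMk a (by
        show a ≫ 𝒰.f p.1 ≫ g = _
        rw [← Sigma.ι_desc 𝒰.f p.1, Category.assoc, reassoc_of% hai]
        exact congrArg ((t p).left ≫ ·) (Over.w r₁))
      have hw : a ≫ 𝒰.f p.1 ≫ g = (AbDual.ovr _ (O p).ι).hom := Over.w ta
      let tb : AbDual.ovr _ (O p).ι ⟶ AbDual.ovr T (𝒰.f p.2) := Over.homMk b (by
        show b ≫ 𝒰.f p.2 ≫ g = _
        rw [← hw, reassoc_of% hab])
      rw [show t p ≫ r₁ = ta ≫ RigPoints.inc T 𝒰.X 𝒰.f p.1 from Over.OverMorphism.ext hai.symm,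
        show t p ≫ r₂ = tb ≫ RigPoints.inc T 𝒰.X 𝒰.f p.2 from Over.OverMorphism.ext hbi.symm,
        PicClLib.XTmap_comp, PicClLib.XTmap_comp, ← PicClLib.pullCl_comp, ← PicClLib.pullCl_comp, hMb, hMb]
      change (RigPoints.pullRig f σ hσ ta ((e p.1).val (m p.1))).1 = (RigPoints.pullRig f σ hσ tb ((e p.2).val (m p.2))).1
      refine congrArg Subtype.val ?_
      rw [El.pull_val, El.pull_val]
      have hom' : (e p.1).map f σ hσ a = (e p.2).map f σ hσ b := hom_ _ _ a b hab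
      let ω : AbDual.ovr _ (O p).ι ⟶ Over.mk ((e p.1).map f σ hσ a).hom := Over.homMk (𝟙 _) (by
        show 𝟙 _ ≫ a ≫ (e p.1).hom = _
        rw [Category.id_comp, ← hg p.1, hw])
      rw [← El.map_val a (e p.1) ω (ta ≫ m p.1) (by simp [ta, m, ω])]
      let ω' : AbDual.ovr _ (O p).ι ⟶ Over.mk ((e p.2).map f σ hσ b).hom := Over.homMk (𝟙 _) (by
        show 𝟙 _ ≫ ((e p.2).map f σ hσ b).hom = _
        rw [← congrArg El.hom hom']
        exact Over.w ω)
      rw [El.val_congr hom' ω ω' rfl]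
      exact El.map_val b (e p.2) _ (tb ≫ m p.2) (by simp [tb, m, ω'])
  obtain ⟨c, hc, hcu⟩ := RigSheaf.existsUnique_rig f σ hσ ha T u C hglue
  have hinc : ∀ i (c : PicF.Rig f σ hσ T), RigPoints.pullRig f σ hσ (RigPoints.inc T 𝒰.X 𝒰.f i)
      (RigPoints.pullRig f σ hσ (AbDual.ovrHom T u) c) = RigPoints.pullRig f σ hσ (AbDual.ovrHom T (𝒰.f i)) c :=
    fun i c => (pullRig_comp _ _ c).trans
      (congrArg (fun q => RigPoints.pullRig f σ hσ q c) (RigPoints.inc_hom T 𝒰.X 𝒰.f i))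
  refine ⟨El.of c, fun i => ?_, fun e' he' => ?_⟩
  · show (El.of c).map f σ hσ (𝒰.f i) = e i
    refine El.ext' (hg i) ?_
    rw [El.map_val _ _ _ (Over.homMk (𝒰.f i) rfl : _ ⟶ Over.mk (El.of c).hom) (by simp),
      El.of_val c _ (AbDual.ovrHom T (𝒰.f i)) rfl]
    refine (hinc i c).symm.trans (((congrArg (RigPoints.pullRig f σ hσ _) (Subtype.ext hc :
      RigPoints.pullRig f σ hσ (AbDual.ovrHom T u) c = C)).trans (hCi i)).trans ?_)
    rfl
  · have hh : e'.hom = g := Scheme.Cover.hom_ext 𝒰 _ _ fun i => by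
      rw [hg i]; exact congrArg El.hom (he' i)
    let k : T ⟶ Over.mk e'.hom := Over.homMk (𝟙 Y) (by show 𝟙 Y ≫ e'.hom = g; rw [hh, Category.id_comp])
    have hk : e'.val k = c := by
      refine hcu _ (RigPoints.cl_eq_of_disjoint (fun i => PicF.XTmap f (RigPoints.inc T 𝒰.X 𝒰.f i))
        (RigPoints.inc_disjoint f T 𝒰.X 𝒰.f) (RigPoints.inc_cover f T 𝒰.X 𝒰.f)
        (PicClLib.isInvertibleCl_pullCl _ (e'.val k).2.1) C.2.1 fun i => ?_)
      change (RigPoints.pullRig f σ hσ (RigPoints.inc T 𝒰.X 𝒰.f i) (RigPoints.pullRig f σ hσ (AbDual.ovrHom T u) (e'.val k))).1 = _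
      rw [hMb, hinc, El.pull_val]
      refine congrArg Subtype.val ?_
      have h1 : e'.map f σ hσ (𝒰.f i) = e i := he' i
      let ω : AbDual.ovr T (𝒰.f i) ⟶ Over.mk (e'.map f σ hσ (𝒰.f i)).hom := Over.homMk (𝟙 _) (by
        show 𝟙 _ ≫ 𝒰.f i ≫ e'.hom = 𝒰.f i ≫ g
        rw [hh, Category.id_comp])
      rw [← El.map_val (𝒰.f i) e' ω (AbDual.ovrHom T (𝒰.f i) ≫ k) (by
        show 𝒰.f i ≫ 𝟙 Y = 𝟙 (𝒰.X i) ≫ 𝒰.f i
        rw [Category.comp_id, Category.id_comp])]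
      exact El.val_congr h1 ω (m i) rfl
    refine El.ext' hh ?_
    rw [El.of_val c _ (Over.homMk (𝟙 Y) (by show 𝟙 Y ≫ g = e'.hom; rw [hh, Category.id_comp]) : Over.mk e'.hom ⟶ T) rfl,
      ← hk, El.pull_val]
    exact congrArg (fun q => e'.val q) (Over.OverMorphism.ext (by simp [k]))

end Groth.Agent.PicCurve
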