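import Groth.Agent.PicCurve.Div
import Groth.Agent.PicCurve.Functor
import Groth.Agent.EllLaw.Law

/-!
# Representability of the rigidified Picard functor from charts in a Hilbert scheme
-/

set_option autoImplicit false
set_option linter.style.haveILetI false
set_option linter.unusedSectionVars false
set_option backward.isDefEq.respectTransparency false
set_option backward.isDefEq.respectTransparency.types false
set_option maxHeartbeats 1000000

universe u

open CategoryTheory CategoryTheory.Limits AlgebraicGeometry TopologicalSpace Opposite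

noncomputable section

namespace Groth.Agent.PicCurve

open Groth.Agent Groth.Agent.H23 Groth.Agent.H23.PicMul Groth.Agent.H26 Groth.Agent.Pic13Lib
  Groth.Agent.PicTangent Groth.Agent.PicTangent.JacDiff Groth.Agent.EllLaw
open scoped Groth.Agent.H23.PicMul

attribute [local instance] PicMul.clMonoid

variable {X S : Scheme.{u}} (f : X ⟶ S) (σ : S ⟶ X) (hσ : σ ≫ f = 𝟙 S)

section Basic

variable {T T' : Over S}

/-- A chosen inverse class. -/
def invCl {Y : Scheme.{u}} {c : PicF.Cl Y} (hc : PicF.IsInvertibleCl c) : PicF.Cl Y :=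
  (PicMul.exists_inv ⟨c, hc⟩).choose.1

theorem invCl_invertible {Y : Scheme.{u}} {c : PicF.Cl Y} (hc : PicF.IsInvertibleCl c) :
    PicF.IsInvertibleCl (invCl hc) := (PicMul.exists_inv ⟨c, hc⟩).choose.2

theorem invCl_mul {Y : Scheme.{u}} {c : PicF.Cl Y} (hc : PicF.IsInvertibleCl c) : invCl hc * c = 1 :=
  (PicMul.exists_inv ⟨c, hc⟩).choose_spec

/-- Classes from `X`. -/
def fromX (T : Over S) (E : PicF.Cl X) : PicF.Cl (PicF.XT f T) := PicF.pullCl (pullback.fst f T.hom) E

theorem pull_fromX (g : T' ⟶ T) (E : PicF.Cl X) :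
    PicF.pullCl (PicF.XTmap f g) (fromX f T E) = fromX f T' E := by
  rw [fromX, PicClLib.pullCl_comp, RigDatum.XTmap_fst]
  rfl

/-- Rigidification. -/
def rigidify {c : PicF.Cl (PicF.XT f T)} (hc : PicF.IsInvertibleCl c) : PicF.Rig f σ hσ T :=
  ⟨c * PicF.pullCl (PicF.XTproj f T) (invCl (PicClLib.isInvertibleCl_pullCl (PicF.secT f σ hσ T) hc)),
    PicMul.isInvertibleCl_mul hc (PicClLib.isInvertibleCl_pullCl _ (invCl_invertible _)), by
    show PicF.pullCl _ _ = _
    rw [PicMul.pullCl_mul, PicClLib.pullCl_comp, RigSheaf.sec_proj, PicClLib.pullCl_id, mul_comm]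
    exact invCl_mul _⟩

theorem rel_rigidify {c : PicF.Cl (PicF.XT f T)} (hc : PicF.IsInvertibleCl c) :
    Rel f T (rigidify f σ hσ hc).1 c := by
  obtain ⟨M, hMm, hM⟩ := invCl_invertible (PicClLib.isInvertibleCl_pullCl (PicF.secT f σ hσ T) hc)
  exact ⟨M, hM, by show c * _ = _; rw [hMm]⟩

/-- Equivalent rigidified classes are equal. -/
theorem rig_eq_of_rel {c c' : PicF.Rig f σ hσ T} (h : Rel f T c.1 c'.1) : c = c' := by
  obtain ⟨M, hM, hc⟩ := h
  have h1 : PicF.pullCl (PicF.secT f σ hσ T) c.1 = 1 := c.2.2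
  rw [hc, PicMul.pullCl_mul, show PicF.pullCl (PicF.secT f σ hσ T) c'.1 = 1 from c'.2.2, one_mul,
    PicClLib.pullCl_comp, RigSheaf.sec_proj, PicClLib.pullCl_id] at h1
  refine Subtype.ext ?_
  rw [hc, h1, PicMul.pullCl_one, mul_one]

end Basic

variable [IsProper f] [SmoothOfRelativeDimension 1 f] [GeometricallyConnected f]
  {n : ℕ} (hn : ∀ s : S, CohIII.fiberRank f (Coh.structureModule X) 1 s = n)
  {H : Over S} (Z : HilbD.Obj f n H) (hZ : HilbD.IsUniversal f n H Z)

/-- The inverse of the universal ideal. -/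
def univCl : PicF.Cl (PicF.XT f H) := invCl (idl_invertible f Z)

theorem univCl_invertible : PicF.IsInvertibleCl (univCl f Z) := invCl_invertible _

/-- The open where the universal divisor is good. -/
def H₀ : Over S := AbDual.ovr H (goodLocus f H (univCl f Z)).ι

/-- Its inclusion. -/
def ι₀ : H₀ f Z ⟶ H := AbDual.ovrHom H (goodLocus f H (univCl f Z)).ι

/-- The universal good class. -/
def good₀ : PicF.Cl (PicF.XT f (H₀ f Z)) := PicF.pullCl (PicF.XTmap f (ι₀ f Z)) (univCl f Z)

theorem pull_univCl {T : Over S} (g : T ⟶ H) (D : HilbD.Obj f n T) (h : HilbD.pull f g Z.1 = D.1) :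
    idl f D * PicF.pullCl (PicF.XTmap f g) (univCl f Z) = 1 := by
  rw [← pull_idl f g Z D h, ← PicMul.pullCl_mul, mul_comm, univCl, invCl_mul, PicMul.pullCl_one]

theorem good₀_goodAt {T : Over S} (g : T ⟶ H₀ f Z) (t : T.left) :
    GoodAt f T (PicF.pullCl (PicF.XTmap f (g ≫ ι₀ f Z)) (univCl f Z)) t := by
  rw [goodAt_pull f _ (univCl_invertible f Z)]
  exact (g.left t).2

/-- The divisor of a map into the Hilbert scheme. -/
def divOf {T : Over S} (g : T ⟶ H) : HilbD.Obj f n T := ⟨HilbD.pull f g Z.1, HilbDLib.isFinLocFreeOfDeg_pull f g Z.1 Z.2⟩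

theorem ext_of_pull {T : Over S} {g g' : T ⟶ H₀ f Z}
    (h : Rel f T (PicF.pullCl (PicF.XTmap f (g ≫ ι₀ f Z)) (univCl f Z))
      (PicF.pullCl (PicF.XTmap f (g' ≫ ι₀ f Z)) (univCl f Z))) (hZ : HilbD.IsUniversal f n H Z) : g = g' := by
  suffices hH : g ≫ ι₀ f Z = g' ≫ ι₀ f Z by
    refine Over.OverMorphism.ext ((cancel_mono (goodLocus f H (univCl f Z)).ι).1 ?_)
    exact congrArg (fun m : T ⟶ H => m.left) hH
  obtain ⟨M, hM, hc⟩ := h
  choose V hV e using hM
  refine RigPoints.hom_ext (fun t => AbDual.ovr T (V t).ι) (fun t => AbDual.ovrHom T (V t).ι)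
    (fun t => inferInstanceAs (Flat (V t).ι)) (fun t => inferInstanceAs (LocallyOfFinitePresentation (V t).ι))
    (fun t => ⟨t, ⟨t, hV t⟩, rfl⟩) fun t => ?_
  let j := AbDual.ovrHom T (V t).ι
  have h1 : PicF.pullCl (V t).ι (PicF.cl M) = 1 := by
    rw [PicMul.one_def]
    exact PicMul.cl_eq_iff.2 ⟨((Scheme.Modules.restrictFunctorIsoPullback (V t).ι).app M).symm ≪≫ (e t).some⟩
  have h2 : PicF.pullCl (PicF.XTmap f (j ≫ g ≫ ι₀ f Z)) (univCl f Z) =
      PicF.pullCl (PicF.XTmap f (j ≫ g' ≫ ι₀ f Z)) (univCl f Z) := by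
    rw [PicClLib.XTmap_comp, ← PicClLib.pullCl_comp, hc, PicMul.pullCl_mul, PicClLib.pullCl_comp, ← PicClLib.XTmap_comp,
      PicClLib.pullCl_comp, RigPoints.XTmap_proj, ← PicClLib.pullCl_comp,
      show PicF.pullCl j.left (PicF.cl M) = 1 from h1, PicMul.pullCl_one, mul_one]
  have hD := pull_univCl f Z _ (divOf f Z (j ≫ g ≫ ι₀ f Z)) rfl
  have hD' := pull_univCl f Z _ (divOf f Z (j ≫ g' ≫ ι₀ f Z)) rfl
  rw [← h2] at hD'
  have heq : idl f (divOf f Z (j ≫ g ≫ ι₀ f Z)) = idl f (divOf f Z (j ≫ g' ≫ ι₀ f Z)) :=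
    left_inv_eq_right_inv hD ((mul_comm _ _).trans hD')
  have hgood := eq_of_idl_eq f _ _ heq fun N hN hone z => by
    rw [← left_inv_eq_right_inv ((mul_comm _ _).trans hD) hone, ← Category.assoc]
    exact good₀_goodAt f Z (j ≫ g) z
  exact (hZ _ (divOf f Z (j ≫ g ≫ ι₀ f Z))).unique rfl (congrArg Subtype.val hgood).symm

include hn hZ in
/-- Good classes come from the chart. -/
theorem exists_to_H₀ {T : Over S} {c : PicF.Cl (PicF.XT f T)} (hc : PicF.IsInvertibleCl c)
    (hgood : ∀ t, GoodAt f T c t) :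
    ∃ g : T ⟶ H₀ f Z, Rel f T c (PicF.pullCl (PicF.XTmap f (g ≫ ι₀ f Z)) (univCl f Z)) := by
  obtain ⟨N, rfl, hN⟩ := hc
  obtain ⟨D, hD⟩ := exists_divisor f hn hN hgood
  obtain ⟨g, hg, -⟩ := hZ T D
  have hrel : Rel f T (PicF.cl N) (PicF.pullCl (PicF.XTmap f g) (univCl f Z)) := by
    have h1 := hD.mul (Rel.refl (PicF.pullCl (PicF.XTmap f g) (univCl f Z)))
    rw [one_mul] at h1
    refine (Rel.of_eq ?_).trans h1
    calc PicF.cl N = (idl f D * PicF.pullCl (PicF.XTmap f g) (univCl f Z)) * PicF.cl N := by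
          rw [pull_univCl f Z g D hg, one_mul]
      _ = _ := by ac_rfl
  have hr : Set.range g.left ⊆ Set.range (goodLocus f H (univCl f Z)).ι := by
    rintro _ ⟨t, rfl⟩
    rw [Scheme.Opens.range_ι]
    exact (goodAt_pull f g (univCl_invertible f Z) t).1 ((hgood t).congr_rel f hrel.symm)
  let g₀ : T ⟶ H₀ f Z := Over.homMk (IsOpenImmersion.lift (goodLocus f H (univCl f Z)).ι g.left hr) (by
    show IsOpenImmersion.lift _ g.left hr ≫ (goodLocus f H (univCl f Z)).ι ≫ H.hom = T.hom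
    rw [IsOpenImmersion.lift_fac_assoc]
    exact Over.w g)
  refine ⟨g₀, ?_⟩
  rwa [show g₀ ≫ ι₀ f Z = g from Over.OverMorphism.ext (IsOpenImmersion.lift_fac _ _ _)]

/-- The twists. -/
abbrev Twists (X : Scheme.{u}) : Type u := Shrink.{u} {c : PicF.Cl X // PicF.IsInvertibleCl c}

/-- The class of a twist. -/
def twistCl (i : Twists X) : PicF.Cl X := ((equivShrink _).symm i).1

theorem twistCl_invertible (i : Twists X) : PicF.IsInvertibleCl (twistCl i) := ((equivShrink _).symm i).2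

theorem fromX_invertible (T : Over S) (i : Twists X) : PicF.IsInvertibleCl (fromX f T (twistCl i)) :=
  PicClLib.isInvertibleCl_pullCl _ (twistCl_invertible i)

/-- The inverse twist over the base of the chart. -/
def untwist (i : Twists X) : PicF.Cl (PicF.XT f (H₀ f Z)) := fromX f (H₀ f Z) (invCl (twistCl_invertible i))

theorem pull_untwist (i : Twists X) {T : Over S} (g : T ⟶ H₀ f Z) :
    PicF.pullCl (PicF.XTmap f g) (untwist f Z i) * fromX f T (twistCl i) = 1 := by
  rw [untwist, pull_fromX, fromX, fromX, ← PicMul.pullCl_mul, invCl_mul, PicMul.pullCl_one]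

theorem pre_invertible (i : Twists X) : PicF.IsInvertibleCl (good₀ f Z * untwist f Z i) :=
  PicMul.isInvertibleCl_mul (PicClLib.isInvertibleCl_pullCl _ (univCl_invertible f Z))
    (PicClLib.isInvertibleCl_pullCl _ (invCl_invertible _))

/-- The class of a chart. -/
def chartRig (i : Twists X) : PicF.Rig f σ hσ (H₀ f Z) := rigidify f σ hσ (pre_invertible f Z i)

theorem rel_chart (i : Twists X) {T : Over S} (g : T ⟶ H₀ f Z) :
    Rel f T ((RigPoints.pullRig f σ hσ g (chartRig f σ hσ Z i)).1 * fromX f T (twistCl i))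
      (PicF.pullCl (PicF.XTmap f (g ≫ ι₀ f Z)) (univCl f Z)) := by
  refine (((rel_rigidify f σ hσ (pre_invertible f Z i)).pull g).mul (Rel.refl (fromX f T (twistCl i)))).trans
    (Rel.of_eq ?_)
  rw [PicMul.pullCl_mul, mul_assoc, pull_untwist, mul_one, good₀, PicClLib.pullCl_comp, PicClLib.XTmap_comp]

/-- The open of a chart. -/
def chartLocus (Y : Scheme.{u}) (p : El f σ hσ Y) (i : Twists X) : Y.Opens :=
  goodLocus f (Over.mk p.hom) ((p.val (𝟙 _)).1 * fromX f _ (twistCl i))

theorem goodAt_val {Y : Scheme.{u}} (p : El f σ hσ Y) (i : Twists X) {T : Over S} (g : T ⟶ Over.mk p.hom) (t : T.left) :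
    GoodAt f T ((p.val g).1 * fromX f T (twistCl i)) t ↔ g.left t ∈ chartLocus f σ hσ Y p i := by
  rw [show (p.val g).1 * fromX f T (twistCl i) =
      PicF.pullCl (PicF.XTmap f g) ((p.val (𝟙 _)).1 * fromX f _ (twistCl i)) by
    rw [PicMul.pullCl_mul, pull_fromX]
    refine congrArg (· * _) ?_
    show (p.val g).1 = (RigPoints.pullRig f σ hσ g (p.val (𝟙 _))).1
    rw [El.pull_val, Category.comp_id]]
  exact goodAt_pull f g (PicMul.isInvertibleCl_mul (p.val _).2.1 (fromX_invertible f _ i)) t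

variable (ha : ∀ (T : Over S) (U : T.left.Opens), IsIso ((PicF.XTproj f T).app U))
  (hcov : ∀ (T : Over S) (c : PicF.Cl (PicF.XT f T)), PicF.IsInvertibleCl c → ∀ t : T.left,
    ∃ E : PicF.Cl X, PicF.IsInvertibleCl E ∧ GoodAt f T (c * fromX f T E) t)

include hn hZ ha hcov in
/-- **Representability.** -/
theorem rigRepresentable : PicF.RigRepresentable f σ hσ := by
  refine Exists.elim (RepCharts.exists_univ (rigFunctor f σ hσ) (isSheaf_rigFunctor f σ hσ ha)
    (ι := Twists X) (fun _ => (H₀ f Z).left) (fun i => El.of (chartRig f σ hσ Z i))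
    (fun Y p i => chartLocus f σ hσ Y p i)
    (fun i Y p Y' a => ?_) (fun i Y c c' h => ?_) (fun {Y} p t => ?_)) fun G ⟨x, hx⟩ => ?_
  rotate_right
  · let P : Over S := Over.mk x.hom
    refine ⟨P, x.val (𝟙 P), fun T c => ?_⟩
    obtain ⟨h, hh, huniq⟩ := hx T.left (El.of c)
    have hh' : x.map f σ hσ h = El.of c := hh
    let g : T ⟶ P := Over.homMk h (congrArg El.hom hh')
    let b : T ⟶ Over.mk (El.of c).hom := Over.homMk (𝟙 T.left) (Category.id_comp _)
    have hval : ∀ (g : T ⟶ P), PicF.pullCl (PicF.XTmap f g) (x.val (𝟙 P)).1 = (x.val g).1 := fun g => by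
      show (RigPoints.pullRig f σ hσ g (x.val (𝟙 P))).1 = _
      rw [El.pull_val, Category.comp_id]
    refine ⟨g, ?_, fun g' hg' => ?_⟩
    · show PicF.pullCl (PicF.XTmap f g) (x.val (𝟙 P)).1 = c.1
      rw [hval]
      let b' : T ⟶ Over.mk (x.map f σ hσ h).hom := Over.homMk (𝟙 T.left) (by
        show 𝟙 T.left ≫ h ≫ x.hom = T.hom
        rw [Category.id_comp]; exact Over.w g)
      rw [← El.map_val h x b' g (by simp [b', g]), El.val_congr hh' b' b rfl, El.of_val c b (𝟙 T) rfl, pullRig_id]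
    · refine Over.OverMorphism.ext (huniq g'.left ?_)
      show x.map f σ hσ g'.left = El.of c
      refine El.ext' (Over.w g') ?_
      let k : Over.mk (g'.left ≫ x.hom) ⟶ T := Over.homMk (𝟙 T.left) (by
        show 𝟙 T.left ≫ T.hom = g'.left ≫ x.hom
        rw [Category.id_comp]; exact (Over.w g').symm)
      rw [El.of_val c _ k rfl]
      have hc' : x.val g' = c := Subtype.ext ((hval g').symm.trans hg')
      rw [← hc', El.pull_val]
      exact El.map_val g'.left x _ _ (by simp [k])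
  · show (∃ c : Y' ⟶ (H₀ f Z).left, (El.of (chartRig f σ hσ Z i)).map f σ hσ c = p.map f σ hσ a) ↔ _
    let ta : Over.mk (a ≫ p.hom) ⟶ Over.mk p.hom := Over.homMk a
    constructor
    · rintro ⟨c, hc⟩ _ ⟨t, rfl⟩
      let tc : Over.mk (a ≫ p.hom) ⟶ H₀ f Z := Over.homMk c (congrArg El.hom hc)
      have e : p.val ta = RigPoints.pullRig f σ hσ tc (chartRig f σ hσ Z i) := by
        rw [← El.map_val a p (𝟙 _) ta (by simp [ta]), ← El.of_val (chartRig f σ hσ Z i)
          (Over.homMk c (congrArg El.hom hc) : Over.mk (a ≫ p.hom) ⟶ Over.mk _) tc rfl]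
        rw [El.val_congr hc.symm (𝟙 _) (Over.homMk (𝟙 _) (by
          show 𝟙 _ ≫ _ = a ≫ p.hom
          rw [Category.id_comp]; exact congrArg El.hom hc)) rfl]
        exact El.map_val c _ _ _ (by simp)
      refine (goodAt_val f σ hσ p i ta t).1 ?_
      rw [e]
      exact (good₀_goodAt f Z tc t).congr_rel f (rel_chart f σ hσ Z i tc)
    · intro hr
      obtain ⟨g, hg⟩ := exists_to_H₀ f hn Z hZ
        (PicMul.isInvertibleCl_mul (p.val ta).2.1 (fromX_invertible f _ i))
        fun t => (goodAt_val f σ hσ p i ta t).2 (hr ⟨t, rfl⟩)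
      refine ⟨g.left, El.ext' (Over.w g) ?_⟩
      have e : RigPoints.pullRig f σ hσ g (chartRig f σ hσ Z i) = p.val ta := by
        refine rig_eq_of_rel f σ hσ ?_
        have h1 := ((rel_chart f σ hσ Z i g).trans hg.symm).mul (Rel.refl (invCl (fromX_invertible f _ i)))
        have h2 : fromX f (Over.mk (a ≫ p.hom)) (twistCl i) * invCl (fromX_invertible f _ i) = 1 :=
          (mul_comm _ _).trans (invCl_mul _)
        rwa [mul_assoc, mul_assoc, h2, mul_one, mul_one] at h1
      let k : Over.mk (g.left ≫ (H₀ f Z).hom) ⟶ Over.mk (a ≫ p.hom) := Over.homMk (𝟙 Y') (by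
        show 𝟙 Y' ≫ a ≫ p.hom = g.left ≫ (H₀ f Z).hom
        rw [Category.id_comp]; exact (Over.w g).symm)
      let q₀ : Over.mk (g.left ≫ (H₀ f Z).hom) ⟶ Over.mk (El.of (chartRig f σ hσ Z i)).hom := Over.homMk g.left
      refine (El.map_val g.left _ _ q₀ (by simp [q₀])).trans ?_
      rw [El.of_val (chartRig f σ hσ Z i) q₀ (k ≫ g) (Category.id_comp g.left), ← pullRig_comp, e, El.pull_val]
      exact (El.map_val a p _ _ (by simp [k, ta])).symm
  · have h' : (El.of (chartRig f σ hσ Z i)).map f σ hσ c = (El.of (chartRig f σ hσ Z i)).map f σ hσ c' := h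
    let T : Over S := Over.mk (c ≫ (H₀ f Z).hom)
    let g : T ⟶ H₀ f Z := Over.homMk c
    let g' : T ⟶ H₀ f Z := Over.homMk c' (congrArg El.hom h').symm
    let q : T ⟶ Over.mk (El.of (chartRig f σ hσ Z i)).hom := Over.homMk c
    let q' : T ⟶ Over.mk (El.of (chartRig f σ hσ Z i)).hom := Over.homMk c' (congrArg El.hom h').symm
    let m : T ⟶ Over.mk ((El.of (chartRig f σ hσ Z i)).map f σ hσ c').hom := Over.homMk (𝟙 Y) (by
      show 𝟙 Y ≫ _ = c ≫ _
      rw [Category.id_comp]; exact (congrArg El.hom h').symm)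
    have e : RigPoints.pullRig f σ hσ g (chartRig f σ hσ Z i) = RigPoints.pullRig f σ hσ g' (chartRig f σ hσ Z i) := by
      rw [← El.of_val (chartRig f σ hσ Z i) q g rfl, ← El.of_val (chartRig f σ hσ Z i) q' g' rfl]
      let o : T ⟶ Over.mk ((El.of (chartRig f σ hσ Z i)).map f σ hσ c).hom := Over.homMk (𝟙 Y) (Category.id_comp _)
      exact (El.map_val c _ o q (Category.id_comp c).symm).symm.trans
        ((El.val_congr h' o m rfl).trans (El.map_val c' _ m q' (Category.id_comp c').symm))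
    suffices hgg : g = g' by exact congrArg (fun k : T ⟶ H₀ f Z => k.left) hgg
    apply ext_of_pull (f := f) (Z := Z) (hZ := hZ)
    have h1 := rel_chart f σ hσ Z i g
    rw [e] at h1
    exact h1.symm.trans (rel_chart f σ hσ Z i g')
  · obtain ⟨E, hE, hgood⟩ := hcov (Over.mk p.hom) (p.val (𝟙 _)).1 (p.val _).2.1 t
    have hcl : twistCl (equivShrink {c : PicF.Cl X // PicF.IsInvertibleCl c} ⟨E, hE⟩) = E := by
      unfold twistCl
      rw [Equiv.symm_apply_apply]
    refine ⟨equivShrink {c : PicF.Cl X // PicF.IsInvertibleCl c} ⟨E, hE⟩, ?_⟩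
    unfold chartLocus
    rw [mem_goodLocus]
    rw [hcl]
    exact hgood

end Groth.Agent.PicCurve
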