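import Groth.Agent.PicCurve.Chart
import Groth.Agent.S12415
import Groth.Agent.S6463
import Groth.Agent.SmoothWeilLib.ConnFibres

/-!
# The Jacobian from a representing scheme of the rigidified Picard functor
-/

set_option autoImplicit false
set_option linter.style.haveILetI false
set_option linter.unusedSectionVars false
set_option backward.isDefEq.respectTransparency false
set_option backward.isDefEq.respectTransparency.types false
set_option maxHeartbeats 1000000

universe u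

open CategoryTheory CategoryTheory.Limits AlgebraicGeometry TopologicalSpace Opposite

noncomputable section

namespace Groth.Agent.PicCurve

open Groth.Agent Groth.Agent.H23 Groth.Agent.H23.PicMul Groth.Agent.H26 Groth.Agent.Pic13Lib
  Groth.Agent.PicTangent Groth.Agent.PicTangent.JacDiff Groth.Agent.EllLaw
open scoped Groth.Agent.H23.PicMul

attribute [local instance] PicMul.clMonoid

variable {X S : Scheme.{u}} (f : X ⟶ S) [IsProper f] [SmoothOfRelativeDimension 1 f] [GeometricallyConnected f]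
  (σ : S ⟶ X) (hσ : σ ≫ f = 𝟙 S)

/-- `ξ` is universal among the rigidified classes. -/
def IsUniv {P : Over S} (ξ : PicF.Rig f σ hσ P) : Prop :=
  ∀ (T : Over S) (c : PicF.Rig f σ hσ T), ∃! g : T ⟶ P, PicF.pullCl (PicF.XTmap f g) ξ.1 = c.1

variable {P : Over S} {ξ : PicF.Rig f σ hσ P} (hξ : IsUniv f σ hσ ξ)

/-- The point of a rigidified class. -/
def classify {T : Over S} (c : PicF.Rig f σ hσ T) : T ⟶ P := (hξ T c).exists.choose

theorem pull_classify {T : Over S} (c : PicF.Rig f σ hσ T) :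
    RigPoints.pullRig f σ hσ (classify f σ hσ hξ c) ξ = c := Subtype.ext (hξ T c).exists.choose_spec

theorem classify_eq {T : Over S} (c : PicF.Rig f σ hσ T) (g : T ⟶ P) (h : RigPoints.pullRig f σ hσ g ξ = c) :
    g = classify f σ hσ hξ c := (hξ T c).unique (congrArg Subtype.val h) (hξ T c).exists.choose_spec

/-- The point of a class. -/
def phi (T : Over S) (c : PicF.Cl (PicF.XT f T)) : T ⟶ P :=
  open Classical in
  classify f σ hσ hξ (if h : PicF.IsInvertibleCl c then rigidify f σ hσ h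
    else rigidify f σ hσ (c := 1) ⟨_, rfl, InvX.isInvertible_structureModule⟩)

theorem phi_eq {T : Over S} {c : PicF.Cl (PicF.XT f T)} (hc : PicF.IsInvertibleCl c) :
    phi f σ hσ hξ T c = classify f σ hσ hξ (rigidify f σ hσ hc) := by rw [phi, dif_pos hc]

theorem phi_rig {T : Over S} (c : PicF.Rig f σ hσ T) : phi f σ hσ hξ T c.1 = classify f σ hσ hξ c := by
  rw [phi_eq f σ hσ hξ c.2.1]
  exact congrArg (classify f σ hσ hξ) (rig_eq_of_rel f σ hσ (rel_rigidify f σ hσ c.2.1))

theorem rel_phi {T : Over S} {c : PicF.Cl (PicF.XT f T)} (hc : PicF.IsInvertibleCl c) :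
    Rel f T (PicF.pullCl (PicF.XTmap f (phi f σ hσ hξ T c)) ξ.1) c := by
  rw [phi_eq f σ hσ hξ hc]
  exact (Rel.of_eq (congrArg Subtype.val (pull_classify f σ hσ hξ (rigidify f σ hσ hc)))).trans
    (rel_rigidify f σ hσ hc)

theorem zar_mem {T : Scheme.{u}} {I : Type u} (V : I → T.Opens) (h : ∀ t, ∃ i, t ∈ V i) :
    Presieve.ofArrows (fun i => (V i).toScheme) (fun i => (V i).ι) ∈ Scheme.fppfPrecoverage T := by
  rw [Scheme.fppfPrecoverage, Scheme.ofArrows_mem_precoverage_iff]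
  exact ⟨fun t => let ⟨i, hi⟩ := h t; ⟨i, ⟨t, hi⟩, rfl⟩, fun i => ⟨inferInstance, inferInstance⟩⟩

include hξ in
/-- The representing scheme represents the fppf sheafified Picard functor. -/
theorem isRelPicK : AbDual.IsRelPicK Scheme.fppfPrecoverage f P (phi f σ hσ hξ) where
  natural T T' g c hc := by
    have hc' := PicClLib.isInvertibleCl_pullCl (PicF.XTmap f g) hc
    rw [phi_eq f σ hσ hξ hc']
    refine (classify_eq f σ hσ hξ _ (g ≫ phi f σ hσ hξ T c) (rig_eq_of_rel f σ hσ ?_)).symm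
    refine (Rel.of_eq ?_).trans (((rel_phi f σ hσ hξ hc).pull g).trans (rel_rigidify f σ hσ hc').symm)
    show PicF.pullCl _ _ = PicF.pullCl _ (PicF.pullCl _ _)
    rw [PicClLib.pullCl_comp, ← PicClLib.XTmap_comp]
  locallySurjective T g := by
    refine ⟨_, zar_mem (fun _ : PUnit.{u + 1} => (⊤ : T.left.Opens)) (fun t => ⟨⟨⟩, trivial⟩), ?_⟩
    intro U u _
    let c := RigPoints.pullRig f σ hσ (AbDual.ovrHom T u ≫ g) ξ
    exact ⟨c.1, c.2.1, (phi_rig f σ hσ hξ c).trans (classify_eq f σ hσ hξ c _ rfl).symm⟩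
  locallyInjective T c c' hc hc' h := by
    have h1 := (rel_phi f σ hσ hξ hc).symm
    rw [h] at h1
    obtain ⟨M, hM, hcc⟩ := h1.trans (rel_phi f σ hσ hξ hc')
    choose V hV e using hM
    refine ⟨_, zar_mem V (fun t => ⟨t, hV t⟩), ?_⟩
    rintro U u ⟨t⟩
    rw [hcc, PicMul.pullCl_mul, PicClLib.pullCl_comp, RigPoints.XTmap_proj, ← PicClLib.pullCl_comp,
      show PicF.pullCl (AbDual.ovrHom T (V t).ι).left (PicF.cl M) = 1 from by
        rw [PicMul.one_def]
        exact PicMul.cl_eq_iff.2 ⟨((Scheme.Modules.restrictFunctorIsoPullback (V t).ι).app M).symm ≪≫ (e t).some⟩,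
      PicMul.pullCl_one, mul_one]

section Charts

variable {n : ℕ} (hn : ∀ s : S, CohIII.fiberRank f (Coh.structureModule X) 1 s = n)
  {H : Over S} (Z : HilbD.Obj f n H) (hZ : HilbD.IsUniversal f n H Z)
  (hcov : ∀ (T : Over S) (c : PicF.Cl (PicF.XT f T)), PicF.IsInvertibleCl c → ∀ t : T.left,
    ∃ E : PicF.Cl X, PicF.IsInvertibleCl E ∧ GoodAt f T (c * fromX f T E) t)

include hξ hn hZ in
/-- An open of the representing scheme is a chart. -/
theorem exists_iso_chart (i : Twists X) :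
    ∃ g : AbDual.ovr P (goodLocus f P (ξ.1 * fromX f P (twistCl i))).ι ⟶ H₀ f Z, IsIso g := by
  let U := goodLocus f P (ξ.1 * fromX f P (twistCl i))
  let V := AbDual.ovr P U.ι
  let ι : V ⟶ P := AbDual.ovrHom P U.ι
  have hgv : ∀ {T : Over S} (a : T ⟶ P) (t : T.left),
      GoodAt f T ((RigPoints.pullRig f σ hσ a ξ).1 * fromX f T (twistCl i)) t ↔ a.left t ∈ U := fun {T} a t => by
    rw [show (RigPoints.pullRig f σ hσ a ξ).1 * fromX f T (twistCl i) =
        PicF.pullCl (PicF.XTmap f a) (ξ.1 * fromX f P (twistCl i)) by rw [PicMul.pullCl_mul, pull_fromX]; rfl]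
    exact goodAt_pull f a (PicMul.isInvertibleCl_mul ξ.2.1 (fromX_invertible f _ i)) t
  obtain ⟨g, hg⟩ := exists_to_H₀ f hn Z hZ
    (PicMul.isInvertibleCl_mul (RigPoints.pullRig f σ hσ ι ξ).2.1 (fromX_invertible f _ i))
    fun t => (hgv ι t).2 t.2
  let l := classify f σ hσ hξ (chartRig f σ hσ Z i)
  have hl := pull_classify f σ hσ hξ (chartRig f σ hσ Z i)
  have hlU : Set.range l.left ⊆ Set.range U.ι := by
    rintro _ ⟨t, rfl⟩
    rw [Scheme.Opens.range_ι]
    refine (hgv l t).1 ?_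
    rw [hl]
    have h1 := rel_chart f σ hσ Z i (𝟙 (H₀ f Z))
    rw [pullRig_id] at h1
    exact (good₀_goodAt f Z (𝟙 _) t).congr_rel f h1
  let l' : H₀ f Z ⟶ V := Over.homMk (IsOpenImmersion.lift U.ι l.left hlU) (by
    show IsOpenImmersion.lift U.ι l.left hlU ≫ U.ι ≫ P.hom = _
    rw [IsOpenImmersion.lift_fac_assoc]
    exact Over.w l)
  have hl' : l' ≫ ι = l := Over.OverMorphism.ext (IsOpenImmersion.lift_fac _ _ _)
  have e : RigPoints.pullRig f σ hσ g (chartRig f σ hσ Z i) = RigPoints.pullRig f σ hσ ι ξ := by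
    refine rig_eq_of_rel f σ hσ ?_
    have h1 := ((rel_chart f σ hσ Z i g).trans hg.symm).mul (Rel.refl (invCl (fromX_invertible f V i)))
    have h2 : fromX f V (twistCl i) * invCl (fromX_invertible f V i) = 1 := (mul_comm _ _).trans (invCl_mul _)
    rwa [mul_assoc, mul_assoc, h2, mul_one, mul_one] at h1
  have h1 : g ≫ l = ι :=
    (hξ V (RigPoints.pullRig f σ hσ ι ξ)).unique (congrArg Subtype.val (by rw [← pullRig_comp, hl, e] :
      RigPoints.pullRig f σ hσ (g ≫ l) ξ = RigPoints.pullRig f σ hσ ι ξ)) rfl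
  refine ⟨g, l', ?_, ?_⟩
  · refine Over.OverMorphism.ext ((cancel_mono U.ι).1 ?_)
    show (g ≫ l').left ≫ U.ι = 𝟙 _ ≫ U.ι
    rw [Category.id_comp]
    exact congrArg (fun m : V ⟶ P => m.left) ((Category.assoc g l' ι).trans ((congrArg (g ≫ ·) hl').trans h1))
  · refine ext_of_pull f Z ?_ hZ
    have h3 := rel_chart f σ hσ Z i (l' ≫ g)
    rw [← pullRig_comp, e, pullRig_comp, hl', hl] at h3
    have h4 := rel_chart f σ hσ Z i (𝟙 (H₀ f Z))
    rw [pullRig_id] at h4
    exact h3.symm.trans h4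

include hξ hn hZ hcov in
theorem locallyOfFiniteType_of_univ [LocallyOfFiniteType H.hom] : LocallyOfFiniteType P.hom := by
  refine IsZariskiLocalAtSource.of_iSup_eq_top (P := @LocallyOfFiniteType)
    (fun i : Twists X => goodLocus f P (ξ.1 * fromX f P (twistCl i))) ?_ fun i => ?_
  · refine top_le_iff.1 fun p _ => Opens.mem_iSup.2 ?_
    obtain ⟨E, hE, h⟩ := hcov P ξ.1 ξ.2.1 p
    refine ⟨equivShrink {c : PicF.Cl X // PicF.IsInvertibleCl c} ⟨E, hE⟩, ?_⟩
    rw [mem_goodLocus, show twistCl (equivShrink {c : PicF.Cl X // PicF.IsInvertibleCl c} ⟨E, hE⟩) = E by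
      unfold twistCl; rw [Equiv.symm_apply_apply]]
    exact h
  · obtain ⟨g, hg⟩ := exists_iso_chart f σ hσ hξ hn Z hZ i
    haveI : IsIso g.left := inferInstanceAs (IsIso ((Over.forget _).map g))
    haveI : LocallyOfFiniteType (H₀ f Z).hom :=
      inferInstanceAs (LocallyOfFiniteType ((goodLocus f H (univCl f Z)).ι ≫ H.hom))
    have h := Over.w g
    show LocallyOfFiniteType (AbDual.ovr P (goodLocus f P (ξ.1 * fromX f P (twistCl i))).ι).hom
    rw [← h]
    infer_instance

end Charts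

end Groth.Agent.PicCurve

namespace Groth.Agent.PicCurve

open Groth.Agent Groth.Agent.H23 Groth.Agent.H23.PicMul Groth.Agent.PicTangent Groth.Agent.EllLaw
open scoped Groth.Agent.H23.PicMul

attribute [local instance] PicMul.clMonoid

variable {k : Type u} [Field k] {X : Scheme.{u}} (f : X ⟶ Spec (CommRingCat.of k)) [IsProper f]
  [SmoothOfRelativeDimension 1 f] [GeometricallyConnected f]
  (σ : Spec (CommRingCat.of k) ⟶ X) (hσ : σ ≫ f = 𝟙 _)

/-- A universal rigidified class of degree zero on the fibres. -/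
def IsUniv0 {J : Over (Spec (CommRingCat.of k))} (ξ : PicF.Rig f σ hσ J) : Prop :=
  FGA.HasFibreDegreeZeroCl f J ξ.1 ∧
    ∀ (T : Over (Spec (CommRingCat.of k))) (c : PicF.Rig f σ hσ T), FGA.HasFibreDegreeZeroCl f T c.1 →
      ∃! g : T ⟶ J, PicF.pullCl (PicF.XTmap f g) ξ.1 = c.1

/-- **The Jacobian is the degree zero part of the Picard scheme.** -/
theorem exists_jacobian_of_univ {P : Over (Spec (CommRingCat.of k))} (ξ : PicF.Rig f σ hσ P)
    (hξ : IsUniv f σ hσ ξ) [LocallyOfFiniteType P.hom] :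
    ∃ (J : Over (Spec (CommRingCat.of k))) (η : PicF.Rig f σ hσ J),
      IsProper J.hom ∧ Smooth J.hom ∧ GeometricallyIrreducible J.hom ∧ IsUniv0 f σ hσ η := by
  classical
  haveI : Smooth f := SmoothOfRelativeDimension.smooth 1 f
  haveI : LocallyOfFinitePresentation P.hom := inferInstance
  have hdim := EllLaw.dim_fibre f
  let φ := phi f σ hσ hξ
  have hP := isRelPicK f σ hσ hξ
  obtain ⟨d, hdc, hd⟩ := S12409.result f hdim P φ hP
  let U : P.left.Opens := ⟨d ⁻¹' {0}, hdc _⟩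
  let J : Over (Spec (CommRingCat.of k)) := AbDual.ovr P U.ι
  let ι : J ⟶ P := AbDual.ovrHom P U.ι
  have hlift : ∀ {T : Over (Spec (CommRingCat.of k))} (g : T ⟶ P), (∀ t, d (g.left t) = 0) → ∃ g' : T ⟶ J, g' ≫ ι = g :=
    fun {T} g hg => ⟨Over.homMk (IsOpenImmersion.lift U.ι g.left (by
        rintro _ ⟨t, rfl⟩
        exact ⟨⟨g.left t, hg t⟩, rfl⟩)) (by
        show IsOpenImmersion.lift U.ι g.left _ ≫ U.ι ≫ P.hom = _
        rw [IsOpenImmersion.lift_fac_assoc]
        exact Over.w g), Over.OverMorphism.ext (IsOpenImmersion.lift_fac _ _ _)⟩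
  have hmono : ∀ {T : Over (Spec (CommRingCat.of k))} (g g' : T ⟶ J), g ≫ ι = g' ≫ ι → g = g' := fun g g' h =>
    Over.OverMorphism.ext ((cancel_mono U.ι).1 (congrArg (fun m : _ ⟶ P => m.left) h))
  have h1d : ∀ (T : Over (Spec (CommRingCat.of k))) (t : T.left), d ((φ T 1).left t) = 0 := fun T t => by
    have h := hd T (Coh.structureModule _) InvX.isInvertible_structureModule t
    rw [show PicF.cl (Coh.structureModule (PicF.XT f T)) = 1 from PicMul.one_def.symm] at h
    refine h.trans ?_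
    obtain ⟨e⟩ := PicClLib.nonempty_pullback_structureModule
      (pullback.fst (PicF.XTproj f T) (T.left.fromSpecResidueField t))
    unfold FGA.eulerCharLE
    rw [sub_eq_zero]
    refine Finset.sum_congr rfl fun i _ => ?_
    congr 2
    exact (CurveCohLib.hhEquiv (k := T.left.residueField t) (X := (FGA.fibreAt f T t).left) e i).finrank_eq
  let φ₀ : ∀ T : Over (Spec (CommRingCat.of k)), PicF.Cl (PicF.XT f T) → (T ⟶ J) := fun T c =>
    if h : ∀ t, d ((φ T c).left t) = 0 then (hlift (φ T c) h).choose else (hlift (φ T 1) (h1d T)).choose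
  have hpz : ∀ (T : Over (Spec (CommRingCat.of k))) {c : PicF.Cl (PicF.XT f T)}, PicF.IsInvertibleCl c →
      (AbDual.IsPicZeroCl f T c ↔ ∀ t, d ((φ T c).left t) = 0) := fun T c hc =>
    JacDeg.isPicZeroCl_iff f hdim hd T hc
  have hpzi : ∀ {T : Over (Spec (CommRingCat.of k))} {c : PicF.Cl (PicF.XT f T)}, AbDual.IsPicZeroCl f T c →
      PicF.IsInvertibleCl c := fun ⟨L, hc, hL, _⟩ => ⟨L, hc, hL⟩
  have hφ₀ : ∀ (T : Over (Spec (CommRingCat.of k))) (c : PicF.Cl (PicF.XT f T)), AbDual.IsPicZeroCl f T c →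
      φ₀ T c ≫ ι = φ T c := fun T c hc => by
    have h := (hpz T (hpzi hc)).1 hc
    simp only [φ₀, dif_pos h]
    exact (hlift (φ T c) h).choose_spec
  have hP₀ : AbDual.IsRelPicZeroK Scheme.fppfPrecoverage f J φ₀ := by
    refine ⟨fun T T' g c hc => ?_, fun T g => ?_, fun T c c' hc hc' h => ?_⟩
    · have hc' : AbDual.IsPicZeroCl f T' (PicF.pullCl (PicF.XTmap f g) c) :=
        (hpz T' (PicClLib.isInvertibleCl_pullCl _ (hpzi hc))).2 fun t => by
          rw [show φ T' (PicF.pullCl (PicF.XTmap f g) c) = g ≫ φ T c from hP.natural T T' g c (hpzi hc)]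
          exact (hpz T (hpzi hc)).1 hc (g.left t)
      refine hmono _ _ ?_
      rw [Category.assoc, hφ₀ _ _ hc, hφ₀ _ _ hc']
      exact hP.natural T T' g c (hpzi hc)
    · obtain ⟨R, hR, hR'⟩ := hP.locallySurjective T (g ≫ ι)
      refine ⟨R, hR, fun U' u hu => ?_⟩
      obtain ⟨c, hc, hcφ⟩ := hR' u hu
      have hc0 : AbDual.IsPicZeroCl f _ c := (hpz _ hc).2 fun t => by
        rw [show φ _ c = AbDual.ovrHom T u ≫ g ≫ ι from hcφ]
        exact ((AbDual.ovrHom T u ≫ g).left t).2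
      refine ⟨c, hc0, hmono _ _ ?_⟩
      rw [hφ₀ _ _ hc0, Category.assoc]
      exact hcφ
    · refine hP.locallyInjective T c c' (hpzi hc) (hpzi hc') ?_
      exact (hφ₀ _ _ hc).symm.trans ((congrArg (· ≫ ι) h).trans (hφ₀ _ _ hc'))
  obtain ⟨-, -, hJp, hJs, hJc⟩ := S12415.result f hdim P φ hP J φ₀ hP₀ ι hφ₀
  haveI := hJp; haveI := hJs; haveI := hJc
  haveI : GeometricallyIrreducible J.hom := SmoothWeilLib.geometricallyIrreducible J.hom fun s =>
    GeometricallyConnected.geometrically_connectedSpace (f := J.hom) _ _ _ (IsPullback.of_hasPullback J.hom (Red.geomPt s))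
  refine ⟨J, RigPoints.pullRig f σ hσ ι ξ, hJp, hJs, inferInstance, ?_, fun T c hc => ?_⟩
  · obtain ⟨L, hLc, hL⟩ := (RigPoints.pullRig f σ hσ ι ξ).2.1
    refine ⟨L, hLc, fun t => ?_⟩
    have h := hd J L hL t
    rw [hLc, show φ J (RigPoints.pullRig f σ hσ ι ξ).1 = ι from
      (phi_rig f σ hσ hξ _).trans (classify_eq f σ hσ hξ _ ι rfl).symm] at h
    exact sub_eq_zero.1 (h.symm.trans (t.2 : d (U.ι t) = 0))
  · obtain ⟨L, hLc, hdeg⟩ := hc
    obtain ⟨M, hMc, hM⟩ := c.2.1
    have hL : PicF.IsInvertible L := by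
      obtain ⟨e⟩ := PicMul.cl_eq_iff.1 (hMc.trans hLc.symm)
      exact PicMul.isInvertible_of_iso e hM
    obtain ⟨g, hg⟩ := hlift (classify f σ hσ hξ c) fun t => by
      rw [← phi_rig f σ hσ hξ c, ← hLc]
      exact (hd T L hL t).trans (sub_eq_zero.2 (hdeg t))
    refine ⟨g, ?_, fun g' hg' => hmono _ _ ?_⟩
    · show (RigPoints.pullRig f σ hσ g (RigPoints.pullRig f σ hσ ι ξ)).1 = c.1
      rw [pullRig_comp, hg, pull_classify]
    · refine (classify_eq f σ hσ hξ c (g' ≫ ι) ?_).trans hg.symm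
      rw [← pullRig_comp]
      exact Subtype.ext hg'

end Groth.Agent.PicCurve
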