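import Groth.Agent.PicCurve.Deg
import Groth.Agent.PicCurve.JacField
import Groth.Agent.H28.PBCores
import Groth.Prelude.Def_Jac

/-!
# Coarse moduli of degree zero line bundles carry a universal rigidified class
-/

set_option autoImplicit false
set_option linter.style.haveILetI false
set_option linter.unusedSectionVars false
set_option backward.isDefEq.respectTransparency false
set_option backward.isDefEq.respectTransparency.types false
set_option maxHeartbeats 1000000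

universe u

open CategoryTheory CategoryTheory.Limits AlgebraicGeometry TopologicalSpace

noncomputable section

namespace Groth.Agent.PicCurve

open Groth.Agent Groth.Agent.H23 Groth.Agent.H23.PicMul Groth.Agent.H26 Groth.Agent.Pic13Lib
  Groth.Agent.PicTangent Groth.Agent.PicTangent.JacDiff Groth.Agent.EllLaw
open scoped Groth.Agent.H23.PicMul

attribute [local instance] PicMul.clMonoid

section General

variable {X S : Scheme.{u}} (f : X ⟶ S) [IsProper f] [SmoothOfRelativeDimension 1 f] [GeometricallyConnected f]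
  {T : Over S}

theorem degAt_base {M : T.left.Modules} (hM : PicF.IsInvertible M) (t : T.left) :
    degAt f T (PicF.pullCl (PicF.XTproj f T) (PicF.cl M)) t = 0 := by
  obtain ⟨Ω, _, _, p, rfl⟩ := JacProper.exists_geomPoint t
  let a : Over.mk (p ≫ T.hom) ⟶ T := Over.homMk p rfl
  rw [show p (IsLocalRing.closedPoint Ω : PrimeSpectrum Ω) = a.left (IsLocalRing.closedPoint Ω : PrimeSpectrum Ω) from rfl,
    ← degAt_pull f a (c := PicF.pullCl (PicF.XTproj f T) (PicF.cl M)) (PicClLib.isInvertibleCl_pullCl _ ⟨M, rfl, hM⟩),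
    PicClLib.pullCl_comp, RigPoints.XTmap_proj, ← PicClLib.pullCl_comp]
  have h1 : PicF.pullCl a.left (PicF.cl M) = 1 := by
    haveI : Subsingleton (Over.mk (p ≫ T.hom)).left := inferInstanceAs (Subsingleton (PrimeSpectrum Ω))
    haveI : Nonempty (Over.mk (p ≫ T.hom)).left := inferInstanceAs (Nonempty (PrimeSpectrum Ω))
    exact H23.KLBasic.trivial_of_subsingleton (PicClLib.isInvertible_pullback a.left hM)
  rw [h1, PicMul.pullCl_one]
  exact degAt_one f _

theorem degAt_rel {c c' : PicF.Cl (PicF.XT f T)} (hc' : PicF.IsInvertibleCl c') (h : Rel f T c c') (t : T.left) :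
    degAt f T c t = degAt f T c' t := by
  obtain ⟨M, hM, rfl⟩ := h
  rw [degAt_mul f hc' (PicClLib.isInvertibleCl_pullCl _ ⟨M, rfl, hM⟩), degAt_base f hM, add_zero]

theorem fibDeg_iff {d : ℤ} {L : (PicF.XT f T).Modules} (hL : PicF.IsInvertible L) :
    ModFun.FibDeg f 1 d T L ↔ ∀ t, degAt f T (PicF.cl L) t = d := by
  have key : ∀ (Ω : Type u) [Field Ω] [IsAlgClosed Ω] (p : Spec (CommRingCat.of Ω) ⟶ T.left),
      letI := overX f (p ≫ T.hom)
      Curv2.deg Ω (PicF.XT f (Over.mk (p ≫ T.hom)))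
        ((Scheme.Modules.pullback (PicF.XTmap f (Over.homMk p rfl : Over.mk (p ≫ T.hom) ⟶ T))).obj L) 1 =
      degAt f T (PicF.cl L) (p (IsLocalRing.closedPoint Ω : PrimeSpectrum Ω)) := by
    intro Ω _ _ p
    let a : Over.mk (p ≫ T.hom) ⟶ T := Over.homMk p rfl
    rw [← degAt_geom f (PicClLib.isInvertible_pullback _ hL) (IsLocalRing.closedPoint Ω : PrimeSpectrum Ω)]
    exact degAt_pull f a ⟨L, rfl, hL⟩ _
  constructor
  · intro h t
    obtain ⟨Ω, _, _, p, rfl⟩ := JacProper.exists_geomPoint t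
    exact (key Ω p).symm.trans (h Ω p)
  · intro h Ω _ _ p
    exact (key Ω p).trans (h _)

theorem picDeg_ok_iff {d : ℤ} {L : (PicF.XT f T).Modules} :
    (ModFun.PicDeg f d).ok T L ↔ PicF.IsInvertible L ∧ ∀ t, degAt f T (PicF.cl L) t = d := by
  constructor
  · rintro ⟨⟨-, hL⟩, hd⟩
    have hL' := H28.PBCores.isInvertible_iff_rank.2 hL
    exact ⟨hL', (fibDeg_iff f hL').1 hd⟩
  · rintro ⟨hL, hd⟩
    exact ⟨⟨trivial, H28.PBCores.isInvertible_iff_rank.1 hL⟩, (fibDeg_iff f hL).2 hd⟩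

theorem picDeg_r_iff {d : ℤ} {L L' : (PicF.XT f T).Modules} :
    (ModFun.PicDeg f d).r T L L' ↔ Rel f T (PicF.cl L') (PicF.cl L) := by
  constructor
  · rintro ⟨M, hM, ⟨e⟩⟩
    exact ⟨M, hM, (PicMul.cl_eq_iff.2 ⟨e⟩).trans (PicMul.cl_tensor _ _)⟩
  · rintro ⟨M, hM, h⟩
    exact ⟨M, hM, PicMul.cl_eq_iff.1 (h.trans (PicMul.cl_tensor _ _).symm)⟩

theorem pullRig_pull_rel {T' : Over S} (g : T' ⟶ T) {L : (PicF.XT f T).Modules} :
    PicF.cl ((Scheme.Modules.pullback (PicF.XTmap f g)).obj L) = PicF.pullCl (PicF.XTmap f g) (PicF.cl L) := rfl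

end General

section Field

variable {k : Type u} [Field k] {X : Scheme.{u}} (f : X ⟶ Spec (CommRingCat.of k)) [IsProper f]
  [SmoothOfRelativeDimension 1 f] [GeometricallyConnected f]
  (σ : Spec (CommRingCat.of k) ⟶ X) (hσ : σ ≫ f = 𝟙 _)

section Fine

variable {J : Over (Spec (CommRingCat.of k))} {η : PicF.Rig f σ hσ J} (hη : IsUniv0 f σ hσ η)

include hη in
theorem deg_rigidify {T : Over (Spec (CommRingCat.of k))} {L : (PicF.XT f T).Modules}
    (hL : (ModFun.PicDeg f 0).ok T L) :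
    FGA.HasFibreDegreeZeroCl f T (rigidify f σ hσ (c := PicF.cl L) ⟨L, rfl, ((picDeg_ok_iff f).1 hL).1⟩).1 := by
  obtain ⟨hi, hd⟩ := (picDeg_ok_iff f).1 hL
  refine (hasFibreDegreeZeroCl_iff f (rigidify f σ hσ ⟨L, rfl, hi⟩).2.1).2 fun t => ?_
  rw [degAt_rel f ⟨L, rfl, hi⟩ (rel_rigidify f σ hσ _) t]
  exact hd t

/-- The classifying point of a family of degree zero. -/
def classify0 {T : Over (Spec (CommRingCat.of k))} {L : (PicF.XT f T).Modules}
    (hL : (ModFun.PicDeg f 0).ok T L) : T ⟶ J :=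
  (hη.2 T _ (deg_rigidify f σ hσ hη hL)).exists.choose

theorem rel_classify0 {T : Over (Spec (CommRingCat.of k))} {L : (PicF.XT f T).Modules}
    (hL : (ModFun.PicDeg f 0).ok T L) :
    Rel f T (PicF.pullCl (PicF.XTmap f (classify0 f σ hσ hη hL)) η.1) (PicF.cl L) :=
  (Rel.of_eq (hη.2 T _ (deg_rigidify f σ hσ hη hL)).exists.choose_spec).trans (rel_rigidify f σ hσ _)

include hη in
theorem hom_ext_rel {T : Over (Spec (CommRingCat.of k))} {g g' : T ⟶ J}
    (h : Rel f T (PicF.pullCl (PicF.XTmap f g) η.1) (PicF.pullCl (PicF.XTmap f g') η.1)) : g = g' := by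
  have e := rig_eq_of_rel f σ hσ (c := RigPoints.pullRig f σ hσ g η) (c' := RigPoints.pullRig f σ hσ g' η) h
  have hd : FGA.HasFibreDegreeZeroCl f T (RigPoints.pullRig f σ hσ g η).1 :=
    (hasFibreDegreeZeroCl_iff f (RigPoints.pullRig f σ hσ g η).2.1).2 fun t =>
      (degAt_pull f g η.2.1 t).trans ((hasFibreDegreeZeroCl_iff f η.2.1).1 hη.1 _)
  exact (hη.2 T _ hd).unique rfl (congrArg Subtype.val e).symm

/-- The moduli map. -/
def psi : (ModFun.PicDeg f 0).Hom ⊤ J where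
  app T L _ hL := classify0 f σ hσ hη hL
  natural g L _ _ hL hL' := hom_ext_rel f σ hσ hη (by
    refine (rel_classify0 f σ hσ hη hL').trans (((rel_classify0 f σ hσ hη hL).pull g).symm.trans (Rel.of_eq ?_))
    rw [PicClLib.pullCl_comp, ← PicClLib.XTmap_comp])
  resp L L' _ hL hL' h := hom_ext_rel f σ hσ hη
    ((rel_classify0 f σ hσ hη hL).trans (((picDeg_r_iff f).1 h).symm.trans (rel_classify0 f σ hσ hη hL').symm))

include hη in
theorem exists_rep {T : Over (Spec (CommRingCat.of k))} (g : T ⟶ J) :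
    ∃ (L : (PicF.XT f T).Modules) (hL : (ModFun.PicDeg f 0).ok T L),
      PicF.cl L = PicF.pullCl (PicF.XTmap f g) η.1 := by
  obtain ⟨L, hLc, hL⟩ := (RigPoints.pullRig f σ hσ g η).2.1
  refine ⟨L, (picDeg_ok_iff f).2 ⟨hL, fun t => ?_⟩, hLc⟩
  rw [hLc]
  exact (degAt_pull f g η.2.1 t).trans ((hasFibreDegreeZeroCl_iff f η.2.1).1 hη.1 _)

theorem classify0_rep {T : Over (Spec (CommRingCat.of k))} (g : T ⟶ J) {L : (PicF.XT f T).Modules}
    (hL : (ModFun.PicDeg f 0).ok T L) (e : PicF.cl L = PicF.pullCl (PicF.XTmap f g) η.1) :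
    classify0 f σ hσ hη hL = g :=
  hom_ext_rel f σ hσ hη ((rel_classify0 f σ hσ hη hL).trans (Rel.of_eq e))

theorem isCoarseModuli : ModFun.IsCoarseModuli ⊤ (ModFun.PicDeg f 0) J (psi f σ hσ hη) := by
  refine ⟨fun _ _ _ _ => trivial, fun N ψ' => ?_, fun Ω _ _ t _ => ⟨fun g => ?_, fun x y hx hy e => ?_⟩⟩
  · obtain ⟨L₀, hL₀, hL₀c⟩ := exists_rep f σ hσ hη (𝟙 J)
    rw [XTmap_id, PicClLib.pullCl_id] at hL₀c
    refine ⟨ψ'.app J L₀ trivial hL₀, fun T L hT hL => ?_, fun h hh => ?_⟩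
    · let g := classify0 f σ hσ hη hL
      obtain ⟨hLi, hLd⟩ := (picDeg_ok_iff f).1 hL
      obtain ⟨hi₀, hd₀⟩ := (picDeg_ok_iff f).1 hL₀
      have hg : (ModFun.PicDeg f 0).ok T ((Scheme.Modules.pullback (PicF.XTmap f g)).obj L₀) :=
        (picDeg_ok_iff f).2 ⟨PicClLib.isInvertible_pullback _ hi₀, fun t =>
          (degAt_pull f g ⟨L₀, rfl, hi₀⟩ t).trans (hd₀ _)⟩
      have h1 := ψ'.natural g L₀ trivial hT hL₀ hg
      refine Eq.trans ?_ h1
      refine ψ'.resp _ _ hT hL hg ((picDeg_r_iff f).2 ?_)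
      refine (Rel.of_eq ?_).trans (rel_classify0 f σ hσ hη hL)
      exact congrArg (PicF.pullCl (PicF.XTmap f g)) hL₀c
    · have h1 := hh J L₀ trivial hL₀
      rw [h1, show (psi f σ hσ hη).app J L₀ trivial hL₀ = 𝟙 J from
        classify0_rep f σ hσ hη (𝟙 J) hL₀ (by rw [XTmap_id, PicClLib.pullCl_id]; exact hL₀c), Category.id_comp]
  · obtain ⟨L, hL, hLc⟩ := exists_rep f σ hσ hη g
    exact ⟨L, hL, classify0_rep f σ hσ hη g hL hLc⟩
  · refine (picDeg_r_iff f).2 ?_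
    have e' : classify0 f σ hσ hη hx = classify0 f σ hσ hη hy := e
    have h1 := rel_classify0 f σ hσ hη hx
    rw [e'] at h1
    exact (rel_classify0 f σ hσ hη hy).symm.trans h1

end Fine

variable {J' : Over (Spec (CommRingCat.of k))} (ψ : (ModFun.PicDeg f 0).Hom ⊤ J')

/-- The pull-back of the class classifies the families. -/
def Classifies (η : PicF.Rig f σ hσ J') : Prop :=
  IsUniv0 f σ hσ η ∧ ∀ (T : Over (Spec (CommRingCat.of k))) (L : (PicF.XT f T).Modules)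
    (hT : (⊤ : ObjectProperty (Over (Spec (CommRingCat.of k)))) T) (hL : (ModFun.PicDeg f 0).ok T L),
      Rel f T (PicF.pullCl (PicF.XTmap f (ψ.app T L hT hL)) η.1) (PicF.cl L)

theorem isUniv0_of_iso {J : Over (Spec (CommRingCat.of k))} {η : PicF.Rig f σ hσ J} (hη : IsUniv0 f σ hσ η)
    (e : J' ≅ J) : IsUniv0 f σ hσ (RigPoints.pullRig f σ hσ e.hom η) := by
  have key : ∀ {T : Over (Spec (CommRingCat.of k))} (g : T ⟶ J'),
      PicF.pullCl (PicF.XTmap f g) (RigPoints.pullRig f σ hσ e.hom η).1 = PicF.pullCl (PicF.XTmap f (g ≫ e.hom)) η.1 :=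
    fun g => congrArg Subtype.val (pullRig_comp g e.hom η)
  refine ⟨(hasFibreDegreeZeroCl_iff f (RigPoints.pullRig f σ hσ e.hom η).2.1).2 fun t =>
    (degAt_pull f e.hom η.2.1 t).trans ((hasFibreDegreeZeroCl_iff f η.2.1).1 hη.1 _), fun T c hc => ?_⟩
  obtain ⟨g, hg, hgu⟩ := hη.2 T c hc
  refine ⟨g ≫ e.inv, ?_, fun g' hg' => ?_⟩
  · show PicF.pullCl _ _ = _
    rw [key, Category.assoc, e.inv_hom_id, Category.comp_id]
    exact hg
  · rw [← hgu (g' ≫ e.hom) ((key g').symm.trans hg'), Category.assoc, e.hom_inv_id, Category.comp_id]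

/-- **A coarse moduli scheme of degree zero line bundles carries a universal rigidified class.** -/
theorem exists_classifies {J : Over (Spec (CommRingCat.of k))} {η : PicF.Rig f σ hσ J} (hη : IsUniv0 f σ hσ η)
    (hψ : ModFun.IsCoarseModuli ⊤ (ModFun.PicDeg f 0) J' ψ) :
    ∃ η' : PicF.Rig f σ hσ J', Classifies f σ hσ ψ η' := by
  obtain ⟨a, ha, -⟩ := hψ.2.1 J (psi f σ hσ hη)
  obtain ⟨b, hb, -⟩ := (isCoarseModuli f σ hσ hη).2.1 J' ψ
  have h1 : a ≫ b = 𝟙 J' := (hψ.2.1 J' ψ).unique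
    (fun T x hT hx => (hb T x hT hx).trans ((congrArg (· ≫ b) (ha T x hT hx)).trans (Category.assoc _ _ _)))
    (fun T x hT hx => (Category.comp_id _).symm)
  have h2 : b ≫ a = 𝟙 J := ((isCoarseModuli f σ hσ hη).2.1 J (psi f σ hσ hη)).unique
    (fun T x hT hx => (ha T x hT hx).trans ((congrArg (· ≫ a) (hb T x hT hx)).trans (Category.assoc _ _ _)))
    (fun T x hT hx => (Category.comp_id _).symm)
  let e : J' ≅ J := ⟨a, b, h1, h2⟩
  refine ⟨RigPoints.pullRig f σ hσ a η, isUniv0_of_iso f σ hσ hη e, fun T L hT hL => ?_⟩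
  refine (Rel.of_eq ?_).trans (rel_classify0 f σ hσ hη hL)
  show PicF.pullCl _ (PicF.pullCl _ _) = _
  rw [PicClLib.pullCl_comp, ← PicClLib.XTmap_comp, ← ha T L hT hL]
  rfl

variable {ψ} {η' : PicF.Rig f σ hσ J'} (hc : Classifies f σ hσ ψ η')

include hc in
theorem classifies_eq {T : Over (Spec (CommRingCat.of k))} {L : (PicF.XT f T).Modules}
    (hT : (⊤ : ObjectProperty (Over (Spec (CommRingCat.of k)))) T) (hL : (ModFun.PicDeg f 0).ok T L)
    (g : T ⟶ J') (h : Rel f T (PicF.pullCl (PicF.XTmap f g) η'.1) (PicF.cl L)) : ψ.app T L hT hL = g :=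
  hom_ext_rel f σ hσ hc.1 ((hc.2 T L hT hL).trans h.symm)

include hc in
/-- A normalised universal family has the universal class. -/
theorem cl_eq_of_norm {Pu : (PicF.XT f J').Modules} (hT : (⊤ : ObjectProperty (Over (Spec (CommRingCat.of k)))) J')
    (hPu : (ModFun.PicDeg f 0).ok J' Pu) (hn : Jac.IsNormAlong f σ hσ J' Pu) (h : ψ.app J' Pu hT hPu = 𝟙 J') :
    PicF.cl Pu = η'.1 := by
  have h1 := hc.2 J' Pu hT hPu
  rw [h, XTmap_id, PicClLib.pullCl_id] at h1
  exact (congrArg Subtype.val (rig_eq_of_rel f σ hσ (c := η')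
    (c' := ⟨PicF.cl Pu, ⟨Pu, rfl, ((picDeg_ok_iff f).1 hPu).1⟩, hn⟩) h1)).symm

open scoped CategoryTheory.MonObj in
include hc in
/-- The group law is the tensor product. -/
theorem pull_mul [GrpObj J'] (hJ : Jac.IsJacobian f ⊤ J' ψ) {T : Over (Spec (CommRingCat.of k))} (a b : T ⟶ J') :
    PicF.pullCl (PicF.XTmap f (a * b)) η'.1 =
      PicF.pullCl (PicF.XTmap f a) η'.1 * PicF.pullCl (PicF.XTmap f b) η'.1 := by
  obtain ⟨L, hL, hLc⟩ := exists_rep f σ hσ hc.1 a
  obtain ⟨M, hM, hMc⟩ := exists_rep f σ hσ hc.1 b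
  obtain ⟨hLi, hLd⟩ := (picDeg_ok_iff f).1 hL
  obtain ⟨hMi, hMd⟩ := (picDeg_ok_iff f).1 hM
  have hN : (ModFun.PicDeg f 0).ok T (CohB1.tensorMod L M) :=
    (picDeg_ok_iff f).2 ⟨PicMul.isInvertible_tensor hLi hMi, fun t => by
      rw [PicMul.cl_tensor, degAt_mul f ⟨L, rfl, hLi⟩ ⟨M, rfl, hMi⟩, hLd, hMd]; rfl⟩
  have h := hJ.mul T trivial L M (CohB1.tensorMod L M) hL hM hN ⟨Iso.refl _⟩
  rw [classifies_eq f σ hσ hc trivial hL a (Rel.of_eq hLc.symm),
    classifies_eq f σ hσ hc trivial hM b (Rel.of_eq hMc.symm)] at h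
  have h2 := hc.2 T (CohB1.tensorMod L M) trivial hN
  rw [h, PicMul.cl_tensor, hLc, hMc] at h2
  let c : PicF.Rig f σ hσ T := ⟨_, PicMul.isInvertibleCl_mul (RigPoints.pullRig f σ hσ a η').2.1
    (RigPoints.pullRig f σ hσ b η').2.1, by
      show PicF.pullCl _ _ = _
      rw [PicMul.pullCl_mul]
      exact (congrArg₂ (· * ·) ((RigPoints.pullRig f σ hσ a η').2.2.trans PicMul.one_def.symm)
        ((RigPoints.pullRig f σ hσ b η').2.2.trans PicMul.one_def.symm)).trans ((mul_one _).trans PicMul.one_def)⟩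
  exact congrArg Subtype.val (rig_eq_of_rel f σ hσ (c := RigPoints.pullRig f σ hσ (a * b) η') (c' := c) h2)

end Field

end Groth.Agent.PicCurve
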