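import Groth.Agent.PicCurve.Chart
import Groth.Agent.PicTangent.JacProper

/-!
# Degrees of classes and the change of the base scheme
-/

set_option autoImplicit false
set_option linter.style.haveILetI false
set_option linter.unusedSectionVars false
set_option backward.isDefEq.respectTransparency false
set_option backward.isDefEq.respectTransparency.types false
set_option maxHeartbeats 1000000

universe u

open CategoryTheory CategoryTheory.Limits AlgebraicGeometry TopologicalSpace

noncomputable section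

namespace Groth.Agent.PicCurve

open Groth.Agent Groth.Agent.H23 Groth.Agent.H23.PicMul Groth.Agent.H26 Groth.Agent.Pic13Lib
  Groth.Agent.PicTangent Groth.Agent.PicTangent.JacDiff
open scoped Groth.Agent.H23.PicMul

attribute [local instance] PicMul.clMonoid

section Deg

variable {X S : Scheme.{u}} (f : X ⟶ S) [IsProper f] [SmoothOfRelativeDimension 1 f] [GeometricallyConnected f]

/-- The degree of an invertible class on the fibre at a point. -/
def degAt (T : Over S) (c : PicF.Cl (PicF.XT f T)) (t : T.left) : ℤ :=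
  open Classical in if h : PicF.IsInvertibleCl c then S12409.deg f T h.choose t else 0

variable {T : Over S}

theorem degAt_eq {M : (PicF.XT f T).Modules} (hM : PicF.IsInvertible M) (t : T.left) :
    degAt f T (PicF.cl M) t = S12409.deg f T M t := by
  have h : PicF.IsInvertibleCl (PicF.cl M) := ⟨M, rfl, hM⟩
  rw [degAt, dif_pos h]
  show _ - _ = _ - _
  rw [S12409.chi_congr f T (N := M) h.choose_spec.1 t]

theorem degAt_pull {T' : Over S} (g : T' ⟶ T) {c : PicF.Cl (PicF.XT f T)} (hc : PicF.IsInvertibleCl c)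
    (t : T'.left) : degAt f T' (PicF.pullCl (PicF.XTmap f g) c) t = degAt f T c (g.left t) := by
  haveI : Smooth f := SmoothOfRelativeDimension.smooth 1 f
  obtain ⟨M, rfl, hM⟩ := hc
  obtain ⟨M', hM', hM'i⟩ := PicClLib.isInvertibleCl_pullCl (PicF.XTmap f g) ⟨M, rfl, hM⟩
  rw [degAt_eq f hM, ← hM', degAt_eq f hM'i]
  exact S12409.deg_bc f g M hM M' hM'.symm t

theorem degAt_geom {Ω : Type u} [Field Ω] {b : Spec (CommRingCat.of Ω) ⟶ S}
    {M : (PicF.XT f (Over.mk b)).Modules} (hM : PicF.IsInvertible M) (t : (Over.mk b).left) :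
    letI := overX f b
    degAt f (Over.mk b) (PicF.cl M) t = Curv2.deg Ω (PicF.XT f (Over.mk b)) M 1 := by
  haveI : Smooth f := SmoothOfRelativeDimension.smooth 1 f
  letI := overX f b
  haveI : IsProper (PicF.XT f (Over.mk b) ↘ Spec (CommRingCat.of Ω)) := inferInstanceAs (IsProper (pullback.snd f b))
  have hdim := EllLaw.dim_fibre f
  have hO : Coh.IsQCoh (Coh.structureModule (PicF.XT f (Over.mk b))) :=
    JacPoint.isQCoh_of_isInvertible (PicLoc.isInvertible_structureModule _)
  have hMq : Coh.IsQCoh M := JacPoint.isQCoh_of_isInvertible hM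
  have hd1 : topologicalKrullDim ↥(PicF.XT f (Over.mk b)) ≤ ((1 : ℕ) : WithBot ℕ∞) := by
    rw [show topologicalKrullDim ↥(PicF.XT f (Over.mk b)) = 1 from dim_X f b hdim]
    rfl
  rw [degAt_eq f hM, S12409.deg_eq_charLE f hdim _ M hM t, fibre_euler f b t hMq]
  obtain ⟨e⟩ : Nonempty (FGA.restrFibre f (Over.mk b) t (Coh.structureModule _) ≅
      Coh.structureModule (FGA.fibreAt f (Over.mk b) t).left) := PicMul.cl_eq_iff.1 (PicMul.pullCl_one _)
  have h2 := fibre_euler f b t hO
  unfold FGA.eulerCharLE at h2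
  rw [Finset.sum_congr rfl fun i _ => congrArg (fun n : ℕ => (-1 : ℤ) ^ i * (n : ℤ))
    (CurveCohLib.hhEquiv (k := (Over.mk b).left.residueField t) e i).finrank_eq] at h2
  change FGA.eulerCharLE ((Over.mk b).left.residueField t) (FGA.fibreAt f (Over.mk b) t).left
    (Coh.structureModule _) 1 = FGA.eulerCharLE Ω (PicF.XT f (Over.mk b)) (Coh.structureModule _) 1 at h2
  rw [h2, Pic13Lib.eulerCharLE_eq (k := Ω) hd1 hMq, Pic13Lib.eulerCharLE_eq (k := Ω) hd1 hO]
  simp [Curv2.deg]

theorem degAt_mul {c c' : PicF.Cl (PicF.XT f T)} (hc : PicF.IsInvertibleCl c) (hc' : PicF.IsInvertibleCl c')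
    (t : T.left) : degAt f T (c * c') t = degAt f T c t + degAt f T c' t := by
  obtain ⟨Ω, _, _, σ, rfl⟩ := JacProper.exists_geomPoint t
  let b := σ ≫ T.hom
  let g : Over.mk b ⟶ T := Over.homMk σ rfl
  haveI : Smooth f := SmoothOfRelativeDimension.smooth 1 f
  haveI := JacDeg.geometricallyIntegral f
  letI := overX f b
  haveI : IsProper (PicF.XT f (Over.mk b) ↘ Spec (CommRingCat.of Ω)) := inferInstanceAs (IsProper (pullback.snd f b))
  haveI : Smooth (PicF.XT f (Over.mk b) ↘ Spec (CommRingCat.of Ω)) := inferInstanceAs (Smooth (pullback.snd f b))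
  haveI := isIntegral_X f b
  obtain ⟨M, hMc, hM⟩ := PicClLib.isInvertibleCl_pullCl (PicF.XTmap f g) hc
  obtain ⟨N, hNc, hN⟩ := PicClLib.isInvertibleCl_pullCl (PicF.XTmap f g) hc'
  rw [show σ (IsLocalRing.closedPoint Ω : PrimeSpectrum Ω) = g.left (IsLocalRing.closedPoint Ω : PrimeSpectrum Ω) from rfl,
    ← degAt_pull f g (PicMul.isInvertibleCl_mul hc hc'), ← degAt_pull f g hc, ← degAt_pull f g hc', PicMul.pullCl_mul,
    ← hMc, ← hNc, ← PicMul.cl_tensor, degAt_geom f (PicMul.isInvertible_tensor hM hN), degAt_geom f hM, degAt_geom f hN]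
  exact CurveAlgEq.deg_tensorMod (dim_X f b (EllLaw.dim_fibre f)) hM hN

theorem degAt_one (t : T.left) : degAt f T 1 t = 0 := by
  have h1 : PicF.IsInvertibleCl (1 : PicF.Cl (PicF.XT f T)) := ⟨_, rfl, InvX.isInvertible_structureModule⟩
  have h := degAt_mul f h1 h1 t
  rw [mul_one] at h
  omega

theorem degAt_ptInv (a : T ⟶ Over.mk f) (t : T.left) : degAt f T (ptInv f T a) t = 1 := by
  obtain ⟨Ω, _, _, σ, rfl⟩ := JacProper.exists_geomPoint t
  let g : Over.mk (σ ≫ T.hom) ⟶ T := Over.homMk σ rfl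
  rw [show σ (IsLocalRing.closedPoint Ω : PrimeSpectrum Ω) = g.left (IsLocalRing.closedPoint Ω : PrimeSpectrum Ω) from rfl,
    ← degAt_pull f g (ptInv_invertible f T a), pull_ptInv]
  obtain ⟨J, hJc, hJ⟩ := ptInv_invertible f (Over.mk (σ ≫ T.hom)) (g ≫ a)
  rw [← hJc, degAt_geom f hJ]
  exact AbelSec.deg_ptInv f (σ ≫ T.hom) _ (EllLaw.dim_fibre f) hJ hJc

theorem degAt_pow (a : T ⟶ Over.mk f) (n : ℕ) (t : T.left) :
    PicF.IsInvertibleCl (ptInv f T a ^ n) ∧ degAt f T (ptInv f T a ^ n) t = n ∧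
    PicF.IsInvertibleCl (pt f T a ^ n) ∧ degAt f T (pt f T a ^ n) t = -(n : ℤ) := by
  have hp : degAt f T (pt f T a) t = -1 := by
    have h := degAt_mul f (pt_invertible f T a) (ptInv_invertible f T a) t
    rw [pt_mul_ptInv, degAt_one, degAt_ptInv] at h
    omega
  induction n with
  | zero =>
    rw [pow_zero, pow_zero, degAt_one]
    exact ⟨⟨_, rfl, InvX.isInvertible_structureModule⟩, rfl, ⟨_, rfl, InvX.isInvertible_structureModule⟩, by simp⟩
  | succ n ih =>
    obtain ⟨h1, h2, h3, h4⟩ := ih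
    rw [pow_succ, pow_succ, degAt_mul f h1 (ptInv_invertible f T a), degAt_mul f h3 (pt_invertible f T a), h2, h4,
      degAt_ptInv, hp]
    exact ⟨PicMul.isInvertibleCl_mul h1 (ptInv_invertible f T a), by push_cast; ring,
      PicMul.isInvertibleCl_mul h3 (pt_invertible f T a), by push_cast; ring⟩

theorem hasFibreDegreeZeroCl_iff {c : PicF.Cl (PicF.XT f T)} (hc : PicF.IsInvertibleCl c) :
    FGA.HasFibreDegreeZeroCl f T c ↔ ∀ t, degAt f T c t = 0 := by
  haveI : Smooth f := SmoothOfRelativeDimension.smooth 1 f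
  have hdim := EllLaw.dim_fibre f
  obtain ⟨M, rfl, hM⟩ := hc
  constructor
  · rintro ⟨L, hL, h⟩ t
    obtain ⟨e⟩ := PicMul.cl_eq_iff.1 hL
    have hLi : PicF.IsInvertible L := PicMul.isInvertible_of_iso e.symm hM
    rw [← hL, degAt_eq f hLi, S12409.deg_eq_charLE f hdim _ L hLi t, h t, sub_self]
  · intro h
    refine ⟨M, rfl, fun t => sub_eq_zero.1 ?_⟩
    rw [← S12409.deg_eq_charLE f hdim _ M hM t, ← degAt_eq f hM]
    exact h t

end Deg

section BC

variable {X S S' : Scheme.{u}} (f : X ⟶ S) (h : S' ⟶ S)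

/-- A scheme over the new base, over the old one. -/
abbrev down (T : Over S') : Over S := Over.mk (T.hom ≫ h)

/-- A morphism over the new base, over the old one. -/
abbrev downMap {T T' : Over S'} (g : T' ⟶ T) : down h T' ⟶ down h T :=
  Over.homMk g.left (by show g.left ≫ T.hom ≫ h = T'.hom ≫ h; rw [Over.w_assoc])

/-- The two fibre products agree. -/
abbrev bcIso (T : Over S') : PicF.XT (pullback.snd f h) T ≅ PicF.XT f (down h T) :=
  pullbackLeftPullbackSndIso f h T.hom

theorem bcIso_proj (T : Over S') :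
    (bcIso f h T).hom ≫ PicF.XTproj f (down h T) = PicF.XTproj (pullback.snd f h) T :=
  pullbackLeftPullbackSndIso_hom_snd f h T.hom

theorem bcIso_XTmap {T T' : Over S'} (g : T' ⟶ T) :
    (bcIso f h T').hom ≫ PicF.XTmap f (downMap h g) = PicF.XTmap (pullback.snd f h) g ≫ (bcIso f h T).hom := by
  apply pullback.hom_ext <;> simp [bcIso, PicF.XTmap, pullback.map]

/-- Classes after the change of base. -/
def toDown {T : Over S'} (c : PicF.Cl (PicF.XT (pullback.snd f h) T)) : PicF.Cl (PicF.XT f (down h T)) :=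
  PicF.pullCl (bcIso f h T).inv c

/-- Classes before the change of base. -/
def ofDown {T : Over S'} (c : PicF.Cl (PicF.XT f (down h T))) : PicF.Cl (PicF.XT (pullback.snd f h) T) :=
  PicF.pullCl (bcIso f h T).hom c

theorem toDown_ofDown {T : Over S'} (c : PicF.Cl (PicF.XT f (down h T))) : toDown f h (ofDown f h c) = c := by
  rw [toDown, ofDown, PicClLib.pullCl_comp, Iso.inv_hom_id, PicClLib.pullCl_id]

theorem ofDown_toDown {T : Over S'} (c : PicF.Cl (PicF.XT (pullback.snd f h) T)) : ofDown f h (toDown f h c) = c := by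
  rw [toDown, ofDown, PicClLib.pullCl_comp, Iso.hom_inv_id, PicClLib.pullCl_id]

theorem toDown_mul {T : Over S'} (c c' : PicF.Cl (PicF.XT (pullback.snd f h) T)) :
    toDown f h (c * c') = toDown f h c * toDown f h c' := PicMul.pullCl_mul _ _ _

theorem toDown_invertible {T : Over S'} {c : PicF.Cl (PicF.XT (pullback.snd f h) T)} (hc : PicF.IsInvertibleCl c) :
    PicF.IsInvertibleCl (toDown f h c) := PicClLib.isInvertibleCl_pullCl _ hc

theorem ofDown_invertible {T : Over S'} {c : PicF.Cl (PicF.XT f (down h T))} (hc : PicF.IsInvertibleCl c) :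
    PicF.IsInvertibleCl (ofDown f h c) := PicClLib.isInvertibleCl_pullCl _ hc

theorem toDown_pull {T T' : Over S'} (g : T' ⟶ T) (c : PicF.Cl (PicF.XT (pullback.snd f h) T)) :
    toDown f h (PicF.pullCl (PicF.XTmap (pullback.snd f h) g) c) = PicF.pullCl (PicF.XTmap f (downMap h g)) (toDown f h c) := by
  rw [toDown, toDown, PicClLib.pullCl_comp, PicClLib.pullCl_comp]
  congr 1
  rw [Iso.inv_comp_eq, ← Category.assoc, bcIso_XTmap, Category.assoc, Iso.hom_inv_id, Category.comp_id]

variable (σ : S ⟶ X) (hσ : σ ≫ f = 𝟙 S)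

/-- The section after the change of base. -/
def bcSec : S' ⟶ pullback f h :=
  pullback.lift (h ≫ σ) (𝟙 S') (by rw [Category.assoc, hσ, Category.comp_id, Category.id_comp])

theorem bcSec_snd : bcSec f h σ hσ ≫ pullback.snd f h = 𝟙 S' := pullback.lift_snd _ _ _

theorem sec_bcIso (T : Over S') :
    PicF.secT (pullback.snd f h) (bcSec f h σ hσ) (bcSec_snd f h σ hσ) T ≫ (bcIso f h T).hom =
      PicF.secT f σ hσ (down h T) := by
  refine pullback.hom_ext ?_ ?_
  · rw [Category.assoc, show (bcIso f h T).hom ≫ pullback.fst f (down h T).hom =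
      pullback.fst _ _ ≫ pullback.fst f h from pullbackLeftPullbackSndIso_hom_fst f h T.hom]
    unfold PicF.secT bcSec
    rw [pullback.lift_fst_assoc, pullback.lift_fst, Category.assoc, pullback.lift_fst]
    exact (Category.assoc _ _ _).symm
  · rw [Category.assoc, bcIso_proj]
    unfold PicF.secT
    rw [pullback.lift_snd]
    exact (pullback.lift_snd _ _ _).symm

/-- Rigidified classes after the change of base. -/
def rigDown {T : Over S'} (c : PicF.Rig (pullback.snd f h) (bcSec f h σ hσ) (bcSec_snd f h σ hσ) T) :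
    PicF.Rig f σ hσ (down h T) :=
  ⟨toDown f h c.1, toDown_invertible f h c.2.1, by
    rw [toDown, PicClLib.pullCl_comp, ← sec_bcIso, Category.assoc, Iso.hom_inv_id, Category.comp_id]
    exact c.2.2⟩

/-- Rigidified classes before the change of base. -/
def rigUp {T : Over S'} (c : PicF.Rig f σ hσ (down h T)) :
    PicF.Rig (pullback.snd f h) (bcSec f h σ hσ) (bcSec_snd f h σ hσ) T :=
  ⟨ofDown f h c.1, ofDown_invertible f h c.2.1, by
    rw [ofDown, PicClLib.pullCl_comp, sec_bcIso]
    exact c.2.2⟩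

section Geom

variable {Ω : Type u} [Field Ω] {b : Spec (CommRingCat.of Ω) ⟶ S'}

theorem finrank_bc [IsProper f] {M : (PicF.XT f (Over.mk (b ≫ h))).Modules} (hM : Coh.IsQCoh M) (i : ℕ) :
    letI := overX f (b ≫ h)
    letI := overX (pullback.snd f h) b
    Module.finrank Ω (Coh.HH (PicF.XT (pullback.snd f h) (Over.mk b))
        ((Scheme.Modules.pullback (bcIso f h (Over.mk b)).hom).obj M) i) =
      Module.finrank Ω (Coh.HH (PicF.XT f (Over.mk (b ≫ h))) M i) := by
  letI := overX f (b ≫ h)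
  letI := overX (pullback.snd f h) b
  haveI : IsProper (PicF.XT f (Over.mk (b ≫ h)) ↘ Spec (CommRingCat.of Ω)) :=
    inferInstanceAs (IsProper (pullback.snd f (b ≫ h)))
  haveI : CompactSpace ↥(PicF.XT f (Over.mk (b ≫ h))) :=
    QuasiCompact.compactSpace_of_compactSpace (PicF.XT f (Over.mk (b ≫ h)) ↘ Spec (CommRingCat.of Ω))
  haveI : (PicF.XT f (Over.mk (b ≫ h))).IsSeparated := ⟨by
    rw [← Limits.terminal.comp_from (PicF.XT f (Over.mk (b ≫ h)) ↘ Spec (CommRingCat.of Ω))]
    infer_instance⟩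
  haveI : IsIso (Spec.map (CommRingCat.ofHom (algebraMap Ω Ω))) := by
    rw [show CommRingCat.ofHom (algebraMap Ω Ω) = 𝟙 _ from rfl, Spec.map_id]
    infer_instance
  refine CurveBC.finrank_hh (X := PicF.XT f (Over.mk (b ≫ h))) Ω Ω (bcIso f h (Over.mk b)).hom ?_ _ hM i
  refine IsPullback.of_horiz_isIso ⟨?_⟩
  rw [show CommRingCat.ofHom (algebraMap Ω Ω) = 𝟙 _ from rfl, Spec.map_id, Category.comp_id]
  exact bcIso_proj f h (Over.mk b)

end Geom

end BC

section BCGood

variable {X S S' : Scheme.{u}} (f : X ⟶ S) [IsProper f] [SmoothOfRelativeDimension 1 f] [GeometricallyConnected f]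
  (h : S' ⟶ S) [IsProper (pullback.snd f h)] [SmoothOfRelativeDimension 1 (pullback.snd f h)]
  [GeometricallyConnected (pullback.snd f h)]
  {Ω : Type u} [Field Ω] {b : Spec (CommRingCat.of Ω) ⟶ S'}

theorem geomGood_toDown {c : PicF.Cl (PicF.XT (pullback.snd f h) (Over.mk b))} (hc : PicF.IsInvertibleCl c) :
    GeomGood f (Ω := Ω) (b := b ≫ h) (toDown f h (T := Over.mk b) c) ↔ GeomGood (pullback.snd f h) c := by
  obtain ⟨M, hMc, hM⟩ := toDown_invertible f h hc
  have hq := JacPoint.isQCoh_of_isInvertible hM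
  conv_rhs => rw [← ofDown_toDown f h c, ← hMc]
  rw [← hMc, geomGood_iff, show ofDown f h (T := Over.mk b) (PicF.cl M) = PicF.cl ((Scheme.Modules.pullback _).obj M) from rfl,
    geomGood_iff, finrank_bc f h (b := b) hq, finrank_bc f h (b := b) hq]

theorem deg_bcIso {M : (PicF.XT f (Over.mk (b ≫ h))).Modules} (hM : PicF.IsInvertible M) :
    letI := overX f (b ≫ h)
    letI := overX (pullback.snd f h) b
    Curv2.deg Ω (PicF.XT (pullback.snd f h) (Over.mk b)) ((Scheme.Modules.pullback (bcIso f h (Over.mk b)).hom).obj M) 1 =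
      Curv2.deg Ω (PicF.XT f (Over.mk (b ≫ h))) M 1 := by
  letI := overX f (b ≫ h)
  letI := overX (pullback.snd f h) b
  haveI : IsProper (PicF.XT f (Over.mk (b ≫ h)) ↘ Spec (CommRingCat.of Ω)) :=
    inferInstanceAs (IsProper (pullback.snd f _))
  haveI : IsProper (PicF.XT (pullback.snd f h) (Over.mk b) ↘ Spec (CommRingCat.of Ω)) :=
    inferInstanceAs (IsProper (pullback.snd _ _))
  haveI : Smooth f := SmoothOfRelativeDimension.smooth 1 f
  haveI : Smooth (pullback.snd f h) := SmoothOfRelativeDimension.smooth 1 (pullback.snd f h)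
  haveI : IsIntegral (PicF.XT f (Over.mk (b ≫ h))) :=
    haveI := JacDeg.geometricallyIntegral f
    isIntegral_X f _
  haveI : IsIntegral (PicF.XT (pullback.snd f h) (Over.mk b)) :=
    haveI := JacDeg.geometricallyIntegral (pullback.snd f h)
    isIntegral_X (pullback.snd f h) _
  have hf := EllLaw.dim_fibre f
  have hf' := EllLaw.dim_fibre (pullback.snd f h)
  obtain ⟨e⟩ : Nonempty ((Scheme.Modules.pullback (bcIso f h (Over.mk b)).hom).obj
      (Coh.structureModule (PicF.XT f (Over.mk (b ≫ h)))) ≅ Coh.structureModule (PicF.XT (pullback.snd f h) (Over.mk b))) :=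
    PicClLib.nonempty_pullback_structureModule (bcIso f h (Over.mk b)).hom
  have hMq : Coh.IsQCoh M := JacPoint.isQCoh_of_isInvertible hM
  have hO : Coh.IsQCoh (Coh.structureModule (PicF.XT f (Over.mk (b ≫ h)))) := QCoh.isQCoh_structureModule
  unfold Curv2.deg
  rw [CurveRR.euler_eq_h0_sub_h1 Ω (dim_X f _ hf).le hMq, CurveRR.euler_eq_h0_sub_h1 Ω (dim_X f _ hf).le hO,
    CurveRR.euler_eq_h0_sub_h1 Ω (dim_X (pullback.snd f h) _ hf').le (QCoh.isQCoh_pullback _ hMq),
    CurveRR.euler_eq_h0_sub_h1 Ω (dim_X (pullback.snd f h) _ hf').le QCoh.isQCoh_structureModule,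
    finrank_bc f h hMq, finrank_bc f h hMq, ← (CurveCohLib.hhEquiv (k := Ω) e 0).finrank_eq,
    ← (CurveCohLib.hhEquiv (k := Ω) e 1).finrank_eq, finrank_bc f h hO, finrank_bc f h hO]

theorem degAt_cl_down {M : (PicF.XT f (Over.mk (b ≫ h))).Modules} (hM : PicF.IsInvertible M)
    (t : (Over.mk b).left) :
    degAt f (Over.mk (b ≫ h)) (PicF.cl M) t = degAt (pullback.snd f h) (Over.mk b) (ofDown f h (PicF.cl M)) t := by
  rw [degAt_geom f hM]
  refine Eq.trans ?_ (degAt_geom (pullback.snd f h) (b := b)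
    (PicClLib.isInvertible_pullback (bcIso f h (Over.mk b)).hom hM) t).symm
  exact (deg_bcIso f h hM).symm

theorem degAt_toDown {T : Over S'} {c : PicF.Cl (PicF.XT (pullback.snd f h) T)} (hc : PicF.IsInvertibleCl c)
    (t : T.left) : degAt f (down h T) (toDown f h c) t = degAt (pullback.snd f h) T c t := by
  obtain ⟨Ω, _, _, σ, rfl⟩ := JacProper.exists_geomPoint t
  let a : Over.mk (σ ≫ T.hom) ⟶ T := Over.homMk σ rfl
  rw [show σ (IsLocalRing.closedPoint Ω : PrimeSpectrum Ω) = a.left (IsLocalRing.closedPoint Ω : PrimeSpectrum Ω) from rfl,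
    ← degAt_pull _ a hc]
  refine (degAt_pull f (downMap h a) (toDown_invertible f h hc) _).symm.trans ?_
  rw [← toDown_pull]
  obtain ⟨M, hMc, hM⟩ :=
    toDown_invertible f h (T := Over.mk (σ ≫ T.hom)) (PicClLib.isInvertibleCl_pullCl (PicF.XTmap (pullback.snd f h) a) hc)
  conv_rhs => rw [← ofDown_toDown f h (PicF.pullCl _ c), ← hMc]
  rw [← hMc]
  exact degAt_cl_down f h (b := σ ≫ T.hom) hM _

end BCGood

end Groth.Agent.PicCurve
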