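import Groth.Agent.S1604
import Groth.Agent.GeomField.GlobalFunctions
import Groth.Agent.PnCoh.PushNat
import Groth.Agent.EllLaw.Divisor

/-!
# The degree of the ideal of an effective divisor on a curve
-/

set_option autoImplicit false
set_option linter.style.haveILetI false
set_option backward.isDefEq.respectTransparency false
set_option backward.isDefEq.respectTransparency.types false
set_option maxHeartbeats 1000000

universe u

open CategoryTheory CategoryTheory.Limits AlgebraicGeometry TopologicalSpace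

noncomputable section

namespace Groth.Agent.PicCurve

open Groth.Agent Groth.Agent.H23

attribute [local instance] PicMul.clMonoid

/-- The rank of a finite scheme over a field is the dimension of its functions. -/
theorem finrank_apply_eq (k : Type u) [Field k] (Z : Scheme.{u}) [Z.Over (Spec (CommRingCat.of k))]
    [IsFinite (Z ↘ Spec (CommRingCat.of k))] (z : Spec (CommRingCat.of k)) :
    (Z ↘ Spec (CommRingCat.of k)).finrank z = Module.finrank k (Coh.HH Z (Coh.structureModule Z) 0) := by
  letI := GeomField.globalAlgebra k Z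
  let p := Z ↘ Spec (CommRingCat.of k)
  haveI : IsAffine Z := isAffine_of_isAffineHom p
  let φ : CommRingCat.of k ⟶ Γ(Z, ⊤) := (Scheme.ΓSpecIso (CommRingCat.of k)).inv ≫ p.appTop
  have hp : p = Z.isoSpec.hom ≫ Spec.map φ := by
    rw [Spec.map_comp, ← Category.assoc, Scheme.isoSpec_hom_naturality, Category.assoc]
    simp [Scheme.isoSpec_Spec_hom]
  haveI : IsFinite (Spec.map φ) := by
    have := (inferInstance : IsFinite (Z.isoSpec.inv ≫ p))
    rwa [hp, Iso.inv_hom_id_assoc] at this
  haveI : Module.Finite k Γ(Z, ⊤) := (IsFinite.SpecMap_iff φ).1 inferInstance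
  haveI : Flat (Spec.map φ) := Flat.SpecMap_iff.2 (RingHom.flat_algebraMap_iff.2 (inferInstanceAs (Module.Flat k Γ(Z, ⊤))))
  rw [GeomField.finrank_HH_zero k Z]
  show p.finrank z = _
  rw [hp, Scheme.Hom.finrank_comp_left_of_isIso]
  exact (Scheme.Hom.finrank_SpecMap_algebraMap k Γ(Z, ⊤) z).trans (congrFun Module.rankAtStalk_eq_finrank_of_free z)

/-- The degree of the ideal of a divisor is minus its rank. -/
theorem deg_idealMod (k : Type u) [Field k] [IsAlgClosed k] {X : Scheme.{u}} [X.Over (Spec (CommRingCat.of k))]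
    [IsProper (X ↘ Spec (CommRingCat.of k))] [Smooth (X ↘ Spec (CommRingCat.of k))] [IsIntegral X] (hdim : topologicalKrullDim X = 1)
    {J : X.IdealSheafData} (hJ : BlowUp.IsEffCartierIdeal J) (z : Spec (CommRingCat.of k)) :
    Curv2.deg k X (ClSub.idealMod J) 1 = -((J.subschemeι ≫ (X ↘ Spec (CommRingCat.of k))).finrank z : ℤ) := by
  haveI := CurveCohLib.isNoetherian_of_proper (k := k) (X := X)
  have hI := H26.IdealCl.isInvertible_idealMod hJ
  obtain ⟨L, hL, ⟨α⟩⟩ := PicInv.exists_inverse hI
  obtain ⟨hcomm⟩ : Nonempty (CohB1.tensorMod L (ClSub.idealMod J) ≅ CohB1.tensorMod (ClSub.idealMod J) L) :=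
    PicMul.cl_eq_iff.1 (by rw [PicMul.cl_tensor, PicMul.cl_tensor, mul_comm])
  have hO := InvEnd.isFinLocFreeOfRank_one (InvX.isInvertible_structureModule (X := X))
  have h1604 := S1604.result k X hdim.le J hJ L hL (show ClSub.IsInverseOf L (ClSub.idealMod J) from ⟨hcomm ≪≫ α⟩) 1
    (Coh.structureModule X) hO
  haveI := h1604.1
  obtain ⟨e⟩ : Nonempty (CohB1.tensorMod (Coh.structureModule X) L ≅ L) :=
    PicMul.cl_eq_iff.1 (by rw [PicMul.cl_tensor, ← PicMul.one_def, one_mul])
  have h2 := h1604.2
  rw [CurveRR.deg_congr k e 1, CurveDeg.deg_structureModule, Nat.cast_one, one_mul, add_zero] at h2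
  have h3 := (CurveRR.deg_congr k α 1).trans (CurveDeg.deg_structureModule k)
  rw [Pic13Lib.CurveAlgEq.deg_tensorMod hdim hI hL, h2] at h3
  letI : J.subscheme.Over (Spec (CommRingCat.of k)) := ⟨J.subschemeι ≫ (X ↘ Spec (CommRingCat.of k))⟩
  haveI : IsFinite (J.subscheme ↘ Spec (CommRingCat.of k)) := h1604.1
  obtain ⟨a⟩ := PnCoh.exists_linearEquiv_push k J.subschemeι (P := X) rfl
    (QCoh.isQCoh_structureModule (X := J.subscheme)) 0
  rw [show (J.subschemeι ≫ (X ↘ Spec (CommRingCat.of k))).finrank z =
      Module.finrank k (Coh.HH J.subscheme (Coh.structureModule J.subscheme) 0) from finrank_apply_eq k J.subscheme z,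
    a.finrank_eq]
  change Curv2.deg k X (ClSub.idealMod J) 1 = -(Module.finrank k (Coh.HH X (ClSub.quotMod J) 0) : ℤ)
  omega

end Groth.Agent.PicCurve
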