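import Groth.Agent.PicCurve.JacData
import Groth.Agent.PicTangent.JacPoint
import Groth.Agent.PicTangent.AbelEmb
import Groth.Agent.CurveFin.RelDim

/-!
# The dimension of the Jacobian
-/

set_option autoImplicit false
set_option linter.style.haveILetI false
set_option linter.unusedSectionVars false
set_option backward.isDefEq.respectTransparency false
set_option backward.isDefEq.respectTransparency.types false
set_option maxHeartbeats 1000000
set_option synthInstance.maxHeartbeats 400000

universe u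

open CategoryTheory CategoryTheory.Limits AlgebraicGeometry TopologicalSpace MonoidalCategory CartesianMonoidalCategory
open scoped CategoryTheory.MonObj

noncomputable section

namespace Groth.Agent.PicCurve

open Groth.Agent Groth.Agent.H23 Groth.Agent.PicTangent

variable {k : Type u} [Field k]

/-- A smooth variety has the dimension of its tangent space at a rational point. -/
theorem dim_eq_cotangent {J : Over (Spec (CommRingCat.of k))} [Smooth J.hom] [IsSeparated J.hom] [IsIntegral J.left]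
    (p : PicTangent.T (k := k) k ⟶ J) :
    topologicalKrullDim J.left =
      (Module.finrank (IsLocalRing.ResidueField (J.left.presheaf.stalk (Classifier.pt p)))
        (IsLocalRing.CotangentSpace (J.left.presheaf.stalk (Classifier.pt p))) : WithBot ℕ∞) := by
  let x := Classifier.pt p
  obtain ⟨U, hU, V, hV, e, n, hxV, h, -, -⟩ := Synt29.SmoothDim.exists_chart J.hom x
  have hUt : U = ⊤ := top_le_iff.1 fun z _ => by
    rw [Subsingleton.elim z (J.hom x)]; exact e hxV
  subst hUt
  let ψ := (Scheme.ΓSpecIso (CommRingCat.of k)).inv ≫ J.hom.appLE ⊤ V e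
  have h' : RingHom.IsStandardSmoothOfRelativeDimension n ψ.hom :=
    RingHom.isStandardSmoothOfRelativeDimension_respectsIso.2 _
      (Scheme.ΓSpecIso (CommRingCat.of k)).symm.commRingCatIsoToRingEquiv h
  letI := ψ.hom.toAlgebra
  haveI : Algebra.IsStandardSmoothOfRelativeDimension n k Γ(J.left, V) := h'
  haveI : Algebra.IsStandardSmooth k Γ(J.left, V) :=
    Algebra.IsStandardSmoothOfRelativeDimension.isStandardSmooth n
  haveI : Nonempty V := ⟨⟨x, hxV⟩⟩
  haveI : IsClosedImmersion p.left := by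
    haveI : IsIso (PicTangent.T (k := k) k).hom := by
      rw [show (PicTangent.T (k := k) k).hom = 𝟙 _ by
        show Spec.map (CommRingCat.ofHom (algebraMap k k)) = _
        rw [Algebra.algebraMap_self, CommRingCat.ofHom_id, Spec.map_id]
        rfl]
      infer_instance
    haveI : IsClosedImmersion (p.left ≫ J.hom) := by rw [Over.w p]; infer_instance
    exact IsClosedImmersion.of_comp p.left J.hom
  haveI : Subsingleton ↥(PicTangent.T (k := k) k).left := inferInstanceAs (Subsingleton (PrimeSpectrum k))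
  have hcl : IsClosed ({x} : Set J.left) := by
    have h2 := p.left.isClosedEmbedding.isClosedMap _ (isClosed_univ (X := (PicTangent.T (k := k) k).left))
    have hs : ({x} : Set J.left) = p.left '' Set.univ := by
      ext y
      refine ⟨fun hy => ⟨(IsLocalRing.closedPoint k : PrimeSpectrum k), trivial, hy.symm⟩, ?_⟩
      rintro ⟨z, -, rfl⟩
      exact congrArg p.left (Subsingleton.elim (α := ↥(PicTangent.T (k := k) k).left) z _)
    rw [hs]
    exact h2
  let m : PrimeSpectrum Γ(J.left, V) := hV.primeIdealOf ⟨x, hxV⟩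
  have hm : hV.fromSpec m = x := hV.fromSpec_primeIdealOf _
  haveI : m.asIdeal.IsMaximal := by
    rw [← PrimeSpectrum.isClosed_singleton_iff_isMaximal]
    have h2 := hcl.preimage hV.fromSpec.continuous
    have hs : ({m} : Set (PrimeSpectrum Γ(J.left, V))) = hV.fromSpec ⁻¹' {x} := Set.ext fun z =>
      ⟨fun hz => by rw [Set.mem_singleton_iff.1 hz]; exact hm,
        fun hz => hV.fromSpec.isOpenEmbedding.injective (hz.trans hm.symm)⟩
    rw [hs]
    exact h2
  have h1 : ringKrullDim (J.left.presheaf.stalk x) = (n : WithBot ℕ∞) := by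
    rw [← hm, VarDim.ringKrullDim_stalk_fromSpec hV m, ← PrimeSpectrum.height_eq_orderHeight,
      JacPoint.height_maximal (k := k) Γ(J.left, V) n m.asIdeal]
  haveI := GrpSchLib.isRegularLocalRing_stalk_of_smooth J.hom x
  rw [← CurveFin.ringKrullDim_affine_eq J.hom hV ⟨x, hxV⟩, SmoothDim.ringKrullDim_eq k Γ(J.left, V) n]
  exact h1.symm.trans ((IsRegularLocalRing.iff_finrank_cotangentSpace (J.left.presheaf.stalk x)).1 inferInstance).symm

variable {X : Scheme.{u}} (f : X ⟶ Spec (CommRingCat.of k)) [IsProper f]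
  [SmoothOfRelativeDimension 1 f] [GeometricallyConnected f]
  (σ : Spec (CommRingCat.of k) ⟶ X) (hσ : σ ≫ f = 𝟙 _)

/-- **The Jacobian has dimension the genus.** -/
theorem dim_jacobian {J : Over (Spec (CommRingCat.of k))} [GrpObj J] [IsProper J.hom] [Smooth J.hom]
    [GeometricallyIntegral J.hom] {ξ : PicF.Rig f σ hσ J} (hu : IsUniv0 f σ hσ ξ) :
    topologicalKrullDim J.left =
      ((letI : X.Over (Spec (CommRingCat.of k)) := ⟨f⟩; Curv2.genus k X : ℕ) : WithBot ℕ∞) := by
  letI : X.Over (Spec (CommRingCat.of k)) := ⟨f⟩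
  haveI : IsIntegral J.left := H23.MaxAbelian.isIntegral_of_geometricallyIntegral
  haveI : IsProper (X ↘ Spec (CommRingCat.of k)) := ‹IsProper f›
  haveI : Smooth f := SmoothOfRelativeDimension.smooth 1 f
  let p : PicTangent.T (k := k) k ⟶ J := 1
  obtain ⟨L, hL⟩ := PicTangent.JacPoint.isCls f σ hσ ξ hu.1 hu.2 p
  rw [dim_eq_cotangent p]
  exact congrArg (fun n : ℕ => (n : WithBot ℕ∞)) (PicTangent.Classifier.finrank_cotangent X hL)

open scoped Groth.Agent.H23.PicMul in
attribute [local instance] PicMul.clMonoid in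
/-- The group law of the universal class is the tensor product. -/
theorem isMulClass_jac {J : Over (Spec (CommRingCat.of k))} (ξ : PicF.Rig f σ hσ J) (hu : IsUniv0 f σ hσ ξ) :
    letI := jacGrpObj f σ hσ ξ hu
    IsMulClass f σ hσ ξ := by
  letI := jacGrpObj f σ hσ ξ hu
  intro T a b
  have key : cls f σ hσ ξ (μ[J]) = cls f σ hσ ξ (fst J J) * cls f σ hσ ξ (snd J J) :=
    pointsEquiv_mul f σ hσ ξ hu (T := J ⊗ J) (fst J J) (snd J J)
  rw [Hom.mul_def, ← pull_cls, key, PicMul.pullCl_mul, pull_cls, pull_cls, lift_fst, lift_snd]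

attribute [local instance] PicMul.clMonoid in
open scoped Groth.Agent.H23.PicMul in
/-- A pointed curve maps universally to an abelian variety of dimension the genus. -/
theorem exists_albanese {n : ℕ} (hg : (letI : X.Over (Spec (CommRingCat.of k)) := ⟨f⟩; Curv2.genus k X) = n)
    (hn0 : 0 < n) :
    ∃ (J : Over (Spec (CommRingCat.of k))) (_ : GrpObj J) (ξ : PicF.Rig f σ hσ J) (j : Over.mk f ⟶ J),
      IsUniv0 f σ hσ ξ ∧ IsMulClass f σ hσ ξ ∧ IsAbel f σ hσ ξ j ∧ IsProper J.hom ∧ Smooth J.hom ∧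
      GeometricallyIntegral J.hom ∧ topologicalKrullDim J.left = (n : WithBot ℕ∞) ∧ σ ≫ j.left = η[J].left ∧
      ∀ (A : Over (Spec (CommRingCat.of k))) [GrpObj A] [IsProper A.hom] [GeometricallyIntegral A.hom]
        (φ : Over.mk f ⟶ A), σ ≫ φ.left = η[A].left → ∃! χ : J ⟶ A, IsMonHom χ ∧ j ≫ χ = φ := by
  obtain ⟨J, ξ, h₁, h₂, h₃, h₄, h₅⟩ := exists_jacobian f σ hσ
  have hu : IsUniv0 f σ hσ ξ := ⟨h₄, h₅⟩
  haveI : GeometricallyIntegral J.hom := geometricallyIntegral_of_smooth J.hom
  letI := jacGrpObj f σ hσ ξ hu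
  have hm := isMulClass_jac f σ hσ ξ hu
  haveI := isCommMonObj f σ hσ hm hu
  obtain ⟨j, hj⟩ := exists_abel f σ hσ hu
  refine ⟨J, inferInstance, ξ, j, hu, hm, hj, h₁, h₂, inferInstance, ?_, ?_, fun A _ _ _ φ hφ =>
    existsUnique_factor f σ hσ hu hm hj (fiberRank_genus f n hg) hn0 A φ hφ⟩
  · rw [dim_jacobian f σ hσ hu, hg]
  · have e : (Over.homMk σ hσ : 𝟙_ (Over (Spec (CommRingCat.of k))) ⟶ Over.mk f) ≫ j = η[J] := by
      let σ' : 𝟙_ (Over (Spec (CommRingCat.of k))) ⟶ Over.mk f := Over.homMk σ hσ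
      have e0 : σ' ≫ cst f σ hσ (Over.mk f) = σ' := Over.OverMorphism.ext (by
        show σ ≫ f ≫ σ = σ
        rw [← Category.assoc, hσ, Category.id_comp])
      show σ' ≫ j = _
      rw [← e0, Category.assoc, cst_comp_abel f σ hσ hu hm hj, MonObj.comp_one, MonObj.one_eq_one]
    exact congrArg (fun m : 𝟙_ (Over (Spec (CommRingCat.of k))) ⟶ J => m.left) e

open Groth.Agent.H23.PicMul Groth.Agent.EllLaw Groth.Agent.PicTangent.JacDiff in
attribute [local instance] PicMul.clMonoid in
open scoped Groth.Agent.H23.PicMul in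
/-- The Abel map of a curve of positive genus is a closed immersion. -/
theorem isClosedImmersion_abel {J : Over (Spec (CommRingCat.of k))} [IsSeparated J.hom] {ξ : PicF.Rig f σ hσ J}
    {j : Over.mk f ⟶ J} (hj : IsAbel f σ hσ ξ j) (hg : ∀ s, 1 ≤ CohIII.fiberRank f (Coh.structureModule X) 1 s) :
    IsClosedImmersion j.left := by
  haveI : Smooth f := SmoothOfRelativeDimension.smooth 1 f
  haveI : IsProper (j.left ≫ J.hom) := by rw [Over.w j]; exact ‹IsProper f›
  haveI : IsProper j.left := IsProper.of_comp j.left J.hom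
  refine AbelEmb.isClosedImmersion_of_points j.left fun {A} _ _ _ c₁ c₂ e => ?_
  let v := c₁ ≫ f
  have hjf : j.left ≫ J.hom = f := Over.w j
  have hv : c₂ ≫ f = v := by
    show c₂ ≫ f = c₁ ≫ f
    rw [← hjf, reassoc_of% e]
  let T : Over (Spec (CommRingCat.of k)) := Over.mk v
  let a : T ⟶ Over.mk f := Over.homMk c₁ rfl
  let a' : T ⟶ Over.mk f := Over.homMk c₂ hv
  have h1 : a ≫ j = a' ≫ j := Over.OverMorphism.ext e
  have r := (isAbel_rel f σ hσ ξ hj a).symm.trans
    ((Rel.of_eq (congrArg (cls f σ hσ ξ) h1)).trans (isAbel_rel f σ hσ ξ hj a'))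
  have r2 := r.mul (Rel.refl (f := f) (T := T) (ptInv f T (cst f σ hσ T)))
  rw [δ, δ, mul_right_comm, pt_mul_ptInv, one_mul, mul_right_comm, pt_mul_ptInv, one_mul] at r2
  obtain ⟨M, hM, hMe⟩ := r2
  have hM1 : PicF.cl M = 1 := by
    rw [PicMul.one_def]
    exact JacPoint.eq_structure_of_isLocalRing (R := A) (c := PicF.cl M) ⟨M, rfl, hM⟩
  rw [hM1, PicMul.pullCl_one, mul_one] at hMe
  exact congrArg CommaMorphism.left
    (AbelSec.eq_of_pt_eq f (EllLaw.dim_fibre f) hg v a a' (AbelEmb.pt_eq_of_ptInv_eq f hMe))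

end Groth.Agent.PicCurve
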