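import Groth.Agent.PicCurve.Good
import Groth.Agent.PicCurve.DegDiv
import Groth.Agent.EllLaw.Unique
import Groth.Agent.RelCurveDiv.Flags

/-!
# Good classes come from a unique divisor
-/

set_option autoImplicit false
set_option linter.style.haveILetI false
set_option linter.unusedSectionVars false
set_option backward.isDefEq.respectTransparency false
set_option backward.isDefEq.respectTransparency.types false
set_option maxHeartbeats 1000000

universe u

open CategoryTheory CategoryTheory.Limits AlgebraicGeometry TopologicalSpace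

noncomputable section

namespace Groth.Agent.PicCurve

open Groth.Agent Groth.Agent.H23 Groth.Agent.H23.PicMul Groth.Agent.H26 Groth.Agent.Pic13Lib
  Groth.Agent.PicTangent Groth.Agent.PicTangent.JacDiff Groth.Agent.EllLaw
open scoped Groth.Agent.H23.PicMul

attribute [local instance] PicMul.clMonoid

variable {X S : Scheme.{u}} (f : X ⟶ S) [IsProper f] [SmoothOfRelativeDimension 1 f] [GeometricallyConnected f]

theorem smooth_proj (T : Over S) : SmoothOfRelativeDimension 1 (PicF.XTproj f T) :=
  RelCurveDiv.smooth_XTproj f T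

theorem isEffCartier_obj {d : ℕ} {T : Over S} (D : HilbD.Obj f d T) : BlowUp.IsEffCartierIdeal D.1 :=
  haveI := smooth_proj f T
  RelCurveDiv.isEffCartier_of_isDiv (PicF.XTproj f T) D.2

/-- The class of the ideal of a divisor. -/
def idl {d : ℕ} {T : Over S} (D : HilbD.Obj f d T) : PicF.Cl (PicF.XT f T) := PicF.cl (ClSub.idealMod D.1)

theorem idl_invertible {d : ℕ} {T : Over S} (D : HilbD.Obj f d T) : PicF.IsInvertibleCl (idl f D) :=
  ⟨_, rfl, IdealCl.isInvertible_idealMod (isEffCartier_obj f D)⟩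

theorem pull_idl {d : ℕ} {T T' : Over S} (g : T' ⟶ T) (D : HilbD.Obj f d T) (D' : HilbD.Obj f d T')
    (h : HilbD.pull f g D.1 = D'.1) : PicF.pullCl (PicF.XTmap f g) (idl f D) = idl f D' := by
  rw [HilbDLib.pull_eq_comap] at h
  obtain ⟨e⟩ := InterDiv.nonempty_pullback_idealMod (PicF.XTmap f g) _ (isEffCartier_obj f D)
    (h ▸ isEffCartier_obj f D')
  rw [h] at e
  exact PicMul.cl_eq_iff.2 ⟨e⟩

variable {n : ℕ} (hn : ∀ s : S, CohIII.fiberRank f (Coh.structureModule X) 1 s = n)

include hn in
/-- A good class has degree equal to the genus. -/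
theorem deg_of_good {Ω : Type u} [Field Ω] [IsAlgClosed Ω] {b : Spec (CommRingCat.of Ω) ⟶ S}
    {M : (PicF.XT f (Over.mk b)).Modules} (hM : PicF.IsInvertible M) (h : GeomGood f (PicF.cl M)) :
    letI := overX f b
    Curv2.deg Ω (PicF.XT f (Over.mk b)) M 1 = n := by
  letI := overX f b
  haveI : Smooth f := SmoothOfRelativeDimension.smooth 1 f
  haveI := JacDeg.geometricallyIntegral f
  let Y := PicF.XT f (Over.mk b)
  haveI : IsProper (Y ↘ Spec (CommRingCat.of Ω)) := inferInstanceAs (IsProper (pullback.snd f b))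
  haveI : Smooth (Y ↘ Spec (CommRingCat.of Ω)) := inferInstanceAs (Smooth (pullback.snd f b))
  haveI : IsIntegral Y := isIntegral_X f b
  have hY : topologicalKrullDim Y = 1 := dim_X f b (dim_fibre f)
  have hgen : Module.finrank Ω (Coh.HH Y (Coh.structureModule Y) 1) = n := (AbelSec.genus_fibre f b).trans (hn _)
  obtain ⟨h0, h1⟩ := (geomGood_iff f M).1 h
  unfold Curv2.deg
  rw [CurveRR.euler_eq_h0_sub_h1 Ω hY.le (JacPoint.isQCoh_of_isInvertible hM),
    CurveRR.euler_eq_h0_sub_h1 Ω hY.le QCoh.isQCoh_structureModule, CurveCohLib.finrank_h0_eq_one Ω Y, hgen, h0, h1]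
  push_cast
  ring

include hn in
/-- A good class is inverse to the ideal of a divisor, up to the base. -/
theorem exists_divisor {T : Over S} {N : (PicF.XT f T).Modules} (hN : PicF.IsInvertible N)
    (hd : ∀ t, GoodAt f T (PicF.cl N) t) : ∃ D : HilbD.Obj f n T, Rel f T (idl f D * PicF.cl N) 1 := by
  let h := PicF.XTproj f T
  let Y := PicF.XT f T
  haveI : Smooth f := SmoothOfRelativeDimension.smooth 1 f
  haveI := smoothOfRelativeDimension_isStableUnderBaseChange (n := 1)
  haveI : SmoothOfRelativeDimension 1 h := MorphismProperty.pullback_snd _ _ inferInstance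
  haveI : IsProper h := MorphismProperty.pullback_snd _ _ inferInstance
  haveI : Smooth h := MorphismProperty.pullback_snd _ _ inferInstance
  haveI : GeometricallyConnected h := MorphismProperty.pullback_snd _ _ inferInstance
  haveI := JacDeg.geometricallyIntegral h
  obtain ⟨hG, hc⟩ := pushforward_good f hN hd
  let G := (Scheme.Modules.pushforward h).obj N
  let A := (Scheme.Modules.pullback h).obj G
  let c : A ⟶ N := (Scheme.Modules.pullbackPushforwardAdjunction h).counit.app N
  have hA : PicF.IsInvertible A := PicClLib.isInvertible_pullback h hG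
  obtain ⟨B, hB, ⟨α⟩⟩ := PicInv.exists_inverse hA
  let N' := CohB1.tensorMod N B
  have hN' : PicF.IsInvertible N' := PicMul.isInvertible_tensor hN hB
  let s : Coh.structureModule Y ⟶ N' := α.inv ≫ (AmpleVan.tw B).map c
  let I := PicF2.zeroScheme N' s
  have hloc : ModPairLib.IsLocPrincipal I := fun x => by
    obtain ⟨W, hxW, e, he⟩ := InvX.exists_frame hN' x
    obtain ⟨U, hU, hxU, hUW⟩ := exists_isAffineOpen_mem_and_subset hxW
    have hUW' : U ≤ W := hUW
    obtain ⟨a, ha⟩ := (he.res hUW').exists_coord le_rfl (ZeroSchX.sv s U)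
    rw [AModX.res_self] at ha
    exact ⟨⟨U, hU⟩, hxU, a,
      (ZeroSchX.ideal_zeroScheme hN' s ⟨U, hU⟩).trans (ZeroSchX.zeroIdealOn_eq_span s (he.res hUW') ha)⟩
  have hfib : ∀ t : T.left, BlowUp.IsEffCartierIdeal (I.comap (h.fiberι t)) := fun t => by
    haveI : IsIntegral (h.fiber t) := GeometricallyIntegral.geometrically_isIntegral (f := h) _ _ _
      (IsPullback.of_hasPullback h (T.left.fromSpecResidueField t))
    obtain ⟨y, U, g, hyU, hgA, hgN⟩ := EllLaw.exists_frame_of_pullback_ne_zero (h.fiberι t) hA hN c (hc t)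
    obtain ⟨V, hyV, hV⟩ := EllLaw.exists_isFrame_sv hB c α hgA hgN hyU
    refine EllLaw.isEffCartier_of_integral (hloc.comap _) (x := y) ?_
    rw [← SetLike.mem_coe, Scheme.IdealSheafData.support_comap]
    exact Pic13Lib.not_mem_support_of_isFrame hN' s hyV hV
  obtain ⟨hI, hfl⟩ := MeroX.isEffCartier_flat_of_fibres (f := h)
    (fun x _ => hloc x) hfib
  haveI := EllLaw.mono_of_isEffCartier hN' s hI
  obtain ⟨e₀⟩ := Pic13Lib.nonempty_idealMod_zeroScheme hN' s
  have hcl : PicF.cl N * PicF.cl B * PicF.cl (ClSub.idealMod I) = 1 := by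
    rw [← PicMul.cl_tensor, ← PicMul.cl_tensor, PicMul.one_def]
    exact PicMul.cl_eq_iff.2 ⟨e₀⟩
  have hAB : PicF.pullCl h (PicF.cl G) * PicF.cl B = 1 := by
    show PicF.cl A * PicF.cl B = 1
    rw [← PicMul.cl_tensor, PicMul.one_def]
    exact PicMul.cl_eq_iff.2 ⟨α⟩
  have hrel : PicF.cl (ClSub.idealMod I) * PicF.cl N = PicF.pullCl h (PicF.cl G) := by
    calc PicF.cl (ClSub.idealMod I) * PicF.cl N
        = PicF.cl (ClSub.idealMod I) * PicF.cl N * (PicF.pullCl h (PicF.cl G) * PicF.cl B) := by rw [hAB, mul_one]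
      _ = (PicF.cl N * PicF.cl B * PicF.cl (ClSub.idealMod I)) * PicF.pullCl h (PicF.cl G) := by ac_rfl
      _ = _ := by rw [hcl, one_mul]
  let ζ := I.subschemeι ≫ h
  haveI := hfl
  obtain ⟨hqf, hfp⟩ := RelCurveDiv.quasiFinite_fp_of_isEffCartier h I hI hfl
  haveI : IsFinite ζ := IsFinite.of_isProper_of_locallyQuasiFinite ζ
  have hrank : ∀ t : T.left, ζ.finrank t = n := fun t => by
    obtain ⟨Ω, _, _, σ, rfl⟩ := JacProper.exists_geomPoint t
    letI := overX f (σ ≫ T.hom)
    let XΩ := PicF.XT f (Over.mk (σ ≫ T.hom))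
    haveI : IsProper (XΩ ↘ Spec (CommRingCat.of Ω)) := inferInstanceAs (IsProper (pullback.snd f _))
    haveI : Smooth (XΩ ↘ Spec (CommRingCat.of Ω)) := inferInstanceAs (Smooth (pullback.snd f _))
    haveI := JacDeg.geometricallyIntegral f
    haveI : IsIntegral XΩ := isIntegral_X f (σ ≫ T.hom)
    have hX : topologicalKrullDim XΩ = 1 := dim_X f (σ ≫ T.hom) (EllLaw.dim_fibre f)
    let q := geomMap f σ
    let J := I.comap q
    have sq := isPullback_geomMap f σ
    have hJ : BlowUp.IsEffCartierIdeal J := by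
      have h1 := BlowUpLib.isEffCartier_comap_flat sq.isoPullback.hom
        (MeroX.isEffCartier_baseChange h I hI σ)
      rw [← Scheme.IdealSheafData.comap_comp, sq.isoPullback_hom_fst] at h1
      exact h1
    obtain ⟨eJ⟩ := InterDiv.nonempty_pullback_idealMod q I hI hJ
    have hNq := PicClLib.isInvertible_pullback q hN
    have h1 : PicF.cl (ClSub.idealMod J) * PicF.cl ((Scheme.Modules.pullback q).obj N) = 1 := by
      rw [← PicMul.cl_eq_iff.2 ⟨eJ⟩]
      show PicF.pullCl q (PicF.cl _) * PicF.pullCl q (PicF.cl N) = 1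
      rw [← PicMul.pullCl_mul, hrel]
      exact pull_fromBase f hG σ
    rw [← PicMul.cl_tensor, PicMul.one_def] at h1
    obtain ⟨e1⟩ := PicMul.cl_eq_iff.1 h1
    have hdN : Curv2.deg Ω XΩ ((Scheme.Modules.pullback q).obj N) 1 = n :=
      deg_of_good f hn hNq ((goodAt_iff_geom f ⟨N, rfl, hN⟩ (Over.homMk σ rfl : Over.mk (σ ≫ T.hom) ⟶ T)).1 (hd _))
    have h2 := (CurveRR.deg_congr Ω e1 1).trans (CurveDeg.deg_structureModule Ω)
    rw [Pic13Lib.CurveAlgEq.deg_tensorMod hX (IdealCl.isInvertible_idealMod hJ) hNq, hdN,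
      deg_idealMod Ω hX hJ (IsLocalRing.closedPoint Ω : PrimeSpectrum Ω)] at h2
    have h3 : (J.subschemeι ≫ PicF.XTproj f (Over.mk (σ ≫ T.hom))).finrank
        (IsLocalRing.closedPoint Ω : PrimeSpectrum Ω) = n := by
      change -((J.subschemeι ≫ PicF.XTproj f (Over.mk (σ ≫ T.hom))).finrank
        (IsLocalRing.closedPoint Ω : PrimeSpectrum Ω) : ℤ) + (n : ℤ) = 0 at h2
      omega
    have sq' := (IsPullback.of_hasPullback q I.subschemeι).flip.paste_vert sq
    let P := pullback.fst q I.subschemeι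
    have hker : J = P.ker := by
      rw [Scheme.IdealSheafData.ker_fst_of_isClosedImmersion, Scheme.IdealSheafData.ker_subschemeι]
    rw [hker, show P.ker.subschemeι = inv P.toImage ≫ P by
      rw [IsIso.eq_inv_comp]; exact Scheme.Hom.toImage_imageι P, Category.assoc] at h3
    haveI : Flat (P ≫ PicF.XTproj f (Over.mk (σ ≫ T.hom))) := MorphismProperty.of_isPullback sq' hfl
    haveI : IsFinite (P ≫ PicF.XTproj f (Over.mk (σ ≫ T.hom))) := MorphismProperty.of_isPullback sq' ‹IsFinite ζ›
    rw [Scheme.Hom.finrank_comp_left_of_isIso] at h3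
    exact (Scheme.Hom.finrank_of_isPullback _ _ ζ σ sq' _).symm.trans h3
  exact ⟨⟨I, ⟨inferInstance, hfl, hfp⟩, hrank⟩, G, hG, by rw [one_mul]; exact hrel⟩

/-- Divisors with isomorphic ideals coincide when the inverse is good. -/
theorem eq_of_idl_eq {T : Over S} (D D' : HilbD.Obj f n T) (heq : idl f D = idl f D')
    (hgood : ∀ (N : (PicF.XT f T).Modules), PicF.IsInvertible N → idl f D * PicF.cl N = 1 →
      ∀ t, GoodAt f T (PicF.cl N) t) : D = D' := by
  let Y := PicF.XT f T
  let h := PicF.XTproj f T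
  haveI : Smooth f := SmoothOfRelativeDimension.smooth 1 f
  haveI : IsProper h := MorphismProperty.pullback_snd _ _ inferInstance
  let Ia := D.1
  let Ib := D'.1
  obtain ⟨θ⟩ : Nonempty (ClSub.idealMod Ia ≅ ClSub.idealMod Ib) := PicMul.cl_eq_iff.1 heq
  have hIa := IdealCl.isInvertible_idealMod (isEffCartier_obj f D)
  let J := (PicInv.exists_inverse hIa).choose
  obtain ⟨hJ, ⟨α⟩⟩ := (PicInv.exists_inverse hIa).choose_spec
  haveI : (AmpleVan.tw J).IsEquivalence := AmpleVan.isEquivalence_tw hJ
  let N : Y.Modules := (AmpleVan.tw J).obj (Coh.structureModule Y)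
  have hN : PicF.IsInvertible N := PicMul.isInvertible_tensor InvX.isInvertible_structureModule hJ
  obtain ⟨hG, -⟩ := pushforward_good f hN (hgood N hN (by
    rw [show PicF.cl N = PicF.cl (Coh.structureModule (PicF.XT f T)) * PicF.cl J from PicMul.cl_tensor _ _,
      ← PicMul.one_def, one_mul, show idl f D = PicF.cl (ClSub.idealMod Ia) from rfl, ← PicMul.cl_tensor, PicMul.one_def]
    exact PicMul.cl_eq_iff.2 ⟨α⟩))
  let sg : Coh.structureModule Y ⟶ N := α.inv ≫ (AmpleVan.tw J).map (ClSub.idealModι Ia)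
  let sh : Coh.structureModule Y ⟶ N := α.inv ≫ (AmpleVan.tw J).map (θ.hom ≫ ClSub.idealModι Ib)
  have hsg : ∀ t : T.left, (Scheme.Modules.pullback (h.fiberι t)).map sg ≠ 0 := fun t => by
    obtain ⟨y, hy⟩ : ∃ y, h.fiberι t y ∉ Ia.support := by
      by_contra! hall
      haveI : IsFinite (Ia.subschemeι ≫ h) := D.2.1.1
      have hfin : ((h.fiberι t) ⁻¹' (Ia.support : Set (PicF.XT f T))).Finite := by
        refine (((Ia.subschemeι ≫ h).finite_preimage_singleton t).image Ia.subschemeι).preimage
          (h.fiberι t).isEmbedding.injective.injOn |>.subset ?_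
        intro y hy
        obtain ⟨z, hz⟩ := Ia.range_subschemeι.symm.subset hy
        refine ⟨z, ?_, hz⟩
        show (Ia.subschemeι ≫ h) z = t
        rw [Scheme.Hom.comp_apply, hz]
        exact (h.range_fiberι t).subset ⟨y, rfl⟩
      haveI : Finite ↥(h.fiber t) := Set.finite_univ_iff.1 (hfin.subset fun y _ => hall y)
      haveI : SmoothOfRelativeDimension 1 h := smooth_proj f T
      haveI : GeometricallyConnected h := MorphismProperty.pullback_snd _ _ inferInstance
      haveI : JacobsonSpace ↥(h.fiber t) := LocallyOfFiniteType.jacobsonSpace (h.fiberToSpecResidueField t)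
      have h3 := (EllLaw.dim_fibre h t).symm.le.trans (topologicalKrullDim_zero_of_discreteTopology ↥(h.fiber t))
      norm_num at h3
    obtain ⟨U₀, hyU₀, e₀, he₀⟩ := InvX.exists_frame hIa (h.fiberι t y)
    obtain ⟨U, hU, hyU, hUU⟩ := exists_isAffineOpen_mem_and_subset
      (show h.fiberι t y ∈ U₀ ⊓ Ia.support.compl from ⟨hyU₀, hy⟩)
    have hUU' : U ≤ U₀ := fun z hz => (hUU hz).1
    let e := AModX.res (ClSub.idealMod Ia) hUU' e₀
    have htop : Ia.ideal ⟨U, hU⟩ = ⊤ := BlowUpX.ideal_eq_top_of_disjoint Ia ⟨U, hU⟩ fun z hz => (hUU hz).2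
    have hu : IsUnit (OmegaSh.idealSect Ia U e) := by
      obtain ⟨k, hk⟩ := OmegaLib.exists_of_mem Ia ⟨U, hU⟩ 1 (htop ▸ Submodule.mem_top)
      obtain ⟨r, hr⟩ := (he₀.res hUU').exists_coord le_rfl k
      rw [AModX.res_self] at hr
      rw [hr, OmegaLib.idealSect_smul, mul_comm] at hk
      exact IsUnit.of_mul_eq_one r hk
    have he : InvX.IsFrame ((ClSub.idealModι Ia).app U e) := by
      have h1 := (InvX.isFrame_one (X := Y) U).isUnit_smul hu
      have h2 : (ClSub.idealModι Ia).app U e =
          OmegaSh.idealSect Ia U e • (show Γ(Coh.structureModule Y, U) from (1 : Γ(Y, U))) :=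
        (mul_one (show Γ(Y, U) from OmegaSh.idealSect Ia U e)).symm
      rw [h2]
      exact h1
    obtain ⟨V, hyV, hV⟩ := exists_isFrame_sv hJ (ClSub.idealModι Ia) α (he₀.res hUU') he hyU
    exact pullback_ne_zero_of_frame (h.fiberι t) sg
      (g := (show Γ(Coh.structureModule Y, V) from (1 : Γ(Y, V)))) hV hyV
  -- its adjoint is an isomorphism
  let G := (Scheme.Modules.pushforward h).obj N
  let adj := Scheme.Modules.pullbackPushforwardAdjunction h
  obtain ⟨u⟩ := PicClLib.nonempty_pullback_structureModule h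
  let tg : Coh.structureModule T.left ⟶ G := adj.homEquiv _ _ (u.hom ≫ sg)
  let th : Coh.structureModule T.left ⟶ G := adj.homEquiv _ _ (u.hom ≫ sh)
  have htg : (Scheme.Modules.pullback h).map tg ≫ adj.counit.app N = u.hom ≫ sg := by
    refine (Adjunction.homEquiv_counit adj _ _ _).symm.trans ?_
    exact (adj.homEquiv _ _).symm_apply_apply _
  have hth : (Scheme.Modules.pullback h).map th ≫ adj.counit.app N = u.hom ≫ sh := by
    refine (Adjunction.homEquiv_counit adj _ _ _).symm.trans ?_
    exact (adj.homEquiv _ _).symm_apply_apply _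
  haveI : IsIso tg := by
    refine DivX.isIso_of_frames tg fun t => ?_
    have hne : (Scheme.Modules.pullback (T.left.fromSpecResidueField t)).map tg ≠ 0 := by
      intro h0
      refine hsg t ?_
      have h3 : (Scheme.Modules.pullback (h.fiberToSpecResidueField t ≫ T.left.fromSpecResidueField t)).map tg = 0 :=
        map_eq_zero_of_iso (Scheme.Modules.pullbackComp _ _).symm tg
          ((congrArg (Scheme.Modules.pullback (h.fiberToSpecResidueField t)).map h0).trans (Functor.map_zero _ _ _))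
      have h1 : (Scheme.Modules.pullback (h.fiberι t)).map ((Scheme.Modules.pullback h).map tg) = 0 :=
        map_eq_zero_of_iso (Scheme.Modules.pullbackComp (h.fiberι t) h) tg
          (map_eq_zero_of_iso (Scheme.Modules.pullbackCongr (h.fiber_fac t)) tg h3)
      have h4 : (Scheme.Modules.pullback (h.fiberι t)).map (u.hom ≫ sg) = 0 := by
        rw [← htg, Functor.map_comp, h1, zero_comp]
      rw [Functor.map_comp] at h4
      exact (cancel_epi _).1 (h4.trans comp_zero.symm)
    haveI : IsReduced (Spec (T.left.residueField t)) := inferInstance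
    obtain ⟨y, U, g, hyU, hgO, hgG⟩ := exists_frame_of_pullback_ne_zero (T.left.fromSpecResidueField t)
      InvX.isInvertible_structureModule hG tg hne
    rw [Scheme.fromSpecResidueField_apply] at hyU
    exact ⟨U, hyU, g, hgO, hgG⟩
  let ρ : Coh.structureModule Y ⟶ Coh.structureModule Y :=
    u.inv ≫ (Scheme.Modules.pullback h).map (th ≫ inv tg) ≫ u.hom
  have hsh : sh = ρ ≫ sg := by
    rw [← cancel_epi u.hom, ← hth]
    simp only [ρ, Category.assoc, Iso.hom_inv_id_assoc]
    rw [← htg, ← Category.assoc ((Scheme.Modules.pullback h).map _), ← Functor.map_comp, Category.assoc,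
      IsIso.inv_hom_id, Category.comp_id]
  obtain ⟨ψ, hψ⟩ := (AmpleVan.tw J).map_surjective
    ((α.hom ≫ ρ ≫ α.inv : (AmpleVan.tw J).obj (ClSub.idealMod Ia) ⟶ (AmpleVan.tw J).obj (ClSub.idealMod Ia)))
  have hfac : θ.hom ≫ ClSub.idealModι Ib = ψ ≫ ClSub.idealModι Ia := by
    refine (AmpleVan.tw J).map_injective ?_
    rw [Functor.map_comp (AmpleVan.tw J) ψ, hψ]
    refine (cancel_epi α.inv).1 ?_
    simpa only [sh, sg, Category.assoc, Iso.inv_hom_id_assoc] using hsh
  have hq : ClSub.idealModι Ib ≫ ClSub.toSubscheme Ia = 0 := by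
    refine (cancel_epi θ.hom).1 ?_
    rw [← Category.assoc, hfac, Category.assoc, comp_zero]
    exact (congrArg (ψ ≫ ·) (kernel.condition _)).trans comp_zero
  have hle : Ib ≤ Ia := AbelSec.le_of_comp_toSubscheme hq
  haveI := smooth_proj f T
  exact Subtype.ext (RelCurveDiv.eq_of_le_of_isDiv (PicF.XTproj f T) D'.2 D.2 hle).symm

end Groth.Agent.PicCurve
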