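import Groth.Agent.EllLaw.Fibre
import Groth.Agent.EllLaw.Divisor
import Groth.Agent.CohPullX.Semicont

/-!
# Classes with one section and no higher cohomology on a fibre
-/

set_option autoImplicit false
set_option linter.style.haveILetI false
set_option linter.unusedSectionVars false
set_option backward.isDefEq.respectTransparency false
set_option backward.isDefEq.respectTransparency.types false
set_option maxHeartbeats 1000000

universe u

open CategoryTheory CategoryTheory.Limits AlgebraicGeometry TopologicalSpace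

noncomputable section

namespace Groth.Agent.PicCurve

open Groth.Agent Groth.Agent.H23 Groth.Agent.H23.PicMul Groth.Agent.H26 Groth.Agent.Pic13Lib
  Groth.Agent.PicTangent Groth.Agent.PicTangent.JacDiff
open scoped Groth.Agent.H23.PicMul

attribute [local instance] PicMul.clMonoid

variable {X S : Scheme.{u}} (f : X ⟶ S) [IsProper f] [SmoothOfRelativeDimension 1 f] [GeometricallyConnected f]

/-- Fibre ranks at the point of a geometric point. -/
theorem rank_geom {T : Over S} {M : (PicF.XT f T).Modules} (hM : Coh.IsQCoh M) (i : ℕ) {Ω : Type u} [Field Ω]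
    {b : Spec (CommRingCat.of Ω) ⟶ S} (a : Over.mk b ⟶ T) :
    letI := overX f b
    Module.finrank Ω (Coh.HH (PicF.XT f (Over.mk b)) ((Scheme.Modules.pullback (PicF.XTmap f a)).obj M) i) =
      CohIII.fiberRank (PicF.XTproj f T) M i (a.left (IsLocalRing.closedPoint Ω : PrimeSpectrum Ω)) := by
  obtain ⟨a, -, w⟩ := a
  simp only [Functor.id_map, Over.mk_left, Over.mk_hom] at a w
  obtain rfl : a ≫ T.hom = b := by simpa using w
  exact EllLaw.fiberRank_geom f a hM i

/-- One section and no first cohomology on the fibre at a point. -/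
def GoodAt (T : Over S) (c : PicF.Cl (PicF.XT f T)) (t : T.left) : Prop :=
  ∃ M : (PicF.XT f T).Modules, PicF.cl M = c ∧ PicF.IsInvertible M ∧
    CohIII.fiberRank (PicF.XTproj f T) M 0 t = 1 ∧ CohIII.fiberRank (PicF.XTproj f T) M 1 t = 0

variable {T : Over S} {c : PicF.Cl (PicF.XT f T)}

/-- The test for geometric points. -/
def GeomGood {Ω : Type u} [Field Ω] {b : Spec (CommRingCat.of Ω) ⟶ S}
    (c : PicF.Cl (PicF.XT f (Over.mk b))) : Prop :=
  letI := overX f b
  ∃ M : (PicF.XT f (Over.mk b)).Modules, PicF.cl M = c ∧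
    Module.finrank Ω (Coh.HH (PicF.XT f (Over.mk b)) M 0) = 1 ∧
    Module.finrank Ω (Coh.HH (PicF.XT f (Over.mk b)) M 1) = 0

theorem geomGood_iff {Ω : Type u} [Field Ω] {b : Spec (CommRingCat.of Ω) ⟶ S}
    (M : (PicF.XT f (Over.mk b)).Modules) :
    GeomGood f (PicF.cl M) ↔ letI := overX f b
      Module.finrank Ω (Coh.HH (PicF.XT f (Over.mk b)) M 0) = 1 ∧
      Module.finrank Ω (Coh.HH (PicF.XT f (Over.mk b)) M 1) = 0 := by
  letI := overX f b
  refine ⟨fun ⟨N, hN, h0, h1⟩ => ?_, fun h => ⟨M, rfl, h⟩⟩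
  obtain ⟨e⟩ := PicMul.cl_eq_iff.1 hN
  rw [(CurveCohLib.hhEquiv (k := Ω) e 0).finrank_eq] at h0
  rw [(CurveCohLib.hhEquiv (k := Ω) e 1).finrank_eq] at h1
  exact ⟨h0, h1⟩

theorem goodAt_iff_geom (hc : PicF.IsInvertibleCl c) {Ω : Type u} [Field Ω]
    {b : Spec (CommRingCat.of Ω) ⟶ S} (a : Over.mk b ⟶ T) :
    GoodAt f T c (a.left (IsLocalRing.closedPoint Ω : PrimeSpectrum Ω)) ↔
      GeomGood f (PicF.pullCl (PicF.XTmap f a) c) := by
  constructor
  · rintro ⟨M, rfl, hM, h0, h1⟩
    refine (geomGood_iff f _).2 ⟨?_, ?_⟩ <;> rw [rank_geom f (JacPoint.isQCoh_of_isInvertible hM)]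
    exacts [h0, h1]
  · obtain ⟨M, rfl, hM⟩ := hc
    intro h
    obtain ⟨h0, h1⟩ := (geomGood_iff f _).1 h
    rw [rank_geom f (JacPoint.isQCoh_of_isInvertible hM)] at h0 h1
    exact ⟨M, rfl, hM, h0, h1⟩

theorem goodAt_pull {T' : Over S} (g : T' ⟶ T) (hc : PicF.IsInvertibleCl c) (t : T'.left) :
    GoodAt f T' (PicF.pullCl (PicF.XTmap f g) c) t ↔ GoodAt f T c (g.left t) := by
  obtain ⟨Ω, _, _, σ, rfl⟩ := JacProper.exists_geomPoint t
  let a : Over.mk (σ ≫ T'.hom) ⟶ T' := Over.homMk σ rfl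
  rw [show σ (IsLocalRing.closedPoint Ω : PrimeSpectrum Ω) = a.left (IsLocalRing.closedPoint Ω : PrimeSpectrum Ω) from rfl,
    goodAt_iff_geom f (PicClLib.isInvertibleCl_pullCl _ hc), ← Scheme.Hom.comp_apply,
    ← Over.comp_left, goodAt_iff_geom f hc, PicClLib.XTmap_comp, PicClLib.pullCl_comp]

theorem GoodAt.congr_rel {c' : PicF.Cl (PicF.XT f T)} (h : EllLaw.Rel f T c' c) {t : T.left}
    (hc : GoodAt f T c t) : GoodAt f T c' t := by
  obtain ⟨B, hB, rfl⟩ := h
  obtain ⟨Ω, _, _, σ, rfl⟩ := JacProper.exists_geomPoint t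
  let a : Over.mk (σ ≫ T.hom) ⟶ T := Over.homMk σ rfl
  have hci : PicF.IsInvertibleCl c := ⟨hc.choose, hc.choose_spec.1, hc.choose_spec.2.1⟩
  refine (goodAt_iff_geom f (PicMul.isInvertibleCl_mul hci
    (PicClLib.isInvertibleCl_pullCl _ ⟨B, rfl, hB⟩)) a).2 ?_
  rw [PicMul.pullCl_mul]
  erw [EllLaw.pull_fromBase f hB σ]
  rw [mul_one]
  exact (goodAt_iff_geom f hci a).1 hc

theorem fibre_h1 {M : (PicF.XT f T).Modules} (hM : PicF.IsInvertible M) {t : T.left}
    (h : CohIII.fiberRank (PicF.XTproj f T) M 1 t = 0) :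
    Subsingleton (CohIII.fiberH (PicF.XTproj f T) M t 1) := by
  let h' := PicF.XTproj f T
  haveI : IsProper h' := MorphismProperty.pullback_snd _ _ inferInstance
  letI : (h'.fiber t).Over (Spec (CommRingCat.of (T.left.residueField t))) := ⟨h'.fiberToSpecResidueField t⟩
  haveI : IsProper (h'.fiber t ↘ Spec (CommRingCat.of (T.left.residueField t))) :=
    inferInstanceAs (IsProper (pullback.snd h' (T.left.fromSpecResidueField t)))
  haveI := CurveCohLib.isNoetherian_of_proper (k := T.left.residueField t) (X := h'.fiber t)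
  haveI : Module.Finite (T.left.residueField t) (CohIII.fiberH h' M t 1) :=
    CurveCohLib.finite_HH (k := T.left.residueField t)
      (CurveDeg.isCoh_of_isInvertible (PicClLib.isInvertible_pullback (h'.fiberι t) hM)) 1
  exact Module.finrank_zero_iff.1 h

/-- Being good is open. -/
theorem isOpen_goodAt : IsOpen {t : T.left | GoodAt f T c t} := by
  rw [isOpen_iff_forall_mem_open]
  rintro t ⟨M, rfl, hM, h0, h1⟩
  let h := PicF.XTproj f T
  let Y := PicF.XT f T
  haveI : Smooth f := SmoothOfRelativeDimension.smooth 1 f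
  haveI : IsProper h := MorphismProperty.pullback_snd _ _ inferInstance
  haveI : Smooth h := MorphismProperty.pullback_snd _ _ inferInstance
  haveI : HasInjectiveResolutions Y.Modules := KFlatLib.hasInjectiveResolutions_modules
  have hlf : FlatMod.IsFinLocFree M := fun x => (SeesawX.isFinLocFreeOfRank_one hM x).elim fun U e => ⟨U, 1, e⟩
  have hfp := QCoh.isFP_of_isFinLocFree hlf
  have hfl : FlatMod.IsFlatOver h M := H23.Seesaw.isFlatOver_of_isInvertible h hM
  have hs := fibre_h1 f hM h1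
  obtain ⟨U₁, ht₁, hU₁⟩ := CohPullX.exists_subsingleton_fiberH_nhd hfp hfl t 1 hs
  obtain ⟨_, ⟨V, hV, rfl⟩, ht, -⟩ :=
    T.left.isBasis_affineOpens.exists_subset_of_mem_open (Set.mem_univ t) isOpen_univ
  have hV' : IsAffineOpen V := hV
  obtain ⟨A₀, _, hA, φ, P, hP⟩ := CohPullX.exists_isFpModel hfp hfl hV'
  haveI := hA
  obtain ⟨U₀, ht₀, hU₀⟩ := hP.exists_rank_nhd 0 ht
    (hP.isExactT_of_neighbours 0 ht hs (fun j hj => by omega))
  refine ⟨(U₀ ⊓ U₁ : T.left.Opens), fun z hz => ⟨M, rfl, hM, (hU₀ z hz.1).trans h0, ?_⟩,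
    (U₀ ⊓ U₁).2, ⟨ht₀, ht₁⟩⟩
  haveI := hU₁ z hz.2
  exact Module.finrank_zero_of_subsingleton

/-- The good locus. -/
def goodLocus (T : Over S) (c : PicF.Cl (PicF.XT f T)) : T.left.Opens :=
  ⟨{t | GoodAt f T c t}, isOpen_goodAt f⟩

theorem mem_goodLocus (t : T.left) : t ∈ goodLocus f T c ↔ GoodAt f T c t := Iff.rfl

theorem fibre_cohom {N : (PicF.XT f T).Modules} (hd : ∀ t, GoodAt f T (PicF.cl N) t) (hN : PicF.IsInvertible N)
    (t : T.left) : CohIII.fiberRank (PicF.XTproj f T) N 0 t = 1 ∧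
      Subsingleton (CohIII.fiberH (PicF.XTproj f T) N t 1) := by
  obtain ⟨Ω, _, _, σ, rfl⟩ := JacProper.exists_geomPoint t
  let a : Over.mk (σ ≫ T.hom) ⟶ T := Over.homMk σ rfl
  obtain ⟨g0, g1⟩ := (geomGood_iff f _).1 ((goodAt_iff_geom f ⟨N, rfl, hN⟩ a).1 (hd _))
  rw [rank_geom f (JacPoint.isQCoh_of_isInvertible hN)] at g0 g1
  exact ⟨g0, fibre_h1 f hN g1⟩

/-- The direct image of a good module is invertible and evaluation is nowhere zero. -/
theorem pushforward_good {N : (PicF.XT f T).Modules} (hN : PicF.IsInvertible N)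
    (hd : ∀ t, GoodAt f T (PicF.cl N) t) :
    PicF.IsInvertible ((Scheme.Modules.pushforward (PicF.XTproj f T)).obj N) ∧
      ∀ t : T.left, (Scheme.Modules.pullback ((PicF.XTproj f T).fiberι t)).map
        ((Scheme.Modules.pullbackPushforwardAdjunction (PicF.XTproj f T)).counit.app N) ≠ 0 := by
  let h := PicF.XTproj f T
  let Y := PicF.XT f T
  haveI : Smooth f := SmoothOfRelativeDimension.smooth 1 f
  haveI : IsProper h := MorphismProperty.pullback_snd _ _ inferInstance
  haveI : Smooth h := MorphismProperty.pullback_snd _ _ inferInstance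
  haveI : HasInjectiveResolutions Y.Modules := KFlatLib.hasInjectiveResolutions_modules
  haveI := SpObjSS.enoughInjectives_of_hasInjectiveResolutions (C := Y.Modules)
  haveI := QCoh.preservesFiniteLimits_push h
  have hlf : FlatMod.IsFinLocFree N := fun x => (SeesawX.isFinLocFreeOfRank_one hN x).elim fun U e => ⟨U, 1, e⟩
  have hfp := QCoh.isFP_of_isFinLocFree hlf
  have hfl : FlatMod.IsFlatOver h N := H23.Seesaw.isFlatOver_of_isInvertible h hN
  have hq := QCoh.isQCoh_of_isFP hfp
  let G := (Scheme.Modules.pushforward h).obj N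
  let i : (Coh.Rpush h 0).obj N ≅ G := (Scheme.Modules.pushforward h).rightDerivedZeroIsoSelf.app _
  have key := fibre_cohom f hd hN
  choose V hV e using fun t => CohPullX.exists_free_of_neighbours hfp hfl t 0 (key t).2 (fun j hj => by omega)
  have hG1 : FlatMod.IsFinLocFreeOfRank 1 G := fun t => ⟨V t, hV t,
    ⟨(Scheme.Modules.restrictFunctor (V t).ι).mapIso i.symm ≪≫ (e t).some ≪≫ eqToIso (by rw [(key t).1])⟩⟩
  refine ⟨SeesawX.isInvertible_of_rank_one hG1, fun t hzero => ?_⟩
  obtain ⟨W, hW, hk⟩ := CohPullX.exists_kerBC_nhd_of_H1_zero hfp hfl t (key t).2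
  haveI : IsIso (CohBC.bc0 h (T.left.fromSpecResidueField t) (h.fiberToSpecResidueField t) (h.fiberι t) (h.fiber_fac t) N) :=
    CohPullX.isIso_bc0_of_hasKerBC (IsPullback.of_hasPullback h (T.left.fromSpecResidueField t)) hq
      fun z => ⟨W, by rw [Scheme.fromSpecResidueField_apply]; exact hW, hk⟩
  rw [SeesawX.counit_baseChange h (T.left.fromSpecResidueField t) (h.fiberToSpecResidueField t) (h.fiberι t)
    (h.fiber_fac t) N] at hzero
  let π := h.fiberToSpecResidueField t
  let Nt := (Scheme.Modules.pullback (h.fiberι t)).obj N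
  let ε := (Scheme.Modules.pullbackPushforwardAdjunction π).counit.app Nt
  have hε : ε = 0 := by
    rw [← Category.assoc] at hzero
    exact (cancel_epi _).1 (hzero.trans comp_zero.symm)
  have hid : 𝟙 ((Scheme.Modules.pushforward π).obj Nt) = 0 := by
    rw [← (Scheme.Modules.pullbackPushforwardAdjunction π).right_triangle_components Nt]
    show _ ≫ (Scheme.Modules.pushforward π).map ε = 0
    haveI : (Scheme.Modules.pushforward π).PreservesZeroMorphisms := inferInstance
    rw [hε, Functor.map_zero, comp_zero]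
  haveI : Subsingleton (CohIII.fiberH h N t 0) :=
    subsingleton_of_forall_eq 0 fun v => (Sheaf.H.equiv₀ (Coh.toAb Nt) isTerminalTop).injective <| by
      rw [map_zero]
      exact congrArg (fun φ : (Scheme.Modules.pushforward π).obj Nt ⟶ (Scheme.Modules.pushforward π).obj Nt =>
        φ.app ⊤ (show Γ(Nt, π ⁻¹ᵁ ⊤) from Sheaf.H.equiv₀ (Coh.toAb Nt) isTerminalTop v)) hid
  have h0 := (key t).1
  rw [show CohIII.fiberRank h N 0 t = 0 from Module.finrank_zero_of_subsingleton] at h0
  exact zero_ne_one h0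

end Groth.Agent.PicCurve
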