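import Groth.Agent.PicCurve.Albanese
import Groth.Agent.EllLaw.Field
import Groth.Agent.H23.RigidGamma

/-!
# The data carried by a Jacobian
-/

set_option autoImplicit false
set_option linter.style.haveILetI false
set_option linter.unusedSectionVars false
set_option backward.isDefEq.respectTransparency false
set_option backward.isDefEq.respectTransparency.types false
set_option maxHeartbeats 1000000
set_option synthInstance.maxHeartbeats 400000

universe u

open CategoryTheory CategoryTheory.Limits AlgebraicGeometry TopologicalSpace MonoidalCategory CartesianMonoidalCategory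
open scoped CategoryTheory.MonObj

noncomputable section

namespace Groth.Agent.PicCurve

open Groth.Agent Groth.Agent.H23 Groth.Agent.H23.PicMul Groth.Agent.H26 Groth.Agent.Pic13Lib
  Groth.Agent.PicTangent Groth.Agent.PicTangent.JacDiff Groth.Agent.EllLaw
open scoped Groth.Agent.H23.PicMul

attribute [local instance] PicMul.clMonoid

variable {k : Type u} [Field k]

theorem geometricallyIntegral_of_smooth {X : Scheme.{u}} (f : X ⟶ Spec (CommRingCat.of k)) [Smooth f]
    [GeometricallyIrreducible f] : GeometricallyIntegral f :=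
  haveI := H23.RigidGamma.geometricallyReduced_of_smooth f
  GeometricallyIntegral.of_geometricallyReduced_of_geometricallyIrreducible _

variable {X : Scheme.{u}} (f : X ⟶ Spec (CommRingCat.of k)) [IsProper f]
  [SmoothOfRelativeDimension 1 f] [GeometricallyConnected f]
  (σ : Spec (CommRingCat.of k) ⟶ X) (hσ : σ ≫ f = 𝟙 _)

theorem props_of_univ0 {J J₀ : Over (Spec (CommRingCat.of k))} {ζ : PicF.Rig f σ hσ J} (hu : IsUniv0 f σ hσ ζ)
    {ζ₀ : PicF.Rig f σ hσ J₀} (hu₀ : IsUniv0 f σ hσ ζ₀) [IsProper J₀.hom] [Smooth J₀.hom]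
    [GeometricallyIrreducible J₀.hom] :
    IsProper J.hom ∧ Smooth J.hom ∧ GeometricallyIntegral J.hom := by
  obtain ⟨a, ha, -⟩ := hu₀.2 J ζ hu.1
  obtain ⟨b, hb, -⟩ := hu.2 J₀ ζ₀ hu₀.1
  have h1 : a ≫ b = 𝟙 J := hom_ext_rel f σ hσ hu (Rel.of_eq (by
    rw [XTmap_id, PicClLib.pullCl_id, PicClLib.XTmap_comp, ← PicClLib.pullCl_comp, hb, ha]))
  have h2 : b ≫ a = 𝟙 J₀ := hom_ext_rel f σ hσ hu₀ (Rel.of_eq (by
    rw [XTmap_id, PicClLib.pullCl_id, PicClLib.XTmap_comp, ← PicClLib.pullCl_comp, ha, hb]))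
  haveI : IsIso a.left := ⟨b.left, congrArg (fun m : J ⟶ J => m.left) h1, congrArg (fun m : J₀ ⟶ J₀ => m.left) h2⟩
  rw [← Over.w a]
  haveI : GeometricallyIntegral J₀.hom := geometricallyIntegral_of_smooth _
  refine ⟨inferInstance, inferInstance, ?_⟩
  exact (MorphismProperty.cancel_left_of_respectsIso @GeometricallyIntegral a.left J₀.hom).2 ‹_›

/-- A Jacobian has a universal rigidified class following the group law, and is an abelian variety. -/
theorem exists_data {J : Over (Spec (CommRingCat.of k))} [GrpObj J] {ψ : (ModFun.PicDeg f 0).Hom ⊤ J}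
    (hJ : Jac.IsJacobian f ⊤ J ψ) :
    ∃ ζ : PicF.Rig f σ hσ J, Classifies f σ hσ ψ ζ ∧ IsMulClass f σ hσ ζ ∧
      IsProper J.hom ∧ Smooth J.hom ∧ GeometricallyIntegral J.hom := by
  obtain ⟨J₀, ξ, h₁, h₂, h₃, h₄, h₅⟩ := exists_jacobian f σ hσ
  obtain ⟨ζ, hζ⟩ := exists_classifies f σ hσ ψ (show IsUniv0 f σ hσ ξ from ⟨h₄, h₅⟩) hJ.coarse
  exact ⟨ζ, hζ, isMulClass_of_classifies f σ hσ hζ hJ, props_of_univ0 f σ hσ hζ.1 (ζ₀ := ξ) ⟨h₄, h₅⟩⟩

omit [SmoothOfRelativeDimension 1 f] [GeometricallyConnected f] in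
theorem fiberRank_genus (g : ℕ)
    (hg : (letI : X.Over (Spec (CommRingCat.of k)) := ⟨f⟩; Curv2.genus k X) = g) (s : ↥(Spec (CommRingCat.of k))) :
    CohIII.fiberRank f (Coh.structureModule X) 1 s = g := by
  letI : X.Over (Spec (CommRingCat.of k)) := ⟨f⟩
  let F := (Spec (CommRingCat.of k)).residueField s
  let τ : Spec F ⟶ Spec (CommRingCat.of k) := (Spec (CommRingCat.of k)).fromSpecResidueField s
  letI : Algebra k F := (Spec.preimage τ).hom.toAlgebra
  have hτ : Spec.map (CommRingCat.ofHom (algebraMap k F)) = τ := Spec.map_preimage τ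
  letI : (f.fiber s).Over (Spec (CommRingCat.of F)) := ⟨f.fiberToSpecResidueField s⟩
  haveI : CompactSpace X := QuasiCompact.compactSpace_of_compactSpace f
  haveI : X.IsSeparated := ⟨by rw [← Limits.terminal.comp_from f]; infer_instance⟩
  exact (CurveBC.finrank_hh (X := X) k F (f.fiberι s)
    (hτ.symm ▸ IsPullback.of_hasPullback f ((Spec (CommRingCat.of k)).fromSpecResidueField s)) _
    QCoh.isQCoh_structureModule 1).trans hg

section Abel

variable {J : Over (Spec (CommRingCat.of k))} [GrpObj J] {ζ : PicF.Rig f σ hσ J}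
  (hu : IsUniv0 f σ hσ ζ) (hm : IsMulClass f σ hσ ζ) {j : Over.mk f ⟶ J} (hj : IsAbel f σ hσ ζ j)

include hu hm hj in
/-- The Abel map sends the base point to the origin. -/
theorem cst_comp_abel (T : Over (Spec (CommRingCat.of k))) : cst f σ hσ T ≫ j = 1 := hom_ext_rel f σ hσ hu (by
  show Rel f _ (cls f σ hσ ζ _) (cls f σ hσ ζ _)
  rw [cls_one f σ hσ hm]
  refine (isAbel_rel f σ hσ ζ hj (cst f σ hσ T)).trans (Rel.of_eq ?_)
  rw [δ, pt_mul_ptInv])

variable [IsCommMonObj J] [IsProper J.hom] [Smooth J.hom] [GeometricallyIntegral J.hom] {n : ℕ}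
  (hn : ∀ s, CohIII.fiberRank f (Coh.structureModule X) 1 s = n)

include hu hm hj hn in
/-- The Jacobian receives the differences of two points universally. -/
theorem existsUnique_factor_diff (hn0 : 0 < n) (A : Over (Spec (CommRingCat.of k))) [GrpObj A] [IsProper A.hom]
    [GeometricallyIntegral A.hom] (φ : Over.mk f ⊗ Over.mk f ⟶ A)
    (hφ : lift (𝟙 (Over.mk f)) (𝟙 (Over.mk f)) ≫ φ = toUnit _ ≫ η[A]) :
    ∃! χ : J ⟶ A, IsMonHom χ ∧ ((fst (Over.mk f) (Over.mk f) ≫ j) * (snd (Over.mk f) (Over.mk f) ≫ j)⁻¹) ≫ χ = φ := by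
  haveI : IsCommMonObj A := isCommMonObj_of_isProper_of_geometricallyIntegral A
  haveI : Smooth f := SmoothOfRelativeDimension.smooth 1 f
  haveI := JacDeg.geometricallyIntegral f
  let Y := Over.mk f
  haveI : IsProper Y.hom := ‹IsProper f›
  haveI : GeometricallyIntegral Y.hom := JacDeg.geometricallyIntegral f
  let c : Y ⟶ Y := cst f σ hσ Y
  let φ₁ : Y ⟶ A := lift (𝟙 Y) c ≫ φ
  let φ₂ : Y ⟶ A := lift c (𝟙 Y) ≫ φ
  have hd : lift (𝟙 Y) (𝟙 Y) ≫ φ = 1 := hφ.trans H23.AlbFormal.toUnit_one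
  have hcc : lift c c ≫ φ = 1 := by
    rw [show lift c c = c ≫ lift (𝟙 Y) (𝟙 Y) by rw [comp_lift, Category.comp_id], Category.assoc, hd, MonObj.comp_one]
  have hc₁ : c ≫ φ₁ = 1 := by
    show c ≫ lift (𝟙 Y) c ≫ φ = 1
    rw [comp_lift_assoc, Category.comp_id, comp_cst]
    exact hcc
  have hc₂ : c ≫ φ₂ = 1 := by
    show c ≫ lift c (𝟙 Y) ≫ φ = 1
    rw [comp_lift_assoc, Category.comp_id, comp_cst]
    exact hcc
  have hq : φ * ((fst Y Y ≫ φ₁) * (snd Y Y ≫ φ₂))⁻¹ = 1 := by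
    let σ' : 𝟙_ (Over (Spec (CommRingCat.of k))) ⟶ Y := Over.homMk σ hσ
    have hσ' : toUnit Y ≫ σ' = c := Over.OverMorphism.ext rfl
    refine (H23.Rigid.eq_const _ σ' σ' η[A] ?_ ?_).trans H23.AlbFormal.toUnit_one
    · rw [hσ', H23.AlbFormal.toUnit_one, MonObj.comp_mul, GrpObj.comp_inv, MonObj.comp_mul, lift_fst_assoc,
        lift_snd_assoc, Category.id_comp, hc₂, mul_one]
      exact mul_inv_cancel φ₁
    · rw [hσ', H23.AlbFormal.toUnit_one, MonObj.comp_mul, GrpObj.comp_inv, MonObj.comp_mul, lift_fst_assoc,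
        lift_snd_assoc, Category.id_comp, hc₁, one_mul]
      exact mul_inv_cancel φ₂
  rw [mul_inv_eq_one] at hq
  have h12 : φ₁ * φ₂ = 1 := by
    have e := congrArg (fun m => lift (𝟙 Y) (𝟙 Y) ≫ m) hq
    rwa [MonObj.comp_mul, lift_fst_assoc, lift_snd_assoc, Category.id_comp, Category.id_comp, hd, eq_comm] at e
  rw [← inv_eq_of_mul_eq_one_right h12] at hq
  have hσ₁ : σ ≫ φ₁.left = η[A].left := by
    let B : Over (Spec (CommRingCat.of k)) := 𝟙_ (Over (Spec (CommRingCat.of k)))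
    let σ' : B ⟶ Y := Over.homMk σ hσ
    have e1 : σ' ≫ c = σ' := Over.OverMorphism.ext (by
      show σ ≫ f ≫ σ = σ
      rw [← Category.assoc, hσ, Category.id_comp])
    have e : σ' ≫ φ₁ = η[A] := by
      rw [← e1, Category.assoc, hc₁, MonObj.comp_one, MonObj.one_eq_one]
    exact congrArg (fun m : B ⟶ A => m.left) e
  obtain ⟨χ, ⟨hχ, hχj⟩, hχu⟩ := existsUnique_factor f σ hσ hu hm hj hn hn0 A φ₁ hσ₁
  haveI := hχ
  refine ⟨χ, ⟨hχ, ?_⟩, fun χ' hχ' => ?_⟩
  · rw [MonObj.mul_comp, GrpObj.inv_comp, Category.assoc, Category.assoc, hχj, hq, GrpObj.comp_inv]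
  · obtain ⟨hm', he⟩ := hχ'
    haveI := hm'
    refine hχu χ' ⟨hm', ?_⟩
    have e := congrArg (fun m => lift (𝟙 Y) c ≫ m) he
    rw [← Category.assoc, MonObj.comp_mul, GrpObj.comp_inv, lift_fst_assoc, lift_snd_assoc, Category.id_comp,
      cst_comp_abel f σ hσ hu hm hj, inv_one, mul_one] at e
    exact e

end Abel

end Groth.Agent.PicCurve
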