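import Groth.Agent.PicCurve.Deg
import Groth.Agent.PicCurve.JacField
import Groth.Agent.H23.RigidGamma
import Groth.Agent.S1866
import Groth.Agent.S7388

/-!
# The group law of the Jacobian; finite sets of its points lie in affine opens
-/

set_option autoImplicit false
set_option linter.style.haveILetI false
set_option linter.unusedSectionVars false
set_option backward.isDefEq.respectTransparency false
set_option backward.isDefEq.respectTransparency.types false
set_option maxHeartbeats 1000000

universe u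

open CategoryTheory CategoryTheory.Limits AlgebraicGeometry TopologicalSpace Opposite

noncomputable section

namespace Groth.Agent.PicCurve

open Groth.Agent Groth.Agent.H23 Groth.Agent.H23.PicMul Groth.Agent.H26 Groth.Agent.Pic13Lib
  Groth.Agent.PicTangent Groth.Agent.PicTangent.JacDiff
open scoped Groth.Agent.H23.PicMul

attribute [local instance] PicMul.clMonoid

variable {k : Type u} [Field k] {X : Scheme.{u}} (f : X ⟶ Spec (CommRingCat.of k)) [IsProper f]
  [SmoothOfRelativeDimension 1 f] [GeometricallyConnected f]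
  (σ : Spec (CommRingCat.of k) ⟶ X) (hσ : σ ≫ f = 𝟙 _)

/-- Rigidified classes of degree zero. -/
abbrev DegZero (T : Over (Spec (CommRingCat.of k))) : Type (u + 1) :=
  {c : PicF.Cl (PicF.XT f T) // PicF.IsInvertibleCl c ∧ PicF.IsTrivialCl (PicF.pullCl (PicF.secT f σ hσ T) c) ∧
    ∀ t, degAt f T c t = 0}

instance commGroupDegZero (T : Over (Spec (CommRingCat.of k))) : CommGroup (DegZero f σ hσ T) where
  mul a b := ⟨a.1 * b.1, PicMul.isInvertibleCl_mul a.2.1 b.2.1, by
    show PicF.pullCl _ _ = _
    rw [PicMul.pullCl_mul, a.2.2.1, b.2.2.1, ← PicMul.one_def, mul_one], fun t => by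
    rw [degAt_mul f a.2.1 b.2.1, a.2.2.2 t, b.2.2.2 t, add_zero]⟩
  mul_assoc a b c := Subtype.ext (mul_assoc a.1 b.1 c.1)
  one := ⟨1, ⟨_, rfl, InvX.isInvertible_structureModule⟩, by
    show PicF.pullCl _ _ = _
    rw [PicMul.pullCl_one, PicMul.one_def], fun t => degAt_one f t⟩
  one_mul a := Subtype.ext (one_mul a.1)
  mul_one a := Subtype.ext (mul_one a.1)
  inv a := ⟨invCl a.2.1, invCl_invertible a.2.1, by
    have h := congrArg (PicF.pullCl (PicF.secT f σ hσ T)) (invCl_mul a.2.1)
    have e : PicF.pullCl (PicF.secT f σ hσ T) a.1 = 1 := a.2.2.1.trans PicMul.one_def.symm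
    rw [PicMul.pullCl_mul, PicMul.pullCl_one] at h
    replace h := (congrArg (fun x => _ * x) e).symm.trans h
    rw [mul_one] at h
    exact h.trans PicMul.one_def, fun t => by
    have h := degAt_mul f (invCl_invertible a.2.1) a.2.1 t
    rw [invCl_mul, degAt_one, a.2.2.2 t] at h
    omega⟩
  inv_mul_cancel a := Subtype.ext (invCl_mul a.2.1)
  mul_comm a b := Subtype.ext (mul_comm a.1 b.1)

variable {J : Over (Spec (CommRingCat.of k))} (η : PicF.Rig f σ hσ J) (hη : IsUniv0 f σ hσ η)

include hη in
theorem degAt_univ (t : J.left) : degAt f J η.1 t = 0 := (hasFibreDegreeZeroCl_iff f η.2.1).1 hη.1 t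

/-- Points are rigidified classes of degree zero. -/
def pointsEquiv (T : Over (Spec (CommRingCat.of k))) : (T ⟶ J) ≃ DegZero f σ hσ T where
  toFun g := ⟨(RigPoints.pullRig f σ hσ g η).1, (RigPoints.pullRig f σ hσ g η).2.1, (RigPoints.pullRig f σ hσ g η).2.2,
    fun t => (degAt_pull f g η.2.1 t).trans (degAt_univ f σ hσ η hη _)⟩
  invFun c := (hη.2 T ⟨c.1, c.2.1, c.2.2.1⟩ ((hasFibreDegreeZeroCl_iff f c.2.1).2 c.2.2.2)).exists.choose
  left_inv g := (hη.2 T _ ((hasFibreDegreeZeroCl_iff f (RigPoints.pullRig f σ hσ g η).2.1).2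
      fun t => (degAt_pull f g η.2.1 t).trans (degAt_univ f σ hσ η hη _))).unique
    (hη.2 T (RigPoints.pullRig f σ hσ g η) ((hasFibreDegreeZeroCl_iff f (RigPoints.pullRig f σ hσ g η).2.1).2
      fun t => (degAt_pull f g η.2.1 t).trans (degAt_univ f σ hσ η hη _))).exists.choose_spec rfl
  right_inv c := Subtype.ext
    (hη.2 T ⟨c.1, c.2.1, c.2.2.1⟩ ((hasFibreDegreeZeroCl_iff f c.2.1).2 c.2.2.2)).exists.choose_spec

/-- The group of points. -/
@[reducible] def pointsGroup (T : Over (Spec (CommRingCat.of k))) : Group (T ⟶ J) := (pointsEquiv f σ hσ η hη T).group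

theorem pointsEquiv_mul {T : Over (Spec (CommRingCat.of k))} (a b : T ⟶ J) :
    letI := pointsGroup f σ hσ η hη T
    (pointsEquiv f σ hσ η hη T (a * b)).1 = (pointsEquiv f σ hσ η hη T a).1 * (pointsEquiv f σ hσ η hη T b).1 :=
  congrArg Subtype.val ((pointsEquiv f σ hσ η hη T).apply_symm_apply _)

theorem comp_mul {T T' : Over (Spec (CommRingCat.of k))} (g : T' ⟶ T) (a b : T ⟶ J) :
    letI := pointsGroup f σ hσ η hη T
    letI := pointsGroup f σ hσ η hη T'
    g ≫ (a * b) = (g ≫ a) * (g ≫ b) := by
  letI := pointsGroup f σ hσ η hη T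
  letI := pointsGroup f σ hσ η hη T'
  refine (pointsEquiv f σ hσ η hη T').injective (Subtype.ext ?_)
  rw [pointsEquiv_mul]
  have key : ∀ x : T ⟶ J, (pointsEquiv f σ hσ η hη T' (g ≫ x)).1 =
      PicF.pullCl (PicF.XTmap f g) (pointsEquiv f σ hσ η hη T x).1 := fun x =>
    congrArg Subtype.val (pullRig_comp g x η).symm
  rw [key, key, key, pointsEquiv_mul, PicMul.pullCl_mul]

/-- The functor of points, in groups. -/
def pointsFunctor : (Over (Spec (CommRingCat.of k)))ᵒᵖ ⥤ GrpCat.{u} where
  obj T := letI := pointsGroup f σ hσ η hη T.unop; GrpCat.of (T.unop ⟶ J)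
  map {T T'} g :=
    letI := pointsGroup f σ hσ η hη T.unop
    letI := pointsGroup f σ hσ η hη T'.unop
    GrpCat.ofHom (MonoidHom.mk' (fun x => g.unop ≫ x) (fun a b => comp_mul f σ hσ η hη g.unop a b))
  map_id T := ConcreteCategory.hom_ext _ _ fun (x : T.unop ⟶ J) => Category.id_comp x
  map_comp {T T' T''} g g' := ConcreteCategory.hom_ext _ _ fun (x : T.unop ⟶ J) => Category.assoc g'.unop g.unop x

/-- The functor of points is represented by the Jacobian. -/
def representsPoints : (pointsFunctor f σ hσ η hη ⋙ forget _).RepresentableBy J where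
  homEquiv := Equiv.refl _
  homEquiv_comp _ _ := rfl

/-- The group scheme. -/
@[reducible] def jacGrpObj : GrpObj J :=
  GrpObj.ofRepresentableBy _ (pointsFunctor f σ hσ η hη) (representsPoints f σ hσ η hη)

include hη in
/-- Finitely many points of the Jacobian lie in an affine open. -/
theorem exists_affineOpen_jac [IsProper J.hom] [Smooth J.hom] [GeometricallyIrreducible J.hom]
    {E : Set J.left} (hE : E.Finite) : ∃ U : J.left.Opens, IsAffineOpen U ∧ E ⊆ U := by
  letI := jacGrpObj f σ hσ η hη
  haveI := H23.RigidGamma.geometricallyReduced_of_smooth J.hom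
  haveI : GeometricallyIntegral J.hom := GeometricallyIntegral.of_geometricallyReduced_of_geometricallyIrreducible _
  obtain ⟨n, j, hj, -⟩ := S1866.result k J
  haveI := hj
  exact S7388.result (CohB1.polyGrading n k) j E hE

end Groth.Agent.PicCurve
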