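import Groth.Agent.PicCurve.AbelPts
import Groth.Agent.H23.SymHilb
import Groth.Agent.H23.SymAF
import Groth.Agent.H23.SymCurve
import Groth.Agent.SGA1Q.Exists
import Groth.Agent.CurveFin.Main

/-!
# Powers of a curve and the Hilbert scheme of points
-/

set_option autoImplicit false
set_option linter.style.haveILetI false
set_option linter.unusedSectionVars false
set_option backward.isDefEq.respectTransparency false
set_option backward.isDefEq.respectTransparency.types false
set_option maxHeartbeats 1000000
set_option synthInstance.maxHeartbeats 400000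

universe u

open CategoryTheory CategoryTheory.Limits AlgebraicGeometry TopologicalSpace MonoidalCategory CartesianMonoidalCategory

noncomputable section

namespace Groth.Agent.PicCurve

open Groth.Agent Groth.Agent.H23 SymProd Groth.Agent.H23.SymHilb

variable {k : Type u} [Field k] {X : Scheme.{u}} (f : X ⟶ Spec (CommRingCat.of k)) [IsProper f]
  [SmoothOfRelativeDimension 1 f] [GeometricallyConnected f] (n : ℕ)

/-- A coordinate of the power. -/
def prj (i : Fin n) : powOver f n ⟶ Over.mk f :=
  Over.homMk (WidePullback.π (fun _ : Fin n => f) i) (WidePullback.π_arrow (fun _ : Fin n => f) i)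

/-- A permutation of the coordinates. -/
def permO (p : Equiv.Perm (Fin n)) : powOver f n ⟶ powOver f n :=
  Over.homMk (permHom f n p) (permHom_base f n p)

theorem permO_prj (p : Equiv.Perm (Fin n)) (i : Fin n) : permO f n p ≫ prj f n i = prj f n (p.symm i) :=
  Over.OverMorphism.ext (permHom_π f n p i)

theorem isAF : SymProd.IsAF f := by
  have hdim := (isSmoothProperCurve f).2.2.2
  haveI := (isSmoothProperCurve f).2.2.1
  haveI : X.IsSeparated := ⟨by
    rw [← terminal.comp_from f]
    infer_instance⟩
  haveI : IsLocallyNoetherian X := LocallyOfFiniteType.isLocallyNoetherian f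
  have hirr : ∀ U : X.Opens, IsCompact (U : Set X) → (irreducibleComponents (U : Set X)).Finite := by
    intro U hU
    haveI : CompactSpace U.toScheme := isCompact_iff_compactSpace.1 hU
    haveI : IsLocallyNoetherian U.toScheme := isLocallyNoetherian_of_isOpenImmersion U.ι
    haveI : IsNoetherian U.toScheme := {}
    exact TopologicalSpace.NoetherianSpace.finite_irreducibleComponents (α := U.toScheme)
  intro s T _
  exact CurveFin.exists_affineOpen_of_finite X hirr T fun y _ =>
    ⟨inferInstance, (SchTop.ringKrullDim_stalk_le y).trans hdim.le⟩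

/-- The Hilbert scheme is the quotient of the power by the symmetric group. -/
theorem exists_sym : ∃ (Y : Over (Spec (CommRingCat.of k))) (Z : HilbD.Obj f n Y) (q : powOver f n ⟶ Y),
    HilbD.IsUniversal f n Y Z ∧ HilbD.pull f q Z.1 = sumDiv f n ∧ Surjective q.left ∧
      IsProper Y.hom ∧ Smooth Y.hom ∧
      ∀ (A : Over (Spec (CommRingCat.of k))) (F : powOver f n ⟶ A), (∀ p, permO f n p ≫ F = F) →
        ∃ F' : Y ⟶ A, q ≫ F' = F := by
  obtain ⟨Y, q, hq⟩ := SGA1Q.exists_quotient (permActU f n) fun x => by
    obtain ⟨U, hU, hx⟩ := SymAF.exists_orbit_affine f n (isAF f) x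
    exact ⟨U, hU, fun p => hx p.down⟩
  obtain ⟨g, hg, -⟩ := SGA1Q.desc_existsUnique_isQuot hq (WidePullback.base (fun _ : Fin n => f))
    fun p => permHom_base f n p.down
  have hsym : IsSymProd f n q g := ⟨hq, hg⟩
  obtain ⟨Z, hZ, hqZ⟩ := exists_iso f (isAF f) n q g hsym
  obtain ⟨hp, hs⟩ := SymCurve.isProper_and_smooth f (isAF f) hsym
  refine ⟨Over.mk g, Z, Over.homMk q hg, hZ, hqZ, ⟨SGA1Q.surjective hq⟩, hp, hs, fun A F hF => ?_⟩
  obtain ⟨F', hF', -⟩ := SGA1Q.desc_existsUnique_isQuot hq F.left fun p => congrArg CommaMorphism.left (hF p.down)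
  obtain ⟨w, -, hu⟩ := SGA1Q.desc_existsUnique_isQuot hq (WidePullback.base (fun _ : Fin n => f))
    fun p => permHom_base f n p.down
  refine ⟨Over.homMk F' ?_, Over.OverMorphism.ext hF'⟩
  show F' ≫ A.hom = g
  rw [hu (F' ≫ A.hom) (by beta_reduce; rw [reassoc_of% hF']; exact Over.w F), hu g hg]

theorem geometricallyIntegral_pow [GeometricallyIntegral f] :
    ∀ n : ℕ, GeometricallyIntegral (WidePullback.base (fun _ : Fin n => f))
  | 0 => by
    haveI : IsIso (WidePullback.base (fun _ : Fin 0 => f)) := by
      refine ⟨WidePullback.lift (𝟙 _) (fun i => i.elim0) (fun i => i.elim0), ?_, WidePullback.lift_base ..⟩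
      refine WidePullback.hom_ext _ _ _ (fun i => i.elim0) ?_
      rw [Category.assoc, WidePullback.lift_base, Category.comp_id, Category.id_comp]
    refine H23.MaxAbelian.geometricallyIntegral_of_pullback _ fun K _ x => ?_
    exact H23.MaxAbelian.isIntegral_of_iso (asIso (pullback.snd (WidePullback.base (fun _ : Fin 0 => f)) x))
  | m + 1 => by
    haveI := geometricallyIntegral_pow m
    haveI : Smooth f := SmoothOfRelativeDimension.smooth 1 f
    haveI : Smooth (WidePullback.base (fun _ : Fin m => f)) := SymCurve.base_property @Smooth f inferInstance m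
    haveI : GeometricallyIntegral (Over.mk f : Over (Spec (CommRingCat.of k))).hom := ‹GeometricallyIntegral f›
    haveI : GeometricallyIntegral (Over.mk (WidePullback.base (fun _ : Fin m => f)) : Over (Spec (CommRingCat.of k))).hom :=
      ‹GeometricallyIntegral (WidePullback.base (fun _ : Fin m => f))›
    haveI : LocallyOfFiniteType (Over.mk (WidePullback.base (fun _ : Fin m => f)) : Over (Spec (CommRingCat.of k))).hom :=
      inferInstanceAs (LocallyOfFiniteType (WidePullback.base (fun _ : Fin m => f)))
    haveI : LocallyOfFiniteType (Over.mk f : Over (Spec (CommRingCat.of k))).hom := inferInstanceAs (LocallyOfFiniteType f)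
    haveI := H23.RatExt.geometricallyIntegral_prod (Over.mk f) (Over.mk (WidePullback.base (fun _ : Fin m => f)))
    let b := WidePullback.base (fun _ : Fin m => f)
    let rest : fibPow f (m + 1) ⟶ fibPow f m :=
      WidePullback.lift (WidePullback.base _) (fun i => WidePullback.π (fun _ : Fin (m + 1) => f) i.succ)
        (fun i => WidePullback.π_arrow _ i.succ)
    have hr : rest ≫ b = WidePullback.base (fun _ : Fin (m + 1) => f) := WidePullback.lift_base ..
    have w : WidePullback.π (fun _ : Fin (m + 1) => f) 0 ≫ f = rest ≫ b := by
      rw [hr]; exact WidePullback.π_arrow _ 0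
    let a := pullback.lift (WidePullback.π (fun _ : Fin (m + 1) => f) 0) rest w
    let a' : pullback f b ⟶ fibPow f (m + 1) :=
      WidePullback.lift (pullback.snd f b ≫ b)
        (Fin.cases (pullback.fst f b) fun i => pullback.snd f b ≫ WidePullback.π (fun _ : Fin m => f) i)
        (fun i => by
          induction i using Fin.cases with
          | zero => exact pullback.condition
          | succ i =>
            simp only [Fin.cases_succ, Category.assoc]
            rw [WidePullback.π_arrow (fun _ : Fin m => f) i])
    haveI : IsIso a := by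
      refine ⟨a', ?_, ?_⟩
      · refine WidePullback.hom_ext _ _ _ (fun i => ?_) ?_
        · induction i using Fin.cases with
          | zero => simp [a, a']
          | succ i => simp [a, a', rest]
        · simp [a, a', hr, b, rest]
      · refine pullback.hom_ext ?_ ?_
        · simp [a, a']
        · refine WidePullback.hom_ext _ _ _ (fun i => ?_) ?_
          · simp [a, a', rest]
          · simp [a, a', rest, b]
    have e : WidePullback.base (fun _ : Fin (m + 1) => f) = a ≫ pullback.fst f b ≫ f := by
      rw [pullback.lift_fst_assoc]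
      exact (WidePullback.π_arrow _ 0).symm
    rw [e]
    exact (MorphismProperty.cancel_left_of_respectsIso (@GeometricallyIntegral) a _).2
      ‹GeometricallyIntegral (Over.mk f ⊗ Over.mk (WidePullback.base (fun _ : Fin m => f))).hom›

theorem isIntegral_pow [GeometricallyIntegral f] : IsIntegral (fibPow f n) := by
  haveI : GeometricallyIntegral (powOver f n).hom := geometricallyIntegral_pow f n
  exact H23.MaxAbelian.isIntegral_of_geometricallyIntegral (X := powOver f n)

end Groth.Agent.PicCurve
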