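import Groth.Agent.PicCurve.PicDeg
import Groth.Agent.AVTors.Card

/-!
# Torsion in the Picard group of a curve over an algebraically closed field
-/

set_option autoImplicit false
set_option linter.style.haveILetI false
set_option linter.unusedSectionVars false
set_option backward.isDefEq.respectTransparency false
set_option backward.isDefEq.respectTransparency.types false
set_option maxHeartbeats 1000000
set_option synthInstance.maxHeartbeats 400000

universe u

open CategoryTheory CategoryTheory.Limits AlgebraicGeometry TopologicalSpace MonoidalCategory CartesianMonoidalCategory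

open scoped CategoryTheory.MonObj

noncomputable section

namespace Groth.Agent.PicCurve

open Groth.Agent Groth.Agent.H23 Groth.Agent.H23.PicMul Groth.Agent.H26 Groth.Agent.Pic13Lib
  Groth.Agent.PicTangent Groth.Agent.PicTangent.JacDiff Groth.Agent.EllLaw
open scoped Groth.Agent.H23.PicMul

attribute [local instance] PicMul.clMonoid

variable {k : Type u} [Field k] [IsAlgClosed k] {X : Scheme.{u}}

theorem invertibleCl_one {Y : Scheme.{u}} : PicF.IsInvertibleCl (1 : PicF.Cl Y) :=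
  ⟨_, rfl, InvX.isInvertible_structureModule⟩

theorem tors_set_eq (n : ℕ) :
    {c : PicF.Cl X | ∃ M : X.Modules, PicF.cl M = c ∧ PicF.IsInvertible M ∧
      Nonempty (CohB1.tensorPow M n ≅ Coh.structureModule X)} =
    {c : PicF.Cl X | PicF.IsInvertibleCl c ∧ c ^ n = 1} := by
  ext c
  constructor
  · rintro ⟨M, rfl, hM, e⟩
    exact ⟨⟨M, rfl, hM⟩, (PicMul.cl_tensorPow M n).symm.trans ((PicMul.cl_eq_iff.2 e).trans PicMul.one_def.symm)⟩
  · rintro ⟨⟨M, rfl, hM⟩, e⟩
    exact ⟨M, rfl, hM, PicMul.cl_eq_iff.1 ((PicMul.cl_tensorPow M n).trans (e.trans PicMul.one_def))⟩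

variable (f : X ⟶ Spec (CommRingCat.of k)) [IsProper f]
  [SmoothOfRelativeDimension 1 f] [GeometricallyConnected f]
  (σ : Spec (CommRingCat.of k) ⟶ X) (hσ : σ ≫ f = 𝟙 _)
  {J : Over (Spec (CommRingCat.of k))} [GrpObj J] [IsCommMonObj J] {ζ : PicF.Rig f σ hσ J}

theorem degAt_pow_cl {T : Over (Spec (CommRingCat.of k))} {c : PicF.Cl (PicF.XT f T)} (hc : PicF.IsInvertibleCl c)
    (t : T.left) : ∀ n : ℕ, PicF.IsInvertibleCl (c ^ n) ∧ degAt f T (c ^ n) t = n * degAt f T c t
  | 0 => by rw [pow_zero, degAt_one, Nat.cast_zero, zero_mul]; exact ⟨invertibleCl_one, rfl⟩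
  | n + 1 => by
    obtain ⟨h1, h2⟩ := degAt_pow_cl hc t n
    rw [pow_succ, degAt_mul f h1 hc, h2]
    exact ⟨PicMul.isInvertibleCl_mul h1 hc, by push_cast; ring⟩

include hσ in
/-- The torsion classes of the curve are the torsion points of the Jacobian. -/
theorem card_tors_eq (hu : IsUniv0 f σ hσ ζ) (hm : IsMulClass f σ hσ ζ) (n : ℕ) (hn : 0 < n) :
    Nat.card {c : PicF.Cl X | PicF.IsInvertibleCl c ∧ c ^ n = 1} =
      Nat.card (AbDual.torsPts J n (AVTors.pt0 k)) := by
  let B := AVTors.pt0 k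
  let p : PicF.XT f B ⟶ X := pullback.fst f B.hom
  haveI : IsIso p := inferInstanceAs (IsIso (pullback.fst f (𝟙 (Spec (CommRingCat.of k)))))
  have hp1 : ∀ c : PicF.Cl X, PicF.pullCl (inv p) (PicF.pullCl p c) = c := fun c => by
    rw [PicClLib.pullCl_comp, IsIso.inv_hom_id, PicClLib.pullCl_id]
  have hp2 : ∀ c : PicF.Cl (PicF.XT f B), PicF.pullCl p (PicF.pullCl (inv p) c) = c := fun c => by
    rw [PicClLib.pullCl_comp, IsIso.hom_inv_id, PicClLib.pullCl_id]
  have hclsn : ∀ a : B ⟶ J, ∀ m : ℕ, cls f σ hσ ζ (a ^ m) = cls f σ hσ ζ a ^ m := fun a m =>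
    map_pow (clsHom f σ hσ hm B) a m
  have hinv : ∀ (a : B ⟶ J), a ^ n = 1 → PicF.pullCl (inv p) (cls f σ hσ ζ a) ∈
      {c : PicF.Cl X | PicF.IsInvertibleCl c ∧ c ^ n = 1} := fun a ha =>
    ⟨PicClLib.isInvertibleCl_pullCl _ (cls_invertible f σ hσ ζ a), by
      rw [← PicMul.pullCl_pow, ← hclsn, ha, cls_one f σ hσ hm, PicMul.pullCl_one]⟩
  refine (Nat.card_congr (Equiv.ofBijective
    (fun a : AbDual.torsPts J n B => (⟨_, hinv a.1 a.2⟩ : {c : PicF.Cl X | PicF.IsInvertibleCl c ∧ c ^ n = 1}))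
    ⟨fun a b e => ?_, fun c => ?_⟩)).symm
  · have e' := congrArg (PicF.pullCl p) (congrArg Subtype.val e)
    rw [hp2, hp2] at e'
    exact Subtype.ext (hom_ext_rel f σ hσ hu (Rel.of_eq e'))
  · obtain ⟨hc, hcn⟩ := c.2
    have hd : PicF.IsInvertibleCl (PicF.pullCl p c.1) := PicClLib.isInvertibleCl_pullCl _ hc
    have hdn : PicF.pullCl p c.1 ^ n = 1 := by rw [← PicMul.pullCl_pow, hcn, PicMul.pullCl_one]
    let c' : PicF.Rig f σ hσ B := ⟨PicF.pullCl p c.1, hd,
      JacPoint.eq_structure_of_isLocalRing (R := k) (PicClLib.isInvertibleCl_pullCl _ hd)⟩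
    have hd0 : ∀ t, degAt f B c'.1 t = 0 := fun t => by
      have h := (degAt_pow_cl f hd t n).2
      rw [hdn, degAt_one] at h
      exact (mul_eq_zero.1 h.symm).resolve_left (by exact_mod_cast hn.ne')
    obtain ⟨g, hg, -⟩ := hu.2 B c' ((hasFibreDegreeZeroCl_iff f c'.2.1).2 hd0)
    have hgc : cls f σ hσ ζ g = PicF.pullCl p c.1 := hg
    refine ⟨⟨g, hom_ext_rel f σ hσ hu (Rel.of_eq ?_)⟩, Subtype.ext ?_⟩
    · show cls f σ hσ ζ _ = cls f σ hσ ζ _
      rw [cls_one f σ hσ hm]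
      exact (hclsn g n).trans (by rw [hgc, hdn])
    · show PicF.pullCl (inv p) (cls f σ hσ ζ g) = c.1
      rw [hgc, hp1]

include σ hσ in
/-- The torsion of the Picard group is that of an abelian variety of dimension the genus. -/
theorem exists_tors_av :
    ∃ (J : Over (Spec (CommRingCat.of k))) (_ : GrpObj J), IsProper J.hom ∧ GeometricallyIntegral J.hom ∧ ∃ _ : IsCommMonObj J,
      topologicalKrullDim J.left =
        ((letI : X.Over (Spec (CommRingCat.of k)) := ⟨f⟩; Curv2.genus k X : ℕ) : WithBot ℕ∞) ∧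
      ∀ n : ℕ, 0 < n → Nat.card {c : PicF.Cl X | ∃ M : X.Modules, PicF.cl M = c ∧ PicF.IsInvertible M ∧
          Nonempty (CohB1.tensorPow M n ≅ Coh.structureModule X)} = Nat.card (AbDual.torsPts J n (AVTors.pt0 k)) := by
  obtain ⟨J, ξ, h₁, h₂, h₃, h₄, h₅⟩ := exists_jacobian f σ hσ
  have hu : IsUniv0 f σ hσ ξ := ⟨h₄, h₅⟩
  haveI : GeometricallyIntegral J.hom := geometricallyIntegral_of_smooth J.hom
  letI := jacGrpObj f σ hσ ξ hu
  have hm := isMulClass_jac f σ hσ ξ hu
  haveI := isCommMonObj f σ hσ hm hu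
  refine ⟨J, inferInstance, h₁, inferInstance, inferInstance, dim_jacobian f σ hσ hu, fun n hn => ?_⟩
  rw [tors_set_eq]
  exact card_tors_eq f σ hσ hu hm n hn

omit X in
/-- The points of prime power order of an abelian variety in that characteristic. -/
theorem exists_p_rank {A : Over (Spec (CommRingCat.of k))} [GrpObj A] [IsProper A.hom] [GeometricallyIntegral A.hom]
    [IsCommMonObj A] {g : ℕ} (hg : topologicalKrullDim A.left = g) (p : ℕ) [Fact p.Prime] [CharP k p] :
    ∃ r : ℕ, r ≤ g ∧ ∀ m : ℕ, Nat.card (AbDual.torsPts A (p ^ m) (AVTors.pt0 k)) = p ^ (m * r) := by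
  have hp : p.Prime := Fact.out
  haveI : Finite (AbDual.torsPts A p (AVTors.pt0 k)) := (AVTors.card_torsPts_le hg p hp.pos).1
  obtain ⟨r, hr⟩ : ∃ r, Nat.card (AbDual.torsPts A p (AVTors.pt0 k)) = p ^ r :=
    IsPGroup.iff_card.1 (fun x => ⟨1, Subtype.ext (by
      rw [pow_one, SubgroupClass.coe_pow, OneMemClass.coe_one]
      exact x.2)⟩)
  refine ⟨r, (Nat.pow_le_pow_iff_right hp.one_lt).1 (hr ▸ AVTors.card_torsPts_char_le hg p), fun m => ?_⟩
  induction m with
  | zero =>
    rw [zero_mul, pow_zero]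
    exact AVTors.card_pker_one
  | succ m ih =>
    have hr' : Nat.card (AVTors.pker (AVTors.pt0 k ⟶ A) p) = p ^ r := hr
    have ih' : Nat.card (AVTors.pker (AVTors.pt0 k ⟶ A) (p ^ m)) = p ^ (m * r) := ih
    show Nat.card (AVTors.pker (AVTors.pt0 k ⟶ A) (p ^ (m + 1))) = _
    rw [pow_succ', AVTors.card_pker_mul p (p ^ m) (fun y => AVTors.exists_root p hp.pos y), hr', ih', ← pow_add]
    ring_nf

end Groth.Agent.PicCurve
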