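import Groth.Agent.PicCurve.Deg
import Groth.Agent.PicCurve.JacField
import Groth.Agent.GalPic.Limit
import Groth.Agent.H23.KLBasic
import Groth.Agent.S1170
import Groth.Agent.S6487

/-!
# Finitely many twists over a finite Galois extension
-/

set_option autoImplicit false
set_option linter.style.haveILetI false
set_option linter.unusedSectionVars false
set_option backward.isDefEq.respectTransparency false
set_option backward.isDefEq.respectTransparency.types false
set_option maxHeartbeats 1000000

universe u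

open CategoryTheory CategoryTheory.Limits AlgebraicGeometry TopologicalSpace Opposite

noncomputable section

namespace Groth.Agent.PicCurve

open Groth.Agent Groth.Agent.H23 Groth.Agent.H23.PicMul Groth.Agent.H26 Groth.Agent.Pic13Lib
  Groth.Agent.PicTangent Groth.Agent.PicTangent.JacDiff
open scoped Groth.Agent.H23.PicMul

attribute [local instance] PicMul.clMonoid

section Shift

variable {X S : Scheme.{u}} (f : X ⟶ S) [IsProper f] [SmoothOfRelativeDimension 1 f] [GeometricallyConnected f]
  (σ : S ⟶ X) (hσ : σ ≫ f = 𝟙 S)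

include hσ in
/-- Twists of arbitrary degree by multiples of the section. -/
theorem exists_shift (d : ℤ) : ∃ E : PicF.Cl X, PicF.IsInvertibleCl E ∧
    ∀ (T : Over S) (t : T.left), degAt f T (fromX f T E) t = d := by
  let B : Over S := Over.mk (𝟙 S)
  let i : X ⟶ PicF.XT f B := pullback.lift (𝟙 X) f (by rw [Category.id_comp]; exact (Category.comp_id f).symm)
  let a : B ⟶ Over.mk f := Over.homMk σ hσ
  have key : ∀ (e : PicF.Cl (PicF.XT f B)), PicF.IsInvertibleCl e → (∀ t, degAt f B e t = d) →
      ∃ E : PicF.Cl X, PicF.IsInvertibleCl E ∧ ∀ (T : Over S) (t : T.left), degAt f T (fromX f T E) t = d := by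
    intro e he hd
    refine ⟨PicF.pullCl i e, PicClLib.isInvertibleCl_pullCl _ he, fun T t => ?_⟩
    let g : T ⟶ B := Over.homMk T.hom (Category.comp_id _)
    have hg : pullback.fst f T.hom ≫ i = PicF.XTmap f g := by
      refine pullback.hom_ext ?_ ?_
      · rw [Category.assoc, pullback.lift_fst, Category.comp_id]
        exact (RigDatum.XTmap_fst f g).symm
      · rw [Category.assoc, pullback.lift_snd, pullback.condition]
        exact (RigDatum.XTmap_snd f g).symm
    rw [fromX, PicClLib.pullCl_comp, hg, degAt_pull f g he]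
    exact hd _
  have hpow : ∀ {c : PicF.Cl (PicF.XT f B)}, PicF.IsInvertibleCl c → ∀ m : ℕ, PicF.IsInvertibleCl (c ^ m) :=
    fun {c} hc m => by
      induction m with
      | zero => rw [pow_zero]; exact ⟨_, rfl, InvX.isInvertible_structureModule⟩
      | succ m ih => rw [pow_succ]; exact PicMul.isInvertibleCl_mul ih hc
  obtain ⟨n, rfl | rfl⟩ := Int.eq_nat_or_neg d
  · exact key _ (hpow (ptInv_invertible f B a) n) fun t => (degAt_pow f a n t).2.1
  · exact key _ (hpow (pt_invertible f B a) n) fun t => (degAt_pow f a n t).2.2.2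

end Shift

section Transfer

variable {X S S' : Scheme.{u}} (f : X ⟶ S) (h : S' ⟶ S)

/-- The projection to the curve over the new base. -/
def qdown (T : Over S') : PicF.XT f (down h T) ⟶ pullback f h :=
  pullback.lift (pullback.fst f (T.hom ≫ h)) (PicF.XTproj f (down h T) ≫ T.hom) (by
    rw [pullback.condition, Category.assoc]; rfl)

theorem bcIso_qdown (T : Over S') :
    (bcIso f h T).inv ≫ pullback.fst (pullback.snd f h) T.hom = qdown f h T := by
  rw [Iso.inv_comp_eq]
  refine pullback.hom_ext ?_ ?_
  · rw [Category.assoc, qdown, pullback.lift_fst]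
    exact (pullbackLeftPullbackSndIso_hom_fst f h T.hom).symm
  · rw [Category.assoc, qdown, pullback.lift_snd, ← Category.assoc, bcIso_proj, pullback.condition]

theorem toDown_fromX (T : Over S') (E : PicF.Cl (pullback f h)) :
    toDown f h (fromX (pullback.snd f h) T E) = PicF.pullCl (qdown f h T) E := by
  rw [toDown, fromX, PicClLib.pullCl_comp, bcIso_qdown]

variable [IsProper f] [SmoothOfRelativeDimension 1 f] [GeometricallyConnected f] [IsProper (pullback.snd f h)]
  [SmoothOfRelativeDimension 1 (pullback.snd f h)] [GeometricallyConnected (pullback.snd f h)]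

theorem goodAt_toDown {T : Over S'} {c : PicF.Cl (PicF.XT (pullback.snd f h) T)} (hc : PicF.IsInvertibleCl c)
    (t : T.left) : GoodAt f (down h T) (toDown f h c) t ↔ GoodAt (pullback.snd f h) T c t := by
  obtain ⟨Ω, _, _, σ, rfl⟩ := JacProper.exists_geomPoint t
  let a : Over.mk (σ ≫ T.hom) ⟶ T := Over.homMk σ rfl
  rw [show σ (IsLocalRing.closedPoint Ω : PrimeSpectrum Ω) = a.left (IsLocalRing.closedPoint Ω : PrimeSpectrum Ω) from rfl,
    ← goodAt_pull (pullback.snd f h) a hc]
  refine (goodAt_pull f (downMap h a) (toDown_invertible f h hc) _).symm.trans ?_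
  rw [← toDown_pull]
  have hc' := PicClLib.isInvertibleCl_pullCl (PicF.XTmap (pullback.snd f h) a) hc
  have h1 := goodAt_iff_geom f (T := Over.mk ((σ ≫ T.hom) ≫ h))
    (toDown_invertible f h (T := Over.mk (σ ≫ T.hom)) hc') (𝟙 _)
  have h2 := goodAt_iff_geom (pullback.snd f h) hc' (𝟙 _)
  rw [XTmap_id, PicClLib.pullCl_id] at h1 h2
  exact h1.trans ((geomGood_toDown f h hc').trans h2.symm)

end Transfer

section Between

variable {X S S₁ S₂ : Scheme.{u}} (f : X ⟶ S) (h₁ : S₁ ⟶ S) (h₂ : S₂ ⟶ S) (w : S₂ ⟶ S₁) (hw : w ≫ h₁ = h₂)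

/-- The comparison of the two ways down. -/
def downComp (T : Over S₂) : down h₂ T ⟶ down h₁ (down w T) :=
  Over.homMk (𝟙 T.left) (by
    show 𝟙 _ ≫ (T.hom ≫ w) ≫ h₁ = T.hom ≫ h₂
    rw [Category.id_comp, Category.assoc, hw])

/-- Classes over the first base seen over the second one. -/
def trans₂ {T : Over S₂} (c : PicF.Cl (PicF.XT (pullback.snd f h₁) (down w T))) :
    PicF.Cl (PicF.XT (pullback.snd f h₂) T) :=
  ofDown f h₂ (PicF.pullCl (PicF.XTmap f (downComp h₁ h₂ w hw T)) (toDown f h₁ c))

/-- The map between the curves. -/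
def curveMap : pullback f h₂ ⟶ pullback f h₁ :=
  pullback.lift (pullback.fst f h₂) (pullback.snd f h₂ ≫ w) (by rw [Category.assoc, hw]; exact pullback.condition)

theorem trans₂_mul {T : Over S₂} (c c' : PicF.Cl (PicF.XT (pullback.snd f h₁) (down w T))) :
    trans₂ f h₁ h₂ w hw (c * c') = trans₂ f h₁ h₂ w hw c * trans₂ f h₁ h₂ w hw c' := by
  rw [trans₂, toDown_mul, PicMul.pullCl_mul, ofDown, PicMul.pullCl_mul]
  rfl

theorem trans₂_invertible {T : Over S₂} {c : PicF.Cl (PicF.XT (pullback.snd f h₁) (down w T))}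
    (hc : PicF.IsInvertibleCl c) : PicF.IsInvertibleCl (trans₂ f h₁ h₂ w hw c) :=
  ofDown_invertible f h₂ (PicClLib.isInvertibleCl_pullCl _ (toDown_invertible f h₁ hc))

theorem trans₂_fromX (T : Over S₂) (E : PicF.Cl (pullback f h₁)) :
    trans₂ f h₁ h₂ w hw (fromX (pullback.snd f h₁) (down w T) E) =
      fromX (pullback.snd f h₂) T (PicF.pullCl (curveMap f h₁ h₂ w hw) E) := by
  rw [← ofDown_toDown f h₂ (fromX (pullback.snd f h₂) T _), trans₂, toDown_fromX, toDown_fromX, PicClLib.pullCl_comp,
    PicClLib.pullCl_comp]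
  congr 2
  refine pullback.hom_ext ?_ ?_
  · simp only [Category.assoc, qdown, curveMap, pullback.lift_fst]
    exact RigDatum.XTmap_fst f (downComp h₁ h₂ w hw T)
  · simp only [Category.assoc, qdown, curveMap, pullback.lift_snd, pullback.lift_snd_assoc]
    rw [← Category.assoc, RigDatum.XTmap_snd f (downComp h₁ h₂ w hw T), Category.assoc]
    rfl

variable [IsProper f] [SmoothOfRelativeDimension 1 f] [GeometricallyConnected f]
  [IsProper (pullback.snd f h₁)] [SmoothOfRelativeDimension 1 (pullback.snd f h₁)] [GeometricallyConnected (pullback.snd f h₁)]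
  [IsProper (pullback.snd f h₂)] [SmoothOfRelativeDimension 1 (pullback.snd f h₂)] [GeometricallyConnected (pullback.snd f h₂)]
  {T : Over S₂} {c : PicF.Cl (PicF.XT (pullback.snd f h₁) (down w T))} (hc : PicF.IsInvertibleCl c) (t : T.left)

include hc in
theorem goodAt_trans₂ : GoodAt (pullback.snd f h₂) T (trans₂ f h₁ h₂ w hw c) t ↔ GoodAt (pullback.snd f h₁) (down w T) c t := by
  rw [← goodAt_toDown f h₂ (trans₂_invertible f h₁ h₂ w hw hc), trans₂, toDown_ofDown,
    goodAt_pull f _ (toDown_invertible f h₁ hc), ← goodAt_toDown f h₁ hc]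
  rfl

include hc in
theorem degAt_trans₂ : degAt (pullback.snd f h₂) T (trans₂ f h₁ h₂ w hw c) t = degAt (pullback.snd f h₁) (down w T) c t := by
  rw [← degAt_toDown f h₂ (trans₂_invertible f h₁ h₂ w hw hc), trans₂, toDown_ofDown,
    degAt_pull f _ (toDown_invertible f h₁ hc), ← degAt_toDown f h₁ hc]
  rfl

end Between

section Field

variable {k : Type u} [Field k] {X : Scheme.{u}} (f : X ⟶ Spec (CommRingCat.of k)) [IsProper f]
  [SmoothOfRelativeDimension 1 f] [GeometricallyConnected f]
  (σ : Spec (CommRingCat.of k) ⟶ X) (hσ : σ ≫ f = 𝟙 _)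

theorem isSmoothProperCurve : Curve.IsSmoothProperCurve k X f := by
  haveI : Smooth f := SmoothOfRelativeDimension.smooth 1 f
  haveI := JacDeg.geometricallyIntegral f
  haveI : IsIntegral X := by
    haveI : Subsingleton ↥(Spec (CommRingCat.of k)) := inferInstanceAs (Subsingleton (PrimeSpectrum k))
    exact GeometricallyIntegral.isIntegral_of_subsingleton f
  refine ⟨inferInstance, inferInstance, inferInstance, ?_⟩
  haveI : Subsingleton ↥(Spec (CommRingCat.of k)) := inferInstanceAs (Subsingleton (PrimeSpectrum k))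
  rw [← EllLaw.dim_fibre f (IsLocalRing.closedPoint k : PrimeSpectrum k)]
  have hu : f ⁻¹' {(IsLocalRing.closedPoint k : PrimeSpectrum k)} = Set.univ :=
    Set.eq_univ_of_forall fun x => Subsingleton.elim (α := Spec (CommRingCat.of k)) _ _
  exact (IsHomeomorph.topologicalKrullDim_eq _ ((f.fiberHomeo _).trans ((Homeomorph.setCongr hu).trans (Homeomorph.Set.univ X))).isHomeomorph).symm

theorem fiberRank_const (s : Spec (CommRingCat.of k)) :
    CohIII.fiberRank f (Coh.structureModule X) 1 s =
      CohIII.fiberRank f (Coh.structureModule X) 1 (IsLocalRing.closedPoint k : PrimeSpectrum k) := by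
  haveI : Subsingleton ↥(Spec (CommRingCat.of k)) := inferInstanceAs (Subsingleton (PrimeSpectrum k))
  exact congrArg _ (Subsingleton.elim s _)

/-- The representing scheme is given by twists of enough classes of the curve. -/
theorem exists_univ (hcov : ∀ (T : Over (Spec (CommRingCat.of k))) (c : PicF.Cl (PicF.XT f T)), PicF.IsInvertibleCl c →
      ∀ t : T.left, ∃ E : PicF.Cl X, PicF.IsInvertibleCl E ∧ GoodAt f T (c * fromX f T E) t) :
    ∃ (J : Over (Spec (CommRingCat.of k))) (η : PicF.Rig f σ hσ J),
      IsProper J.hom ∧ Smooth J.hom ∧ GeometricallyIrreducible J.hom ∧ IsUniv0 f σ hσ η := by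
  have hX := isSmoothProperCurve f
  haveI : Smooth f := SmoothOfRelativeDimension.smooth 1 f
  haveI := JacDeg.geometricallyIntegral f
  haveI : GeometricallyIrreducible f := inferInstance
  obtain ⟨H, Z, hZ, hHp, -⟩ := S1170.result k X f hX (CohIII.fiberRank f (Coh.structureModule X) 1
    (IsLocalRing.closedPoint k : PrimeSpectrum k))
  have ha : ∀ (T : Over (Spec (CommRingCat.of k))) (U : T.left.Opens), IsIso ((PicF.XTproj f T).app U) := fun T U => by
    haveI := S6463.result k X f hX σ hσ T.left T.hom
    exact inferInstanceAs (IsIso ((Limits.pullback.snd f T.hom).app U))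
  obtain ⟨P, ξ, hξ⟩ := rigRepresentable f σ hσ (fiberRank_const f) Z hZ ha hcov
  haveI := hHp
  haveI : LocallyOfFiniteType P.hom := locallyOfFiniteType_of_univ f σ hσ hξ (fiberRank_const f) Z hZ hcov
  exact exists_jacobian_of_univ f σ hσ ξ hξ

end Field

end Groth.Agent.PicCurve
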